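import Cfsg.Agent.SuMult50.Complement

/-!
Complements over the radicals for `q ≥ 3` (helper50).
-/

set_option autoImplicit false

namespace Cfsg.Agent.SuMult50

open Matrix Cfsg.Agent.Unitary Cfsg.Agent.CharB.PSLMult
open scoped commutatorElement

universe v

variable {F : Type v} [Field F] {n q : ℕ} [Fintype F] (hF : Fintype.card F = q ^ 2)
include hF

theorem exists_fixed_ne (h3 : 3 ≤ q) : ∃ t : F, t ^ q = t ∧ t ≠ 0 ∧ t ≠ 1 := by
  classical
  by_contra h
  simp only [not_exists, not_and, not_not] at h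
  have hsub : (Finset.univ.filter fun x : F => x ^ q = x) ⊆ ({0, 1} : Finset F) := fun x hx => by
    rw [Finset.mem_filter] at hx
    by_cases hx0 : x = 0
    · simp [hx0]
    · simp [h x hx.2 hx0]
  have hc := (Finset.card_le_card hsub).trans Finset.card_le_two
  rw [← Fintype.card_subtype, ← Nat.card_eq_fintype_card, card_fixed hF] at hc
  omega

/-- Scalars on the frame commute with what fixes it. -/
theorem Frame.tor_fix_comm (P : Frame n F q) {t g : SU n F q} {l : F} (ht : P.IsTor t l 1)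
    (hg : g ∈ fixS P.pair) : Commute g t := by
  refine P.ext hF ?_ ?_ fun k hk => ?_
  · rw [mul_smul, mul_smul, (P.fix_frame hF hg).1, ht.1, smul_comm g, (P.fix_frame hF hg).1]
  · rw [mul_smul, mul_smul, (P.fix_frame hF hg).2, ht.2.1, smul_comm g, (P.fix_frame hF hg).2]
  · rw [mul_smul, mul_smul, ht.2.2 k hk, Pi.one_apply, one_smul,
      P.tor_smul ht (smul_mem_supp_SU hF hg (eI_mem_supp hk))]
    funext m
    simp

/-- **The complement, `q ≥ 3`.** -/
theorem hasQComplement_big {Γ : Type v} [Group Γ] {σ : Γ →* SU n F q} (E : CEx σ) (hn : 3 ≤ n)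
    (h3 : 3 ≤ q) (h43 : ¬ (n = 4 ∧ q = 3)) (P : Frame n F q) :
    HasQComplement hF P σ := by
  classical
  obtain ⟨s, hsq, hs0, hs1⟩ := exists_fixed_ne hF h3
  obtain ⟨l, hl⟩ := exists_norm_eq hF hsq
  have hl0 : l ≠ 0 := fun h => by
    rw [h, zero_pow q.succ_ne_zero] at hl
    exact hs0 hl.symm
  obtain ⟨r, hr⟩ : ∃ r, r ∉ P.pair := by
    by_contra h
    have h' : (Finset.univ : Finset (Fin n)) ⊆ P.pair := fun r _ => not_not.1 fun hr => h ⟨r, hr⟩
    have := Finset.card_le_card h'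
    rw [Finset.card_univ, Fintype.card_fin, Frame.pair, Finset.card_pair P.hij] at this
    omega
  set a : Fin n → F := fun i => if i = r then l ^ q / l else 1 with hadef
  obtain ⟨t0, ht0⟩ := P.exists_tor hF (l := l) (a := a) hl0
    (fun i => by
      simp only [hadef]
      split_ifs
      · rw [div_pow, ← pow_mul, mul_comm q, pow_mul, norm_fixed hF,
          div_self (pow_ne_zero _ hl0)]
      · exact one_pow _)
    (fun i hi => if_neg fun h : i = r => hr (h ▸ hi))
    (by
      simp only [hadef]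
      rw [Finset.prod_ite_eq', if_pos (Finset.mem_univ r)]
      field_simp)
  obtain ⟨D, rfl⟩ := E.surj t0
  have hzc : ∀ x y : Γ, σ x ∈ P.qg hF ∅ → σ y ∈ P.zgrp hF → Commute x y := by
    rintro x y hx ⟨c, hc⟩
    exact E.commute_of_cm (P.cm_qg_zero hF E hn (Or.inr h3) hc hx).2
  have hconjz : ∀ (k y : Γ) (l' : F) (a' : Fin n → F), P.IsTor (σ k) l' a' → σ y ∈ P.zgrp hF →
      σ (k * y * k⁻¹) ∈ P.zgrp hF := by
    rintro k y l' a' hk ⟨c, hc⟩
    exact ⟨_, by rw [map_mul, map_mul, map_inv]; exact P.tor_zero_conj hk hc hF⟩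
  have hcz : ∀ y : Γ, σ y ∈ P.zgrp hF → σ ⁅D, y⁆ ∈ P.zgrp hF := fun y hy => by
    rw [commutatorElement_def, map_mul, map_inv]
    exact mul_mem (hconjz D y l a ht0 hy) (inv_mem hy)
  let Z0 : Subgroup Γ :=
    { carrier := {g | ∃ y : Γ, σ y ∈ P.zgrp hF ∧ g = ⁅D, y⁆}
      one_mem' := ⟨1, by rw [map_one]; exact one_mem _, by simp⟩
      mul_mem' := by
        rintro _ _ ⟨y, hy, rfl⟩ ⟨y', hy', rfl⟩
        refine ⟨y * y', by rw [map_mul]; exact mul_mem hy hy', ?_⟩
        have hc := hzc ⁅D, y'⁆ y (P.zgrp_le_qg hF (hcz y' hy')) hy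
        calc ⁅D, y⁆ * ⁅D, y'⁆ = ⁅D, y⁆ * (y * ⁅D, y'⁆ * y⁻¹) := by rw [← hc.eq]; group
          _ = ⁅D, y * y'⁆ := by simp only [commutatorElement_def]; group
      inv_mem' := by
        rintro _ ⟨y, hy, rfl⟩
        refine ⟨y⁻¹, by rw [map_inv]; exact inv_mem hy, inv_eq_of_mul_eq_one_right ?_⟩
        have hy' : σ y⁻¹ ∈ P.zgrp hF := by rw [map_inv]; exact inv_mem hy
        have hc := hzc ⁅D, y⁻¹⁆ y (P.zgrp_le_qg hF (hcz _ hy')) hy
        calc ⁅D, y⁆ * ⁅D, y⁻¹⁆ = ⁅D, y⁆ * (y * ⁅D, y⁻¹⁆ * y⁻¹) := by rw [← hc.eq]; group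
          _ = 1 := by simp only [commutatorElement_def]; group }
  have hne : l ^ (q + 1) - 1 ≠ 0 := by rw [hl]; exact sub_ne_zero.2 hs1
  have hq : ∀ (y : Γ) (c : F), P.IsQ (σ y) 0 c → P.IsQ (σ ⁅D, y⁆) 0 ((l ^ (q + 1) - 1) * c) := by
    intro y c hc
    rw [commutatorElement_def, map_mul, map_mul, map_mul, map_inv, map_inv]
    refine P.isQ_congr (P.isQ_mul hF (zero_mem _) (neg_mem (zero_mem _))
      (P.tor_zero_conj ht0 hc hF) (P.isQ_inv hF (zero_mem _) hc)) (by simp) ?_
    rw [neg_zero, herm_zero_left]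
    ring
  have S : ZSplit hF P σ Z0 :=
    { ext := E
      three := hn
      wide := Or.inr h3
      inj := by
        rintro _ ⟨y, ⟨c, hc⟩, rfl⟩ h1
        have h2 := hq y c hc
        rw [h1] at h2
        obtain ⟨-, h3'⟩ := P.isQ_inj hF (zero_mem _) (zero_mem _) (P.isQ_one hF) h2
        have hc0 : c = 0 := (mul_eq_zero.1 h3'.symm).resolve_left hne
        have hk : y ∈ σ.ker := P.isQ_unique (hc0 ▸ hc) (P.isQ_one hF)
        rw [commutatorElement_eq_one_iff_mul_comm]
        exact Subgroup.mem_center_iff.1 (E.central hk) D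
      map := by
        refine le_antisymm ?_ ?_
        · rintro _ ⟨_, ⟨y, hy, rfl⟩, rfl⟩
          exact hcz y hy
        rintro g ⟨c, hc⟩
        have hct := P.isQ_trace hF (zero_mem _) hc
        rw [herm_zero_left, neg_zero] at hct
        obtain ⟨g', hg'⟩ := P.exists_isQ hF (w := 0) (b := c / (l ^ (q + 1) - 1)) (zero_mem _) (by
          rw [div_pow, sub_pow_q hF, norm_fixed hF, one_pow, ← add_div, hct, zero_div,
            herm_zero_left, neg_zero])
        obtain ⟨y, rfl⟩ := E.surj g'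
        refine ⟨⁅D, y⁆, ⟨y, ⟨_, hg'⟩, rfl⟩, P.isQ_unique (hq y _ hg') ?_⟩
        rwa [mul_div_cancel₀ _ hne]
      tor := by
        rintro k l' a' hk _ ⟨y, hy, rfl⟩
        refine ⟨k * y * k⁻¹, hconjz k y l' a' hk hy, ?_⟩
        obtain ⟨c, hc, hce⟩ := E.exists_central (a := k * D * k⁻¹) (a' := D) (by
          rw [map_mul, map_mul, map_inv, (P.tor_comm hF hk ht0).eq, mul_inv_cancel_right])
        rw [show k * ⁅D, y⁆ * k⁻¹ = ⁅k * D * k⁻¹, k * y * k⁻¹⁆ by
            simp only [commutatorElement_def]; group,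
          hce, ← mul_one (k * y * k⁻¹),
          Cfsg.Agent.Schur.commutatorElement_mul_central hc (one_mem _), mul_one] }
  have hw : 5 ≤ n ∨ 4 ≤ q ∨ n = 3 := by omega
  have hcomm : ∀ a b : Γ, σ a ∈ P.qg hF ∅ → σ b ∈ P.qg hF ∅ → ⁅a, b⁆ ∈ Z0 := fun a b ha hb =>
    S.comm_mem_section
      (fun k r hk hr hkr x y => by
        refine S.piece_off ?_ hk hr hkr x y
        by_contra hcon
        have hn' : n = 3 := by omega
        have h4 : ({k, r} : Finset (Fin n)).card + P.pair.card ≤ n := by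
          rw [← Finset.card_union_of_disjoint (by
            rw [Finset.disjoint_left]
            intro m hm
            rcases Finset.mem_insert.1 hm with rfl | hm
            · exact hk
            · rw [Finset.mem_singleton.1 hm]; exact hr)]
          exact (Finset.card_le_univ _).trans_eq (Fintype.card_fin n)
        rw [Finset.card_pair hkr, Frame.pair, Finset.card_pair P.hij] at h4
        omega)
      (fun k hk x y => S.piece_diag h3 hk x y) ha hb
  obtain ⟨μ, hμq, hμ0, hμ1⟩ := exists_fixed_ne hF h3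
  obtain ⟨t1, ht1⟩ := P.exists_tor₀ hF hμ0 hμq
  obtain ⟨d, rfl⟩ := E.surj t1
  have hd : P.IsMover σ d := ⟨μ, 1, ht1, fun m _ => by rw [Pi.one_apply, mul_one, hμq]; exact hμ1⟩
  by_cases hn' : n = 3
  · -- there are no root elements off the frame
    refine ⟨S.comp hcomm hd, S.comp_inj hcomm hd, S.comp_map hcomm hd, fun k hk x hx => ?_⟩
    have h1 : σ k = 1 := by
      refine eq_one_of_card_le_one hF ?_ (rootGrp_le_fixS hF _ hk)
      rw [Finset.card_compl, Frame.pair, Finset.card_pair P.hij, Fintype.card_fin]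
      omega
    rwa [← Subgroup.mem_center_iff.1 (E.central h1) x, mul_inv_cancel_right]
  refine S.hasQComplement hcomm (by omega) hd fun g hg => ⟨d, hd, P.tor_fix_comm hF ht1 ?_⟩
  exact rootGrp_le_fixS hF _ (Subgroup.subset_closure hg)

end Cfsg.Agent.SuMult50
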