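import Cfsg.Agent.SuMult50.PPrime
import Cfsg.Agent.SuMult50.SplitBig
import Cfsg.Agent.SuMult50.SplitTwo
import Cfsg.Agent.SpMult50.TwoReduce
import Cfsg.Agent.CharB.PSLMult.Cover

/-!
Schur multipliers of `SU_n(q)` and `PSU_n(q)` outside the exceptional pairs (helper50).
-/

set_option autoImplicit false

namespace Cfsg.Agent.SuMult50

open Matrix Cfsg.Agent.Unitary Cfsg.Agent.CharB.PSLMult

universe v

variable {F : Type v} [Field F] [Fintype F] {n q : ℕ}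

/-- No stem extension of `SU_n(q)` has kernel order divisible by the characteristic. -/
theorem not_dvd_stem_SU (hF : Fintype.card F = q ^ 2) {p : ℕ} [CharP F p] (hp : p.Prime)
    (hn : 3 ≤ n) (h32 : ¬ (n = 3 ∧ q = 2)) (h42 : ¬ (n = 4 ∧ q = 2)) (h43 : ¬ (n = 4 ∧ q = 3))
    (h62 : ¬ (n = 6 ∧ q = 2)) {Γ : Type v} [Group Γ] [Finite Γ] {σ : Γ →* SU n F q}
    (hσ : Cfsg.IsStemExtension σ) : ¬ p ∣ Nat.card σ.ker := by
  by_cases h3 : 3 ≤ q
  · exact not_dvd_card_ker hF (by omega) hp hσ fun P =>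
      hasQComplement_big hF ⟨hσ.1, hσ.2.1⟩ hn h3 h43 P
  have hq : q = 2 := by have := two_le_q hF; omega
  subst hq
  obtain ⟨p', k, hp', hk, hchar, hqk⟩ := exists_prime_pow hF
  obtain rfl : p = p' := CharP.eq F (by assumption : CharP F p) hchar
  obtain rfl : p = 2 :=
    (Nat.prime_dvd_prime_iff_eq hp' Nat.prime_two).1 (hqk ▸ dvd_pow_self p hk.ne')
  exact SpMult50.not_two_dvd_card_ker σ hσ fun Δ _ _ τ _ _ hτ hexp =>
    not_dvd_card_ker hF (by omega) hp hτ fun P =>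
      hasQComplement_two hF ⟨hτ.1, hτ.2.1⟩ hexp (by omega) P

/-- A stem extension of a perfect group generated by `p`-elements, with kernel prime to `p`, is
generated by `p`-elements. -/
theorem gen_of_coprime {G : Type v} [Group G] {Γ : Type v} [Group Γ] [Finite Γ] {p : ℕ}
    {σ : Γ →* G} (hG : Subgroup.closure {x : G | Pel p x} = ⊤) (hperf : Group.IsPerfect G)
    (hσ : Cfsg.IsStemExtension σ) (E : PExt p σ) :
    Subgroup.closure {g : Γ | Pel p g} = ⊤ := by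
  have hmap : (hat p σ (⊤ : Subgroup G)).map σ = ⊤ :=
    E.map_hat (S := {x : G | Pel p x}) hG.ge (fun x _ => Subgroup.mem_top x) fun x hx => hx
  have hsup : hat p σ (⊤ : Subgroup G) ⊔ Subgroup.center Γ = ⊤ := by
    rw [eq_top_iff]
    intro g _
    obtain ⟨a, ha, e⟩ := (hmap.symm ▸ Subgroup.mem_top (σ g) : σ g ∈ _)
    rw [show g = a * (a⁻¹ * g) by group]
    exact Subgroup.mul_mem_sup ha (hσ.2.1 (by simp [MonoidHom.mem_ker, e]))
  have htop := eq_top_of_sup_center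
    (Cfsg.Agent.Schur.isPerfect_of_stem hperf σ hσ).commutator_eq_top hsup
  rw [eq_top_iff, ← htop]
  exact Subgroup.closure_mono fun g hg => hg.1

/-- **`SU_n(q)` has trivial multiplier.** -/
theorem hasCyclicSchurMultiplier_SU (hF : Fintype.card F = q ^ 2) (hn : 3 ≤ n)
    (h32 : ¬ (n = 3 ∧ q = 2)) (h42 : ¬ (n = 4 ∧ q = 2)) (h43 : ¬ (n = 4 ∧ q = 3))
    (h62 : ¬ (n = 6 ∧ q = 2)) : Cfsg.HasCyclicSchurMultiplier (SU n F q) 1 := by
  obtain ⟨p, k, hp, hk, hchar, hqk⟩ := exists_prime_pow hF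
  refine Cfsg.Agent.Schur.hasCyclicSchurMultiplier_one_of_forall fun Γ _ _ σ hσ => ?_
  have E : PExt p σ :=
    ⟨hp, hσ.1, hσ.2.1, not_dvd_stem_SU hF hp hn h32 h42 h43 h62 hσ⟩
  exact ptriv_SU hF n (by omega) h32 Γ σ E
    (gen_of_coprime (SU_gen hF h32) ⟨commutator_SU_eq_top hF hn h32⟩ hσ E)

/-- The centre of `SU_n(q)` is cyclic. -/
theorem isCyclic_center_SU (hF : Fintype.card F = q ^ 2) (hn : 2 ≤ n) :
    IsCyclic (Subgroup.center (SU n F q)) := by
  set i₀ : Fin n := ⟨0, by omega⟩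
  let f : Subgroup.center (SU n F q) →* F :=
    { toFun := fun g => ((g : SU n F q) • (eI i₀ : Fin n → F)) i₀
      map_one' := by simp [eI]
      map_mul' := by
        rintro ⟨g, hg⟩ ⟨h, hh⟩
        obtain ⟨r, hr⟩ := (mem_center_iff hF hn).1 hg
        obtain ⟨s, hs⟩ := (mem_center_iff hF hn).1 hh
        show ((g * h) • (eI i₀ : Fin n → F)) i₀ = (g • eI i₀ : Fin n → F) i₀ * (h • eI i₀ : Fin n → F) i₀
        rw [mul_smul, hs, hr, hr]
        simp [eI] }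
  refine isCyclic_of_subgroup_isDomain f ?_
  rintro ⟨g, hg⟩ ⟨h, hh⟩ e
  obtain ⟨r, hr⟩ := (mem_center_iff hF hn).1 hg
  obtain ⟨s, hs⟩ := (mem_center_iff hF hn).1 hh
  have e' : (g • eI i₀ : Fin n → F) i₀ = (h • eI i₀ : Fin n → F) i₀ := e
  rw [hr, hs] at e'
  refine Subtype.ext (eq_of_smul_eq_SU fun x => ?_)
  simp [eI] at e'
  rw [hr, hs, e']

/-- **`PSU_n(q)` has multiplier cyclic of order `gcd(n, q + 1)`.** -/
theorem hasCyclicSchurMultiplier_PSU (hF : Fintype.card F = q ^ 2) (hn : 3 ≤ n)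
    (h32 : ¬ (n = 3 ∧ q = 2)) (h42 : ¬ (n = 4 ∧ q = 2)) (h43 : ¬ (n = 4 ∧ q = 3))
    (h62 : ¬ (n = 6 ∧ q = 2)) :
    Cfsg.HasCyclicSchurMultiplier (Cfsg.PSU n F q) (Nat.gcd n (q + 1)) := by
  let π : SU n F q →* Cfsg.PSU n F q := QuotientGroup.mk' _
  have hk : π.ker = Subgroup.center (SU n F q) := QuotientGroup.ker_mk' _
  have : IsCyclic π.ker := by rw [hk]; exact isCyclic_center_SU hF (by omega)
  exact hasCyclicSchurMultiplier_of_cover ⟨commutator_SU_eq_top hF hn h32⟩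
    (hasCyclicSchurMultiplier_SU hF hn h32 h42 h43 h62) π (QuotientGroup.mk'_surjective _) hk.le
    (by rw [hk]; exact card_center hF (by omega))

end Cfsg.Agent.SuMult50
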