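import Cfsg.Agent.SuMult50.Blocks
import Mathlib.GroupTheory.PGroup
import Mathlib.LinearAlgebra.FiniteDimensional.Defs

/-!
`SU₃(q)`, `q ≥ 3`, has no multiplier prime to `p` (helper50).
-/

set_option autoImplicit false

namespace Cfsg.Agent.SuMult50

open Matrix Subgroup Cfsg.Agent.Unitary Cfsg.Agent.CharB.PSLMult
open scoped commutatorElement

universe v

variable {F : Type v} [Field F] {q : ℕ} [Fintype F] (hF : Fintype.card F = q ^ 2)
include hF

/-- An invariant proper subspace gives `l ∣ q^4 - 1`. -/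
theorem dvd_of_invariant {l : ℕ} (hl : l.Prime) (hlq : ¬ l ∣ q) {x : SU 3 F q} (hx : x ^ l = 1) (hx1 : x ≠ 1)
    {W : Submodule F (Fin 3 → F)} (hW : ∀ w ∈ W, x • w ∈ W) (h0 : W ≠ ⊥) (h1 : W ≠ ⊤) :
    l ∣ q ^ 4 - 1 := by
  classical
  have := Fact.mk hl
  have hdiv : ∀ k : ℕ, 1 ≤ k → k ≤ 2 → ∀ a : ℕ, q ^ (2 * (a + k)) ≡ q ^ (2 * a) [MOD l] →
      Nat.Coprime q l → l ∣ q ^ 4 - 1 := by
    intro k hk1 hk2 a h hco
    rw [mul_add, pow_add, ← Nat.mul_one (q ^ (2 * a)), mul_assoc, one_mul] at h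
    have h' : q ^ (2 * k) ≡ 1 [MOD l] :=
      Nat.ModEq.cancel_left_of_coprime (hco.symm.pow_right _) h
    have h4 : q ^ 4 ≡ 1 [MOD l] := by
      obtain rfl | rfl : k = 1 ∨ k = 2 := by omega
      · simpa [← pow_mul] using h'.pow 2
      · exact h'
    exact (Nat.modEq_iff_dvd' (Nat.one_le_pow _ _ (q_pos hF))).1 h4.symm
  have hcard : ∀ V : Submodule F (Fin 3 → F),
      Fintype.card V = q ^ (2 * Module.finrank F V) := fun V => by
    rw [Module.card_eq_pow_finrank (K := F), hF, ← pow_mul]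
  let Fx : Submodule F (Fin 3 → F) :=
    { carrier := {w | x • w = w}
      zero_mem' := smul_zero x
      add_mem' := fun {a b} ha hb => by simp only [Set.mem_setOf_eq, smul_add] at *; rw [ha, hb]
      smul_mem' := fun c a ha => by simp only [Set.mem_setOf_eq] at *; rw [smul_comm, ha] }
  have cong : ∀ V : Submodule F (Fin 3 → F), (∀ w ∈ V, x • w ∈ V) →
      Fintype.card V ≡ Fintype.card ↥(V ⊓ Fx) [MOD l] := by
    intro V hV
    let f : Function.End V := fun w => ⟨x • (w : Fin 3 → F), hV _ w.2⟩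
    have hpow : ∀ (k : ℕ) (w : V), ((f ^ k) w : Fin 3 → F) = x ^ k • (w : Fin 3 → F) := by
      intro k
      induction k with
      | zero => intro w; rw [pow_zero, pow_zero, one_smul]; rfl
      | succ k ih =>
        intro w
        rw [pow_succ, pow_succ, mul_smul]
        exact ih (f w)
    have hf : f ^ l ^ 1 = 1 := funext fun w => Subtype.ext (by
      rw [pow_one, hpow, hx, one_smul]; rfl)
    have h := Equiv.Perm.card_fixedPoints_modEq hf
    refine h.trans (congrArg (· % l) ?_)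
    exact Fintype.card_congr
      { toFun := fun w => ⟨w.1.1, w.1.2, congrArg Subtype.val w.2⟩
        invFun := fun w => ⟨⟨w.1, w.2.1⟩, Subtype.ext w.2.2⟩
        left_inv := fun w => rfl
        right_inv := fun w => rfl }
  have hco : Nat.Coprime q l := ((hl.coprime_iff_not_dvd).2 hlq).symm
  have hWpos : 1 ≤ Module.finrank F W := Nat.one_le_iff_ne_zero.2 fun h =>
    h0 (Submodule.finrank_eq_zero.1 h)
  have hW2 : Module.finrank F W ≤ 2 := by
    have h := Submodule.finrank_lt h1
    rw [Module.finrank_fin_fun] at h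
    omega
  by_cases hFW : W ⊓ Fx = ⊥
  · have h := cong W hW
    rw [hcard, hcard, hFW, finrank_bot] at h
    exact hdiv _ hWpos hW2 0 (by rwa [zero_add]) hco
  · have h := cong ⊤ (fun _ _ => Submodule.mem_top)
    rw [hcard, hcard, top_inf_eq, finrank_top, Module.finrank_fin_fun] at h
    have hF0 : 1 ≤ Module.finrank F Fx := Nat.one_le_iff_ne_zero.2 fun h0' => hFW (by
      rw [Submodule.finrank_eq_zero.1 h0', inf_bot_eq])
    have hF3 : Module.finrank F Fx < 3 := by
      have hne : Fx ≠ ⊤ := fun h' => hx1 (eq_of_smul_eq_SU fun v => by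
        rw [one_smul]; exact (h' ▸ Submodule.mem_top : v ∈ Fx))
      have := Submodule.finrank_lt hne
      rwa [Module.finrank_fin_fun] at this
    exact hdiv (3 - Module.finrank F Fx) (by omega) (by omega) (Module.finrank F Fx)
      (by rwa [Nat.add_sub_cancel' hF3.le]) hco

/-- The commutant of an element without invariant subspaces has commutative image. -/
theorem sylow_cyclic_three {l : ℕ} [Fact l.Prime] (hlq : ¬ l ∣ q) (h4 : ¬ l ∣ q ^ 4 - 1)
    (P : Sylow l (SU 3 F q)) : IsCyclic (P : Subgroup (SU 3 F q)) := by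
  classical
  have hl : l.Prime := Fact.out
  rcases subsingleton_or_nontrivial (P : Subgroup (SU 3 F q)) with hP | hP
  · exact isCyclic_of_subsingleton
  have hnt : Nontrivial (center (P : Subgroup (SU 3 F q))) := P.isPGroup'.center_nontrivial
  have hd : l ∣ Nat.card (center (P : Subgroup (SU 3 F q))) := by
    obtain ⟨k, hk⟩ := IsPGroup.iff_card.1 (P.isPGroup'.to_subgroup (center _))
    rcases k with - | k
    · exact absurd hk (by simpa using (Finite.one_lt_card (α := center (P : Subgroup (SU 3 F q)))).ne')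
    · exact hk ▸ dvd_pow_self l k.succ_ne_zero
  obtain ⟨⟨⟨x, hxP⟩, hxc⟩, hord⟩ := exists_prime_orderOf_dvd_card' l hd
  rw [Subgroup.orderOf_mk, Subgroup.orderOf_mk] at hord
  have hx : x ^ l = 1 := hord ▸ pow_orderOf_eq_one x
  have hx1 : x ≠ 1 := fun h => by
    rw [h, orderOf_one] at hord
    exact hl.ne_one hord.symm
  have hirr : ∀ W : Submodule F (Fin 3 → F), (∀ w ∈ W, x • w ∈ W) → W ≠ ⊥ → W = ⊤ :=
    fun W hW h0 => by_contra fun h1 => h4 (dvd_of_invariant hF hl hlq hx hx1 hW h0 h1)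
  set M : Matrix (Fin 3) (Fin 3) F := x.1.1 with hM
  let C : Subalgebra F (Matrix (Fin 3) (Fin 3) F) := Subalgebra.centralizer F {M}
  have hCM : ∀ A ∈ C, ∀ v, A *ᵥ (x • v) = x • (A *ᵥ v) := fun A hA v => by
    show A *ᵥ (M *ᵥ v) = M *ᵥ (A *ᵥ v)
    rw [mulVec_mulVec, mulVec_mulVec, Subalgebra.mem_centralizer_iff _ |>.1 hA M rfl]
  have hzero : ∀ A ∈ C, ∀ v : Fin 3 → F, v ≠ 0 → A *ᵥ v = 0 → A = 0 := by
    intro A hA v hv hAv
    let K : Submodule F (Fin 3 → F) := LinearMap.ker A.mulVecLin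
    have hK : K = ⊤ := hirr K (fun w hw => by
      simp only [K, LinearMap.mem_ker, mulVecLin_apply] at hw ⊢
      rw [hCM A hA, hw, smul_zero]) fun h => hv (by
      have : v ∈ K := hAv
      rwa [h, Submodule.mem_bot] at this)
    refine Matrix.ext_of_mulVec_single fun i => ?_
    rw [zero_mulVec]
    exact (hK ▸ Submodule.mem_top : Pi.single i (1 : F) ∈ K)
  have hMC : ∀ k : ℕ, M ^ k ∈ C := fun k => by
    rw [Subalgebra.mem_centralizer_iff]
    intro g hg
    rw [Set.mem_singleton_iff.1 hg]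
    exact (Commute.self_pow M k).eq
  set e : Fin 3 → F := eI 0 with he
  have he0 : e ≠ 0 := fun h => by simpa [e, eI] using congrFun h 0
  let Φ : Matrix (Fin 3) (Fin 3) F →ₗ[F] (Fin 3 → F) :=
    { toFun := fun A => A *ᵥ e
      map_add' := fun A B => add_mulVec A B e
      map_smul' := fun c A => smul_mulVec c A e }
  let S : Submodule F (Matrix (Fin 3) (Fin 3) F) := Submodule.span F (Set.range fun k : ℕ => M ^ k)
  have hSC : ∀ A ∈ S, A ∈ C := fun A hA => by
    refine (Submodule.span_le (p := Subalgebra.toSubmodule C)).2 ?_ hA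
    rintro _ ⟨k, rfl⟩
    exact hMC k
  have hS : S.map Φ = ⊤ := by
    refine hirr _ ?_ fun h => he0 ?_
    · rintro _ ⟨A, hA, rfl⟩
      refine ⟨M * A, ?_, (mulVec_mulVec e M A).symm⟩
      refine (Submodule.span_le (p := S.comap (LinearMap.mulLeft F M))).2 ?_ hA
      rintro _ ⟨k, rfl⟩
      exact Submodule.subset_span ⟨k + 1, pow_succ' M k⟩
    · have : (1 : Matrix (Fin 3) (Fin 3) F) *ᵥ e ∈ S.map Φ :=
        ⟨1, Submodule.subset_span ⟨0, pow_zero M⟩, rfl⟩
      rwa [h, Submodule.mem_bot, one_mulVec] at this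
  have hCS : ∀ B ∈ C, B ∈ S := fun B hB => by
    obtain ⟨A, hA, hAe⟩ := (hS ▸ Submodule.mem_top : B *ᵥ e ∈ S.map Φ)
    have hz : B - A = 0 := hzero _ (sub_mem hB (hSC A hA)) e he0 (by
      rw [sub_mulVec]; exact sub_eq_zero.2 hAe.symm)
    rwa [sub_eq_zero.1 hz]
  have hcomm : ∀ A ∈ C, ∀ B ∈ C, A * B = B * A := fun A hA B hB => by
    have := hCS B hB
    induction this using Submodule.span_induction with
    | mem B hB' =>
      obtain ⟨k, rfl⟩ := hB'
      exact (Commute.pow_right (show Commute A M from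
        ((Subalgebra.mem_centralizer_iff _).1 hA M rfl).symm) k).eq
    | zero => rw [mul_zero, zero_mul]
    | add B B' hB1 hB2 h1 h2 => rw [mul_add, add_mul, h1 (hSC B hB1), h2 (hSC B' hB2)]
    | smul c B hB1 h1 => rw [mul_smul_comm, smul_mul_assoc, h1 (hSC B hB1)]
  let : CommRing C := { (inferInstance : Ring C) with
    mul_comm := fun A B => Subtype.ext (hcomm A.1 A.2 B.1 B.2) }
  have : IsDomain C := by
    have : NoZeroDivisors C := ⟨fun {A B} h => by
      by_contra hc
      rw [not_or] at hc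
      obtain ⟨v, hv⟩ : ∃ v, B.1 *ᵥ v ≠ 0 := by
        by_contra hB
        exact hc.2 (Subtype.ext (Matrix.ext_of_mulVec_single fun i => by
          rw [show (0 : C).1 = 0 from rfl, zero_mulVec]
          exact not_not.1 fun h0 => hB ⟨_, h0⟩))
      refine hc.1 (Subtype.ext (hzero A.1 A.2 _ hv ?_))
      rw [mulVec_mulVec, show A.1 * B.1 = (A * B).1 from rfl, h]
      exact zero_mulVec v⟩
    have : Nontrivial C := ⟨1, 0, fun h => one_ne_zero (congrArg Subtype.val h)⟩
    exact NoZeroDivisors.to_isDomain _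
  have hmem : ∀ g : (P : Subgroup (SU 3 F q)), (g.1.1.1 : Matrix (Fin 3) (Fin 3) F) ∈ C := fun g => by
    rw [Subalgebra.mem_centralizer_iff]
    rintro _ rfl
    have := congrArg (fun z : (P : Subgroup (SU 3 F q)) => (z.1.1.1 : Matrix (Fin 3) (Fin 3) F))
      (Subgroup.mem_center_iff.1 hxc g)
    simpa [M] using this.symm
  refine isCyclic_of_subgroup_isDomain
    ({ toFun := fun g => ⟨g.1.1.1, hmem g⟩
       map_one' := rfl
       map_mul' := fun g h => rfl } : (P : Subgroup (SU 3 F q)) →* C) fun g h e => ?_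
  exact Subtype.ext (Subtype.ext (Subtype.ext (congrArg Subtype.val e :)))

/-- **`SU₃(q)` has no multiplier prime to `p`.** -/
theorem ptriv_SU_three {p : ℕ} [CharP F p] (h3 : 3 ≤ q) : PTriv.{v, v} p (SU 3 F q) := by
  intro Γ _ _ σ E hgen
  classical
  have hσ := stem_of_gen E hgen
  have CE : CEx σ := ⟨E.surj, E.central⟩
  refine ker_eq_bot_of_primes E fun l hl hlp => ?_
  have := Fact.mk hl
  obtain ⟨p', k, hp', hk, hchar, hqk⟩ := exists_prime_pow hF
  obtain rfl : p = p' := CharP.eq F (by assumption : CharP F p) hchar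
  have hlq : ¬ l ∣ q := fun h => hlp ((Nat.prime_dvd_prime_iff_eq hl hp').1 (hl.dvd_of_dvd_pow (hqk ▸ h)))
  by_cases hb : l ∣ q ^ 2 + 1 - q
  swap
  · refine not_dvd_of_subgroup hσ hl (lineStab (0 : Fin 3)) ?_ fun z hz hzH _ =>
      ker_comm_lineStab hF (k := 2) (ptriv_SU_two hF) (by omega) E 0 z hz hzH
    intro hd
    have hc := (lineStab (0 : Fin 3) : Subgroup (SU 3 F q)).card_mul_index
    rw [card_lineStab hF (j := (1 : Fin 3)) (by decide), card_fixS_singleton hF (k := 2),
      card_SU_two hF, card_SU_three hF] at hc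
    have e : q ^ 3 + 1 = (q + 1) * (q ^ 2 + 1 - q) := by
      have : q ≤ q ^ 2 + 1 := by nlinarith
      zify [this]; ring
    have hidx : (lineStab (0 : Fin 3) : Subgroup (SU 3 F q)).index = q ^ 2 * (q ^ 2 + 1 - q) := by
      refine Nat.eq_of_mul_eq_mul_left (show 0 < (q + 1) * (q * (q ^ 2 - 1)) from ?_) ?_
      · have : 0 < q ^ 2 - 1 := by
          have : 9 ≤ q ^ 2 := by nlinarith
          omega
        positivity
      · rw [hc, e]; ring
    rw [hidx] at hd
    rcases (Nat.Prime.dvd_mul hl).1 hd with h | h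
    · exact hlq (hl.dvd_of_dvd_pow h)
    · exact hb h
  by_cases hl3 : l = 3
  · subst hl3
    have hq1 : 3 ∣ q + 1 := by
      have hm := Nat.mod_lt q (show 3 > 0 by norm_num)
      have h2 : (q ^ 2 + 1 - q) % 3 = 0 := Nat.mod_eq_zero_of_dvd hb
      have hle : q ≤ q ^ 2 := by nlinarith
      obtain ⟨j, r, hr, rfl⟩ : ∃ j r, r < 3 ∧ q = 3 * j + r := ⟨q / 3, q % 3, hm, (Nat.div_add_mod q 3).symm⟩
      have : (3 * j + r) ^ 2 = 3 * (3 * j ^ 2 + 2 * j * r) + r ^ 2 := by ring
      interval_cases r <;> omega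
    have hneg : (-1 : F) ^ (3 + 1) = 1 := by norm_num
    let H : Subgroup (SU 3 F q) := closure (((diagT : Subgroup (SU 3 F q)) : Set (SU 3 F q)) ∪
      {pS hF hneg (finRotate 3), pS hF hneg 1})
    refine not_dvd_of_subgroup hσ hl H ?_ fun z hz hzH hz3 => ?_
    · have hn : ∀ h ∈ H, ∀ x ∈ (diagT : Subgroup (SU 3 F q)), h * x * h⁻¹ ∈ diagT := by
        have hle : H ≤ normalizer ((diagT : Subgroup (SU 3 F q)) : Set (SU 3 F q)) := by
          refine (closure_le _).2 ?_
          rintro g (hg | hg)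
          · exact le_normalizer hg
          · obtain ⟨π, rfl⟩ : ∃ π, g = pS hF hneg π := by
              rcases hg with rfl | rfl <;> exact ⟨_, rfl⟩
            rw [SetLike.mem_coe, mem_normalizer_iff]
            refine fun x => ⟨pS_conj_mem hF hneg π, fun h => ?_⟩
            have := pS_inv_conj_mem hF hneg π h
            rwa [show (pS hF hneg π)⁻¹ * (pS hF hneg π * x * (pS hF hneg π)⁻¹) * pS hF hneg π = x by
              group] at this
        exact fun h hh x hx => (mem_normalizer_iff.1 (hle hh) x).1 hx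
      obtain ⟨m, hm⟩ := card_diag_dvd hF hneg (finRotate 3) (by decide) (by decide) (H := H)
        (fun x hx => Subgroup.subset_closure (Or.inl hx))
        (Subgroup.subset_closure (Or.inr (Or.inl rfl))) hn
      intro hd
      have hc := H.card_mul_index
      rw [hm, card_diagT hF 2, card_SU_three hF] at hc
      obtain ⟨j, rfl⟩ : ∃ j, q = 3 * j + 2 := ⟨(q + 1) / 3 - 1, by omega⟩
      obtain ⟨i, hi⟩ := hd
      rw [hi] at hc
      have e2 : (3 * j + 2) ^ 2 - 1 = (3 * j + 1) * (3 * j + 3) := by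
        rw [show (3 * j + 2) ^ 2 = (3 * j + 1) * (3 * j + 3) + 1 by ring, Nat.add_sub_cancel]
      have e3 : (3 * j + 2) ^ 3 + 1 = (3 * j + 3) * (3 * (3 * j ^ 2 + 3 * j + 1)) := by ring
      rw [e2, e3] at hc
      have hj : (3 * j + 2) ^ 3 * (3 * j + 1) * (3 * j ^ 2 + 3 * j + 1) = 3 * (m * i) := by
        have h9 : 0 < 3 * (3 * j + 3) ^ 2 := by positivity
        refine Nat.eq_of_mul_eq_mul_left h9 ?_
        calc 3 * (3 * j + 3) ^ 2 * ((3 * j + 2) ^ 3 * (3 * j + 1) * (3 * j ^ 2 + 3 * j + 1))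
            = (3 * j + 2) ^ 3 * ((3 * j + 1) * (3 * j + 3)) *
              ((3 * j + 3) * (3 * (3 * j ^ 2 + 3 * j + 1))) := by ring
          _ = _ := by rw [← hc]; ring
      have h' : 3 ∣ (3 * j + 2) ^ 3 * (3 * j + 1) * (3 * j ^ 2 + 3 * j + 1) := ⟨_, hj⟩
      rcases (Nat.Prime.dvd_mul Nat.prime_three).1 h' with h' | h'
      · rcases (Nat.Prime.dvd_mul Nat.prime_three).1 h' with h' | h'
        · have := Nat.prime_three.dvd_of_dvd_pow h'; omega
        · omega
      · obtain ⟨c, hc'⟩ := h'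
        have : 3 * j ^ 2 + 3 * j + 1 = 3 * (j ^ 2 + j) + 1 := by ring
        omega
    · refine ker_comm_diag hF CE hneg 0 (finRotate 3) 1 (Equiv.swap 0 2) 1 (by decide)
        (Commute.one_right _) (Commute.one_right _) (by decide) (by decide) ?_ (fun f _ i => rfl)
        (by decide) le_rfl z hz hzH ?_
      · intro f hf i
        have a : f 1 = f 0 := by simpa [show finRotate 3 0 = 1 by decide] using hf 0
        have b : f 2 = f 1 := by simpa [show finRotate 3 1 = 2 by decide] using hf 1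
        fin_cases i <;> simp [Equiv.swap_apply_def, a, b]
      · exact Odd.of_dvd_nat (by decide) (orderOf_dvd_of_pow_eq_one hz3)
  · have h4 : ¬ l ∣ q ^ 4 - 1 := by
      intro h4
      have hz : ((q : ZMod l) ^ 2 + 1 - q) = 0 := by
        have hle : q ≤ q ^ 2 + 1 := by nlinarith
        have := (ZMod.natCast_eq_zero_iff _ _).2 hb
        simpa [Nat.cast_sub hle] using this
      have h4' : (q : ZMod l) ^ 4 - 1 = 0 := by
        have := (ZMod.natCast_eq_zero_iff _ _).2 h4
        simpa [Nat.cast_sub (Nat.one_le_pow 4 q (q_pos hF))] using this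
      have h0 : ((3 : ℕ) : ZMod l) = 0 := by
        push_cast
        linear_combination (1 - ((q : ZMod l) - 2) * ((q : ZMod l) ^ 2 + q)) * hz + ((q : ZMod l) - 2) * h4'
      exact hl3 ((Nat.prime_dvd_prime_iff_eq hl Nat.prime_three).1
        ((ZMod.natCast_eq_zero_iff _ _).1 h0))
    let P : Sylow l (SU 3 F q) := default
    have : IsCyclic (P : Subgroup (SU 3 F q)) := sylow_cyclic_three hF hlq h4 P
    have : IsCyclic (P : Subgroup (SU 3 F q)).subtype.range := by
      rw [Subgroup.range_subtype]; infer_instance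
    refine not_dvd_of_subgroup hσ hl P P.not_dvd_index fun z hz hzH _ => ?_
    refine ker_comm_of_cyclic CE (P : Subgroup (SU 3 F q)).subtype (K := ⊥)
      (fun g hg _ => Subgroup.mem_bot.1 hg) (fun x hx => ?_) (fun a _ k hk => ?_) z hz hzH
    · rw [show (x : SU 3 F q) = 1 from hx]; exact one_mem _
    · rw [Subgroup.mem_bot.1 hk]; simp

end Cfsg.Agent.SuMult50
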