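import Cfsg.Agent.SuMult50.Mono
import Cfsg.Agent.SpMult50.PPrime
import Cfsg.Agent.Lib.Symplectic.Card

/-!
`Sp₄(q)` inside `SU₄(q)` and the index of its image (helper50).
-/

set_option autoImplicit false

namespace Cfsg.Agent.SuMult50

open Matrix Cfsg.Agent.Unitary Cfsg.Agent.CharB.PSLMult

universe v

variable {F : Type v} [Field F] {n q : ℕ}

theorem det_Sp {p : ℕ} [hp : Fact p.Prime] [CharP F p] {m : ℕ} (A : Symplectic.Sp m F) :
    A.1.det = 1 := by
  let d : Symplectic.Sp m F →* F :=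
    { toFun := fun A => A.1.det
      map_one' := Matrix.det_one
      map_mul' := fun A B => Matrix.det_mul A.1 B.1 }
  have hA : A ∈ (Symplectic.tvGroup ∅ : Subgroup (Symplectic.Sp m F)) :=
    Symplectic.tvGroup_empty (F := F) (m := m) ▸ Subgroup.mem_top A
  show d A = 1
  induction hA using Subgroup.closure_induction with
  | mem x hx =>
    obtain ⟨w, -, c, rfl⟩ := hx
    obtain ⟨k, hk⟩ := SpMult50.pel_tv' (p := p) w c
    have h : d (Symplectic.tv w c) ^ p ^ k = 1 := by rw [← map_pow, hk, map_one]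
    refine iterateFrobenius_inj F p k ?_
    rw [iterateFrobenius_def, iterateFrobenius_def, one_pow, h]
  | one => exact map_one d
  | mul a b _ _ ha hb => rw [map_mul, ha, hb, mul_one]
  | inv a _ ha =>
    have h := map_mul d a⁻¹ a
    rwa [inv_mul_cancel, map_one, ha, mul_one, eq_comm] at h

variable [Fintype F] (hF : Fintype.card F = q ^ 2)
include hF

theorem form_of_matrix (A : Matrix (Fin n) (Fin n) F)
    (h : Aᵀ * (conjHom hF).mapMatrix A = 1) (x y : Fin n → F) :
    herm q (A *ᵥ x) (A *ᵥ y) = herm q x y := by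
  have e : ∀ u v : Fin n → F, herm q u v = u ⬝ᵥ ((conjHom hF) ∘ v) := fun u v => rfl
  have e2 : (conjHom hF) ∘ (A *ᵥ y) = (conjHom hF).mapMatrix A *ᵥ ((conjHom hF) ∘ y) :=
    funext fun i => RingHom.map_mulVec (conjHom hF) A y i
  rw [e, e, e2, ← vecMul_transpose, ← dotProduct_mulVec, mulVec_mulVec, h, one_mulVec]

/-- A copy of `Sp₄(q)` in `SU₄(q)`, with no multiplier prime to `p`. -/
theorem exists_sp_subgroup {p : ℕ} [CharP F p] :
    ∃ X : Subgroup (SU 4 F q), PTriv.{v, v} p X ∧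
      Subgroup.closure {x : X | Pel p x} = ⊤ ∧ X.index = q ^ 2 * (q ^ 3 + 1) := by
  classical
  obtain ⟨p', k, hp', -, hchar, -⟩ := exists_prime_pow hF
  obtain rfl : p = p' := CharP.eq F (by assumption : CharP F p) hchar
  have := Fact.mk hp'
  let L := (conjHom hF).eqLocusField (RingHom.id F)
  have hc : Nat.card L = q :=
    (Nat.card_congr (Equiv.subtypeEquivRight fun x => Iff.rfl)).trans (card_fixed hF)
  let : Fintype L := Fintype.ofFinite L
  have hL : Fintype.card L = q := by rw [← Nat.card_eq_fintype_card]; exact hc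
  have : CharP L p := (RingHom.charP_iff L.subtype L.subtype.injective p).2 inferInstance
  set f := (conjHom hF).mapMatrix (m := Fin 4) with hf
  let e : Fin 2 ⊕ Fin 2 ≃ Fin 4 := finSumFinEquiv
  let ι : Matrix (Fin 2 ⊕ Fin 2) (Fin 2 ⊕ Fin 2) L →+* Matrix (Fin 4) (Fin 4) F :=
    (Matrix.reindexAlgEquiv F F e).toRingEquiv.toRingHom.comp L.subtype.mapMatrix
  have hι : ∀ M i j, ι M i j = ((M (e.symm i) (e.symm j) : L) : F) := fun M i j => rfl
  have hιf : ∀ M, f (ι M) = ι M := fun M => by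
    ext i j
    exact (M (e.symm i) (e.symm j)).2
  have hιT : ∀ M, (ι M)ᵀ = ι Mᵀ := fun M => rfl
  obtain ⟨θ, hθ0, hθ⟩ := exists_trace_zero_ne_zero hF
  have hθq : θ ^ q = -θ := eq_neg_of_add_eq_zero_right hθ
  obtain ⟨u, v, hu, hv, huu, hvv, huv⟩ := exists_std_pair hF (show (0 : Fin 4) ≠ 1 by decide)
  obtain ⟨u', v', hu', hv', huu', hvv', huv'⟩ := exists_std_pair hF (show (2 : Fin 4) ≠ 3 by decide)
  have cross : ∀ a b : Fin 4 → F, a ∈ supp ({0, 1}ᶜ : Finset (Fin 4)) →
      b ∈ supp ({2, 3}ᶜ : Finset (Fin 4)) → herm q a b = 0 := by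
    intro a b ha hb
    rw [herm, hermForm]
    refine Finset.sum_eq_zero fun i _ => ?_
    by_cases hi : i ∈ ({0, 1} : Finset (Fin 4))
    · rw [hb i (by fin_cases i <;> simp at hi ⊢), zero_pow_q hF, mul_zero]
    · rw [ha i (Finset.mem_compl.2 hi), zero_mul]
  let w : Fin 2 ⊕ Fin 2 → Fin 4 → F := Sum.elim ![(-θ) • v, (-θ) • v'] ![u, u']
  let B : Matrix (Fin 4) (Fin 4) F := Matrix.of fun i j => w (e.symm j) i
  have hG : Bᵀ * f B = θ • ι (Matrix.J (Fin 2) L) := by
    ext a b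
    have hab : (Bᵀ * f B) a b = herm q (w (e.symm a)) (w (e.symm b)) := rfl
    rw [hab, Matrix.smul_apply, hι, smul_eq_mul]
    generalize e.symm a = a'
    generalize e.symm b = b'
    have c1 : herm q v u = 1 := herm_one_swap hF huv
    have c2 : herm q v' u' = 1 := herm_one_swap hF huv'
    have d1 := fun x y hx hy => (herm_eq_zero_comm hF (x := x) (y := y)).1 (cross x y hx hy)
    rcases a' with a' | a' <;> rcases b' with b' | b' <;> fin_cases a' <;> fin_cases b' <;>
      simp [w, Matrix.J, Matrix.fromBlocks, herm_smul_left, herm_smul_right hF, herm_neg_left, herm_neg_right hF, huu, hvv, huu',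
        hvv', huv, huv', c1, c2, hθq, neg_pow_q hF, cross v v' hv hv', cross v u' hv hu',
        cross u v' hu hv', cross u u' hu hu', d1 v v' hv hv', d1 v u' hv hu', d1 u v' hu hv',
        d1 u u' hu hu']
  have hJ : ι (Matrix.J (Fin 2) L) * ι (Matrix.J (Fin 2) L) = -1 := by
    rw [← map_mul, Matrix.J_squared, map_neg, map_one]
  have hdet : B.det ≠ 0 := by
    intro h0
    have h1 := congrArg Matrix.det hG
    rw [Matrix.det_mul, Matrix.det_transpose, h0, zero_mul, Matrix.det_smul] at h1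
    have hJd : (ι (Matrix.J (Fin 2) L)).det ≠ 0 := fun h => by
      have h2 := congrArg Matrix.det hJ
      rw [Matrix.det_mul, h, zero_mul, Matrix.det_neg, Matrix.det_one, mul_one] at h2
      exact absurd h2.symm (pow_ne_zero _ (neg_ne_zero.2 one_ne_zero))
    exact mul_ne_zero (pow_ne_zero _ hθ0) hJd h1.symm
  have hBu : IsUnit B.det := isUnit_iff_ne_zero.2 hdet
  have hB1 : B * B⁻¹ = 1 := Matrix.mul_nonsing_inv B hBu
  have hB2 : B⁻¹ * B = 1 := Matrix.nonsing_inv_mul B hBu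
  have hform : ∀ M : Symplectic.Sp 2 L,
      (B * ι M.1 * B⁻¹)ᵀ * f (B * ι M.1 * B⁻¹) = 1 := by
    intro M
    have hM : M.1ᵀ * Matrix.J (Fin 2) L * M.1 = Matrix.J (Fin 2) L :=
      SymplecticGroup.mem_iff'.1 M.2
    rw [transpose_mul, transpose_mul, map_mul, map_mul, hιf]
    calc (B⁻¹)ᵀ * ((ι M.1)ᵀ * Bᵀ) * (f B * ι M.1 * f B⁻¹)
        = (B⁻¹)ᵀ * ((ι M.1)ᵀ * (Bᵀ * f B) * ι M.1) * f B⁻¹ := by noncomm_ring
      _ = (B⁻¹)ᵀ * (Bᵀ * f B) * f B⁻¹ := by
        rw [hG, Matrix.mul_smul, Matrix.smul_mul, hιT, ← map_mul, ← map_mul, hM]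
      _ = (B * B⁻¹)ᵀ * f (B * B⁻¹) := by rw [transpose_mul, map_mul]; noncomm_ring
      _ = 1 := by rw [hB1, transpose_one, map_one, one_mul]
  let φ : Symplectic.Sp 2 L →* SU 4 F q :=
    { toFun := fun M => ⟨⟨B * ι M.1 * B⁻¹, by
        rw [Matrix.det_mul, Matrix.det_mul, mul_right_comm, ← Matrix.det_mul, hB1, Matrix.det_one,
          one_mul]
        show ((Matrix.reindex e e) (L.subtype.mapMatrix M.1)).det = 1
        rw [Matrix.det_reindex_self, ← RingHom.map_det, det_Sp (p := p), map_one]⟩,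
        form_of_matrix hF _ (hform M)⟩
      map_one' := Subtype.ext (Subtype.ext (show B * ι 1 * B⁻¹ = 1 by rw [map_one, mul_one, hB1]))
      map_mul' := fun M N => Subtype.ext (Subtype.ext (show
          B * ι (M.1 * N.1) * B⁻¹ = B * ι M.1 * B⁻¹ * (B * ι N.1 * B⁻¹) by
        rw [map_mul, show B * ι M.1 * B⁻¹ * (B * ι N.1 * B⁻¹) =
          B * ι M.1 * (B⁻¹ * B) * ι N.1 * B⁻¹ by noncomm_ring, hB2, mul_one]
        noncomm_ring)) }
  have hφ : Function.Injective φ := by
    intro M N h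
    have h1 : B * ι M.1 * B⁻¹ = B * ι N.1 * B⁻¹ := congrArg (fun z : SU 4 F q => z.1.1) h
    have h2 : ∀ X, B⁻¹ * (B * X * B⁻¹) * B = X := fun X => by
      rw [show B⁻¹ * (B * X * B⁻¹) * B = B⁻¹ * B * X * (B⁻¹ * B) by noncomm_ring, hB2, one_mul,
        mul_one]
    have h3 : ι M.1 = ι N.1 := by rw [← h2 (ι M.1), h1, h2]
    refine Subtype.ext ?_
    ext i j
    have := congrFun (congrFun h3 (e i)) (e j)
    rw [hι, hι, e.symm_apply_apply, e.symm_apply_apply] at this
    exact this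
  refine ⟨φ.range, PTriv.of_mulEquiv (MonoidHom.ofInjective hφ) SpMult50.ptriv_Sp, ?_, ?_⟩
  · rw [eq_top_iff]
    rintro ⟨x, M, rfl⟩ -
    have hM : M ∈ (Symplectic.tvGroup ∅ : Subgroup (Symplectic.Sp 2 L)) :=
      Symplectic.tvGroup_empty (F := L) (m := 2) ▸ Subgroup.mem_top M
    show φ.rangeRestrict M ∈ _
    induction hM using Subgroup.closure_induction with
    | mem x hx =>
      obtain ⟨w, -, c, rfl⟩ := hx
      exact Subgroup.subset_closure ((SpMult50.pel_tv' (p := p) w c).map φ.rangeRestrict)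
    | one => rw [map_one]; exact one_mem _
    | mul a b _ _ ha hb => rw [map_mul]; exact mul_mem ha hb
    | inv a _ ha => rw [map_inv]; exact inv_mem ha
  · have h := φ.range.card_mul_index
    rw [Nat.card_congr (MonoidHom.ofInjective hφ).toEquiv.symm, Symplectic.card_Sp hL 2,
      card_SU_four hF] at h
    simp [Finset.prod_range_succ] at h
    refine Nat.eq_of_mul_eq_mul_left (show 0 < q ^ 4 * ((q ^ 2 - 1) * (q ^ 4 - 1)) from ?_)
      (h.trans (by ring))
    have h2 := two_le_q hF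
    have : 1 < q ^ 2 := Nat.one_lt_pow (by norm_num) (by omega)
    have : 1 < q ^ 4 := Nat.one_lt_pow (by norm_num) (by omega)
    have : 0 < q ^ 2 - 1 := by omega
    have : 0 < q ^ 4 - 1 := by omega
    positivity

end Cfsg.Agent.SuMult50
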