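import Cfsg.Agent.SuMult50.FourEven
import Cfsg.Agent.SuMult50.FourSp

/-!
`SU₄(q)` has no multiplier prime to `p` (helper50).
-/

set_option autoImplicit false

namespace Cfsg.Agent.SuMult50

open Matrix Subgroup Cfsg.Agent.Unitary Cfsg.Agent.CharB.PSLMult
open scoped commutatorElement

universe v

/-- **`SU₄(q)` has no multiplier prime to `p`**, for every `q`. -/
theorem ptriv_SU_four {F : Type v} [Field F] [Fintype F] {q : ℕ} (hF : Fintype.card F = q ^ 2)
    {p : ℕ} [CharP F p] : PTriv.{v, v} p (SU 4 F q) := by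
  intro Γ _ _ σ E hgen
  classical
  have hσ := stem_of_gen E hgen
  have CE : CEx σ := ⟨E.surj, E.central⟩
  refine ker_eq_bot_of_primes E fun l hl hlp => ?_
  have := Fact.mk hl
  obtain ⟨p', k, hp', hk, hchar, hqk⟩ := exists_prime_pow hF
  obtain rfl : p = p' := CharP.eq F (by assumption : CharP F p) hchar
  have hlq : ¬ l ∣ q := fun h =>
    hlp ((Nat.prime_dvd_prime_iff_eq hl hp').1 (hl.dvd_of_dvd_pow (hqk ▸ h)))
  have hq2 := two_le_q hF
  -- the copy of `Sp₄(q)`
  by_cases hb : l ∣ q ^ 3 + 1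
  swap
  · obtain ⟨X, hX, hXg, hXi⟩ := exists_sp_subgroup hF (p := p)
    obtain ⟨h1, h2⟩ := hat_props E X hX hXg
    refine not_dvd_of_subgroup hσ hl X ?_ fun z hz hzH _ =>
      ker_comm_of_split CE h1 h2.ge z hz hzH
    rw [hXi]
    intro h
    rcases (Nat.Prime.dvd_mul hl).1 h with h | h
    · exact hlq (hl.dvd_of_dvd_pow h)
    · exact hb h
  by_cases hq : q = 2
  · subst hq
    have hl3 : l = 3 := by
      have : l ∣ 3 ^ 2 := by norm_num at hb ⊢; exact hb
      exact (Nat.prime_dvd_prime_iff_eq hl Nat.prime_three).1 (hl.dvd_of_dvd_pow this)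
    subst hl3
    have hp2 : p = 2 := by
      have : p ∣ 2 := hqk ▸ dvd_pow_self p hk.ne'
      exact (Nat.prime_dvd_prime_iff_eq hp' Nat.prime_two).1 this
    subst hp2
    have h20 : (2 : F) = 0 := by exact_mod_cast CharP.cast_eq_zero F 2
    have hneg : (-1 : F) ^ (4 + 1) = 1 := by
      rw [show (-1 : F) = 1 by linear_combination -h20]; simp
    let π : Equiv.Perm (Fin 4) := Equiv.swap 0 1 * Equiv.swap 1 2
    let H : Subgroup (SU 4 F 2) := closure (((diagT : Subgroup (SU 4 F 2)) : Set (SU 4 F 2)) ∪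
      {pS hF hneg π, pS hF hneg 1})
    refine not_dvd_of_subgroup hσ hl H ?_ fun z hz hzH hz3 => ?_
    · have hn : ∀ h ∈ H, ∀ x ∈ (diagT : Subgroup (SU 4 F 2)), h * x * h⁻¹ ∈ diagT := by
        have hle : H ≤ normalizer ((diagT : Subgroup (SU 4 F 2)) : Set (SU 4 F 2)) := by
          refine (closure_le _).2 ?_
          rintro g (hg | hg)
          · exact le_normalizer hg
          · obtain ⟨π', rfl⟩ : ∃ π', g = pS hF hneg π' := by
              rcases hg with rfl | rfl <;> exact ⟨_, rfl⟩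
            rw [SetLike.mem_coe, mem_normalizer_iff]
            refine fun x => ⟨pS_conj_mem hF hneg π', fun h => ?_⟩
            have := pS_inv_conj_mem hF hneg π' h
            rwa [show (pS hF hneg π')⁻¹ * (pS hF hneg π' * x * (pS hF hneg π')⁻¹) *
              pS hF hneg π' = x by group] at this
        exact fun h hh x hx => (mem_normalizer_iff.1 (hle hh) x).1 hx
      obtain ⟨m, hm⟩ := card_diag_dvd hF hneg π (by decide) (by decide) (H := H)
        (fun x hx => Subgroup.subset_closure (Or.inl hx))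
        (Subgroup.subset_closure (Or.inr (Or.inl rfl))) hn
      intro hd
      have hc := H.card_mul_index
      rw [hm, card_diagT hF 3, card_SU_four hF] at hc
      obtain ⟨i, hi⟩ := hd
      rw [hi] at hc
      norm_num at hc
      have h' : (2 : ℕ) ^ 6 * 5 = 3 * (m * i) := by linarith
      norm_num at h'
      omega
    · refine ker_comm_diag hF CE hneg 3 π 1 (Equiv.swap 0 1) 1 (by decide)
        (Commute.one_right _) (Commute.one_right _) (by decide) (by decide) ?_ (fun f _ i => rfl)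
        (by decide) le_rfl z hz hzH ?_
      · intro f hf i
        have a : f 1 = f 0 := by simpa [show π 0 = 1 by decide] using hf 0
        fin_cases i <;> simp [Equiv.swap_apply_def, a]
      · exact Odd.of_dvd_nat (by decide) (orderOf_dvd_of_pow_eq_one hz3)
  have hq3 : 3 ≤ q := by omega
  by_cases hl2 : l = 2
  · subst hl2
    exact not_two_dvd_four hF (fun h => hlp h.symm) hq3 E hσ
  refine not_dvd_of_subgroup hσ hl (lineStab (0 : Fin 4)) ?_ fun z hz hzH _ =>
    ker_comm_lineStab hF (k := 3) (ptriv_SU_three hF hq3) (by omega) E 0 z hz hzH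
  have hc := (lineStab (0 : Fin 4) : Subgroup (SU 4 F q)).card_mul_index
  rw [card_lineStab hF (j := (1 : Fin 4)) (by decide), card_fixS_singleton hF (k := 3),
    card_SU_three hF, card_SU_four hF] at hc
  obtain ⟨a, rfl⟩ : ∃ a, q = a + 1 := ⟨q - 1, by omega⟩
  have e : (a + 1) ^ 4 - 1 = ((a + 1) + 1) * (a * ((a + 1) ^ 2 + 1)) := by
    rw [show (a + 1) ^ 4 = ((a + 1) + 1) * (a * ((a + 1) ^ 2 + 1)) + 1 by ring, Nat.add_sub_cancel]
  have hidx : (lineStab (0 : Fin 4) : Subgroup (SU 4 F (a + 1))).index =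
      (a + 1) ^ 3 * (a * ((a + 1) ^ 2 + 1)) := by
    have : 0 < (a + 1) ^ 2 - 1 := by
      have : 4 ≤ (a + 1) ^ 2 := by nlinarith
      omega
    refine Nat.eq_of_mul_eq_mul_left
      (show 0 < (a + 1 + 1) * ((a + 1) ^ 3 * ((a + 1) ^ 2 - 1) * ((a + 1) ^ 3 + 1)) by positivity) ?_
    rw [hc, e]; ring
  rw [hidx]
  intro hd
  have hb' : ((a : ZMod l) + 1) ^ 3 + 1 = 0 := by
    simpa using (ZMod.natCast_eq_zero_iff _ _).2 hb
  have h2 : ¬ ((2 : ℕ) : ZMod l) = 0 := fun h =>
    hl2 ((Nat.prime_dvd_prime_iff_eq hl Nat.prime_two).1 ((ZMod.natCast_eq_zero_iff _ _).1 h))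
  rcases (Nat.Prime.dvd_mul hl).1 hd with h | h
  · exact hlq (hl.dvd_of_dvd_pow h)
  rcases (Nat.Prime.dvd_mul hl).1 h with h | h
  · have h' : (a : ZMod l) = 0 := (ZMod.natCast_eq_zero_iff _ _).2 h
    refine h2 ?_
    push_cast
    rw [h'] at hb'
    linear_combination hb'
  · have h' : ((a : ZMod l) + 1) ^ 2 + 1 = 0 := by
      simpa using (ZMod.natCast_eq_zero_iff _ _).2 h
    refine h2 ?_
    push_cast
    -- `x = a + 1`: `x³ + 1 = 1 - x`, so `x = 1` and `x² + 1 = 2`
    linear_combination h' + ((a : ZMod l) + 2) * (hb' - ((a : ZMod l) + 1) * h')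

end Cfsg.Agent.SuMult50
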