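import Cfsg.Agent.SuMult50.Covering
import Cfsg.Agent.SuMult50.Four

/-!
`SU_n(q)` has no multiplier prime to `p`, `(n, q) ≠ (3, 2)` (helper50).
-/

set_option autoImplicit false

namespace Cfsg.Agent.SuMult50

open Matrix Subgroup Cfsg.Agent.Unitary Cfsg.Agent.CharB.PSLMult
open scoped commutatorElement

universe v

variable {F : Type v} [Field F] [Fintype F]

theorem card_SU_five_two (hF : Fintype.card F = 2 ^ 2) : Nat.card (SU 5 F 2) = 13685760 := by
  have h := card_SU_mul hF (n := 5) (by norm_num)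
  rw [card_GU hF] at h
  norm_num [Finset.prod_range_succ] at h ⊢
  omega

theorem card_SU_six_two (hF : Fintype.card F = 2 ^ 2) : Nat.card (SU 6 F 2) = 27590492160 := by
  have h := card_SU_mul hF (n := 6) (by norm_num)
  rw [card_GU hF] at h
  norm_num [Finset.prod_range_succ] at h ⊢
  omega

/-- A prime dividing the order once is harmless. -/
theorem not_dvd_of_once {Γ G : Type v} [Group Γ] [Finite Γ] [Group G] [Finite G] {σ : Γ →* G}
    (hσ : Cfsg.IsStemExtension σ) {l m : ℕ} (hl : l.Prime) (hG : Nat.card G = l * m)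
    (hm : ¬ l ∣ m) : ¬ l ∣ Nat.card σ.ker := by
  have := Fact.mk hl
  obtain ⟨x, hx⟩ := exists_prime_orderOf_dvd_card' (G := G) l (hG ▸ dvd_mul_right l m)
  refine not_dvd_of_subgroup hσ hl (zpowers x) ?_ fun z hz hzH _ => ?_
  · have h := (zpowers x).card_mul_index
    rw [Nat.card_zpowers, hx, hG] at h
    rwa [Nat.eq_of_mul_eq_mul_left hl.pos h]
  · have : IsCyclic (zpowers x).subtype.range := by
      rw [Subgroup.range_subtype]; infer_instance
    refine ker_comm_of_cyclic ⟨hσ.1, hσ.2.1⟩ (zpowers x).subtype (K := ⊥)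
      (fun g hg _ => Subgroup.mem_bot.1 hg) (fun y hy => ?_) (fun a _ k hk => ?_) z hz hzH
    · rw [show (y : G) = 1 from hy]; exact one_mem _
    · rw [Subgroup.mem_bot.1 hk]; simp

variable {q p : ℕ} [CharP F p]

/-- `SU₅(2)`. -/
theorem ptriv_SU_five_two (hF : Fintype.card F = 2 ^ 2) : PTriv.{v, v} p (SU 5 F 2) := by
  intro Γ _ _ σ E hgen
  have hσ := stem_of_gen E hgen
  refine ker_eq_bot_of_primes E fun l hl hlp => ?_
  have := Fact.mk hl
  obtain ⟨p', k, hp', hk, hchar, hqk⟩ := exists_prime_pow hF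
  obtain rfl : p = p' := CharP.eq F (by assumption : CharP F p) hchar
  have hl2 : l ≠ 2 := by
    rintro rfl
    exact hlp ((Nat.prime_dvd_prime_iff_eq hp' Nat.prime_two).1 (hqk ▸ dvd_pow_self p hk.ne')).symm
  by_cases h11 : l = 11
  · subst h11
    exact not_dvd_of_once hσ hl (m := 1244160) (by rw [card_SU_five_two hF]) (by norm_num)
  refine not_dvd_of_subgroup hσ hl (lineStab (0 : Fin 5)) ?_ fun z hz hzH _ =>
    ker_comm_lineStab hF (k := 4) (ptriv_SU_four hF) (by omega) E 0 z hz hzH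
  have hc := (lineStab (0 : Fin 5) : Subgroup (SU 5 F 2)).card_mul_index
  rw [card_lineStab hF (j := (1 : Fin 5)) (by decide), card_fixS_singleton hF (k := 4),
    card_SU_four hF, card_SU_five_two hF] at hc
  norm_num at hc
  rw [show (lineStab (0 : Fin 5) : Subgroup (SU 5 F 2)).index = 2 ^ 4 * 11 by norm_num; omega]
  intro hd
  rcases (Nat.Prime.dvd_mul hl).1 hd with h | h
  · exact hl2 ((Nat.prime_dvd_prime_iff_eq hl Nat.prime_two).1 (hl.dvd_of_dvd_pow h))
  · exact h11 ((Nat.prime_dvd_prime_iff_eq hl (by norm_num)).1 h)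

/-- `SU₆(2)`. -/
theorem ptriv_SU_six_two (hF : Fintype.card F = 2 ^ 2) : PTriv.{v, v} p (SU 6 F 2) := by
  intro Γ _ _ σ E hgen
  classical
  have hσ := stem_of_gen E hgen
  refine ker_eq_bot_of_primes E fun l hl hlp => ?_
  have := Fact.mk hl
  obtain ⟨p', k, hp', hk, hchar, hqk⟩ := exists_prime_pow hF
  obtain rfl : p = p' := CharP.eq F (by assumption : CharP F p) hchar
  have hp2 : p = 2 := (Nat.prime_dvd_prime_iff_eq hp' Nat.prime_two).1 (hqk ▸ dvd_pow_self p hk.ne')
  subst hp2
  by_cases h7 : l = 7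
  · subst h7
    exact not_dvd_of_once hσ hl (m := 3941498880) (by rw [card_SU_six_two hF]) (by norm_num)
  by_cases h3 : l = 3
  swap
  · refine not_dvd_of_subgroup hσ hl (lineStab (0 : Fin 6)) ?_ fun z hz hzH _ =>
      ker_comm_lineStab hF (k := 5) (ptriv_SU_five_two hF) (by omega) E 0 z hz hzH
    have hc := (lineStab (0 : Fin 6) : Subgroup (SU 6 F 2)).card_mul_index
    rw [card_lineStab hF (j := (1 : Fin 6)) (by decide), card_fixS_singleton hF (k := 5),
      card_SU_five_two hF, card_SU_six_two hF] at hc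
    norm_num at hc
    rw [show (lineStab (0 : Fin 6) : Subgroup (SU 6 F 2)).index = 2 ^ 5 * (3 * 7) by norm_num; omega]
    intro hd
    rcases (Nat.Prime.dvd_mul hl).1 hd with h | h
    · exact hlp ((Nat.prime_dvd_prime_iff_eq hl Nat.prime_two).1 (hl.dvd_of_dvd_pow h))
    · rcases (Nat.Prime.dvd_mul hl).1 h with h | h
      · exact h3 ((Nat.prime_dvd_prime_iff_eq hl Nat.prime_three).1 h)
      · exact h7 ((Nat.prime_dvd_prime_iff_eq hl (by norm_num)).1 h)
  subst h3
  have h20 : (2 : F) = 0 := by exact_mod_cast CharP.cast_eq_zero F 2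
  have hneg : (-1 : F) ^ (6 + 1) = 1 := by
    rw [show (-1 : F) = 1 by linear_combination -h20]; simp
  set π₁ : Equiv.Perm (Fin 6) := Equiv.swap 0 1 * Equiv.swap 1 2 with hπ₁
  set π₂ : Equiv.Perm (Fin 6) := Equiv.swap 3 4 * Equiv.swap 4 5 with hπ₂
  have hc12 : Commute π₁ π₂ := by rw [hπ₁, hπ₂]; exact Equiv.ext (by decide)
  have hord : orderOf π₁ = 3 ∧ orderOf π₂ = 3 := by
    rw [hπ₁, hπ₂]
    exact ⟨orderOf_eq_prime (by decide) (by decide), orderOf_eq_prime (by decide) (by decide)⟩
  obtain ⟨-, -, hSn⟩ := glue (MonoidHom.id (Equiv.Perm (Fin 6))) (X := zpowers π₁) (H := zpowers π₂)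
    (fun h hh x hx => by
      obtain ⟨i, rfl⟩ := Subgroup.mem_zpowers_iff.1 hx
      obtain ⟨j, rfl⟩ := Subgroup.mem_zpowers_iff.1 hh
      rw [((hc12.zpow_zpow i j).symm).eq, mul_inv_cancel_right]
      exact hx)
    (fun x _ h => h) (fun x _ h => h) (fun x hx h hh e => by
      simp only [MonoidHom.id_apply] at e ⊢
      have fix1 : ∀ w ∈ zpowers π₁, ∀ i : Fin 6, 3 ≤ i.val → w i = i := by
        intro w hw i hi
        obtain ⟨a, rfl⟩ := Subgroup.mem_zpowers_iff.1 hw
        exact Equiv.Perm.zpow_apply_eq_self_of_apply_eq_self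
          (by fin_cases i <;> simp [hπ₁, Equiv.swap_apply_def] at hi ⊢) a
      have fix2 : ∀ w ∈ zpowers π₂, ∀ i : Fin 6, i.val < 3 → w i = i := by
        intro w hw i hi
        obtain ⟨a, rfl⟩ := Subgroup.mem_zpowers_iff.1 hw
        exact Equiv.Perm.zpow_apply_eq_self_of_apply_eq_self
          (by fin_cases i <;> simp [hπ₂, Equiv.swap_apply_def] at hi ⊢) a
      refine Equiv.ext fun i => ?_
      by_cases hi : 3 ≤ i.val
      · simpa using fix1 x hx i hi
      · have := congrArg (fun w : Equiv.Perm (Fin 6) => w i) e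
        simp only [Equiv.Perm.mul_apply, Equiv.Perm.one_apply] at this
        rw [fix2 h hh i (by omega)] at this
        simpa using this)
  rw [Nat.card_zpowers, Nat.card_zpowers, hord.1, hord.2] at hSn
  set S : Subgroup (Equiv.Perm (Fin 6)) := zpowers π₁ ⊔ zpowers π₂ with hS
  have hinj : Function.Injective (pS (q := 2) hF hneg) := by
    intro a b h
    refine Equiv.ext fun i => ?_
    have h1 := congrArg (fun z : SU 6 F 2 => z • (eI i : Fin 6 → F)) h
    simp only [show ∀ π, pS hF hneg π = permSU π _ (sign_cast_norm hF π) (sign_cast_det hneg π)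
      from fun π => rfl, permSU_smul] at h1
    have h2 := congrFun h1 (a i)
    by_contra hne
    have h0 : ((Equiv.Perm.sign a : ℤ) : F) ≠ 0 := fun h => by
      simpa [h] using sign_cast_norm hF a
    rcases Int.units_eq_one_or (Equiv.Perm.sign a) with hsg | hsg <;>
      simp [eI, hne, hsg] at h2
  obtain ⟨-, -, hHn⟩ := glue (MonoidHom.id (SU 6 F 2)) (X := (diagT : Subgroup (SU 6 F 2)))
    (H := S.map (pS hF hneg))
    (fun h hh x hx => by
      obtain ⟨π, -, rfl⟩ := hh
      exact pS_conj_mem hF hneg π hx)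
    (fun x _ h => h) (fun x _ h => h) (fun x hx h hh e => by
      simp only [MonoidHom.id_apply] at e ⊢
      obtain ⟨π, -, rfl⟩ := hh
      suffices hπ : π = 1 by rwa [hπ, map_one, mul_one] at e
      have hmem : pS hF hneg π ∈ (diagT : Subgroup (SU 6 F 2)) := by
        rw [eq_inv_of_mul_eq_one_right e]; exact inv_mem hx
      refine Equiv.ext fun i => ?_
      have h1 := diagT_smul hmem i
      rw [show pS hF hneg π = permSU π _ (sign_cast_norm hF π) (sign_cast_det hneg π) from rfl,
        permSU_smul] at h1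
      have h2 := congrFun h1 (π i)
      by_contra hne
      rcases Int.units_eq_one_or (Equiv.Perm.sign π) with hsg | hsg <;>
        simp [eI, show π i ≠ i from hne, hsg] at h2)
  refine not_dvd_of_subgroup hσ hl ((diagT : Subgroup (SU 6 F 2)) ⊔ S.map (pS hF hneg)) ?_
    fun z hz hzH hz3 => ?_
  · have hc := ((diagT : Subgroup (SU 6 F 2)) ⊔ S.map (pS hF hneg)).card_mul_index
    rw [hHn, card_diagT hF 5, ← Nat.card_congr (Subgroup.equivMapOfInjective S _ hinj).toEquiv, hSn,
      card_SU_six_two hF] at hc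
    norm_num at hc
    intro hd
    obtain ⟨i, hi⟩ := hd
    omega
  · refine ker_comm_diag hF ⟨E.surj, E.central⟩ hneg 0 π₁ π₂ (Equiv.swap 0 1) (Equiv.swap 3 4)
      (hord.1 ▸ pow_orderOf_eq_one π₁) hc12 (by rw [hπ₂]; exact Equiv.ext (by decide)) (by rw [hπ₁]; decide)
      (by rw [hπ₂]; decide) ?_ ?_ (by rw [hπ₁, hπ₂]; decide) ?_ z hz hzH ?_
    · intro f hf i
      have a : f 1 = f 0 := by simpa [show π₁ 0 = 1 by rw [hπ₁]; decide] using hf 0
      fin_cases i <;> simp [Equiv.swap_apply_def, a]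
    · intro f hf i
      have a : f 4 = f 3 := by simpa [show π₂ 3 = 4 by rw [hπ₂]; decide] using hf 3
      fin_cases i <;> simp [Equiv.swap_apply_def, a]
    · refine sup_le (fun x hx => Subgroup.subset_closure (Or.inl hx)) ?_
      rw [hS, Subgroup.map_sup, MonoidHom.map_zpowers, MonoidHom.map_zpowers]
      exact sup_le (Subgroup.zpowers_le.2 (Subgroup.subset_closure (Or.inr (Or.inl rfl))))
        (Subgroup.zpowers_le.2 (Subgroup.subset_closure (Or.inr (Or.inr rfl))))
    · exact Odd.of_dvd_nat (by decide) (orderOf_dvd_of_pow_eq_one hz3)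

/-- **`SU_n(q)` has no multiplier prime to `p`.** -/
theorem ptriv_SU (hF : Fintype.card F = q ^ 2) :
    ∀ n : ℕ, 2 ≤ n → ¬ (n = 3 ∧ q = 2) → PTriv.{v, v} p (SU n F q) := by
  intro n
  induction n with
  | zero => omega
  | succ k ih =>
    intro hn h32
    have hq2 := two_le_q hF
    by_cases h4 : 4 ≤ k
    · by_cases hq : 6 ≤ k ∨ 3 ≤ q
      · exact ptriv_SU_succ hF h4 hq (ih (by omega) (by omega))
      · have hq' : q = 2 := by omega
        subst hq'
        obtain rfl | rfl : k = 4 ∨ k = 5 := by omega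
        · exact ptriv_SU_five_two hF
        · exact ptriv_SU_six_two hF
    · obtain rfl | rfl | rfl : k = 1 ∨ k = 2 ∨ k = 3 := by omega
      · exact ptriv_SU_two hF
      · exact ptriv_SU_three hF (by omega)
      · exact ptriv_SU_four hF

end Cfsg.Agent.SuMult50
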