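import Cfsg.Agent.SuMult50.Mono

/-!
The kernel over the monomial subgroups `T ⋊ ⟨π₁, π₂⟩` (helper50).
-/

set_option autoImplicit false

namespace Cfsg.Agent.SuMult50

open Matrix Subgroup Cfsg.Agent.Unitary Cfsg.Agent.CharB.PSLMult
open scoped commutatorElement

universe v

variable {F : Type v} [Field F] {n q : ℕ} [Fintype F] (hF : Fintype.card F = q ^ 2)
include hF

omit hF in
theorem ent_mul {g h : SU n F q} (hg : g ∈ diagT) (hh : h ∈ diagT) (i : Fin n) :
    ent (g * h) i = ent g i * ent h i := by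
  rw [ent, mul_smul, diagT_smul hh, smul_comm, diagT_smul hg, smul_smul]
  simp [eI, mul_comm]

omit hF in
theorem ent_one (i : Fin n) : ent (1 : SU n F q) i = 1 := by simp [ent, eI]

omit hF in
theorem ent_zpow {g : SU n F q} (hg : g ∈ diagT) (i : Fin n) :
    ∀ k : ℕ, ent (g ^ k) i = ent g i ^ k
  | 0 => by rw [pow_zero, pow_zero, ent_one]
  | k + 1 => by rw [pow_succ, ent_mul (pow_mem hg k) hg, ent_zpow hg i k, pow_succ]

theorem sign_cast_norm (π : Equiv.Perm (Fin n)) :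
    ((Equiv.Perm.sign π : ℤ) : F) ^ (q + 1) = 1 := by
  rcases Int.units_eq_one_or (Equiv.Perm.sign π) with h | h <;>
    simp [h, pow_succ, neg_pow_q hF]

omit hF in
theorem sign_cast_det (hneg : (-1 : F) ^ (n + 1) = 1) (π : Equiv.Perm (Fin n)) :
    ((Equiv.Perm.sign π : ℤ) : F) * ((Equiv.Perm.sign π : ℤ) : F) ^ n = 1 := by
  rw [← pow_succ']
  rcases Int.units_eq_one_or (Equiv.Perm.sign π) with h | h <;> simp [h, hneg]

/-- The signed permutation matrices. -/
noncomputable def pS (hneg : (-1 : F) ^ (n + 1) = 1) : Equiv.Perm (Fin n) →* SU n F q where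
  toFun π := permSU π _ (sign_cast_norm hF π) (sign_cast_det hneg π)
  map_one' := ext_eI fun i => by simp [permSU_smul]
  map_mul' π ρ := ext_eI fun i => by
    rw [mul_smul, permSU_smul, permSU_smul, smul_comm, permSU_smul, smul_smul]
    simp [mul_comm]

theorem pS_conj_mem (hneg : (-1 : F) ^ (n + 1) = 1) (π : Equiv.Perm (Fin n)) {x : SU n F q}
    (hx : x ∈ diagT) : pS hF hneg π * x * (pS hF hneg π)⁻¹ ∈ diagT :=
  permSU_conj_mem π _ (sign_cast_norm hF π) (sign_cast_det hneg π) hx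

theorem pS_inv_conj_mem (hneg : (-1 : F) ^ (n + 1) = 1) (π : Equiv.Perm (Fin n)) {x : SU n F q}
    (hx : x ∈ diagT) : (pS hF hneg π)⁻¹ * x * pS hF hneg π ∈ diagT :=
  permSU_inv_conj_mem π _ (sign_cast_norm hF π) (sign_cast_det hneg π) hx

theorem pS_conj_ent (hneg : (-1 : F) ^ (n + 1) = 1) (π : Equiv.Perm (Fin n)) {x : SU n F q}
    (hx : x ∈ diagT) (i : Fin n) : ent (pS hF hneg π * x * (pS hF hneg π)⁻¹) (π i) = ent x i :=
  permSU_conj_ent π _ (sign_cast_norm hF π) (sign_cast_det hneg π) hx i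

theorem pS_fix (hneg : (-1 : F) ^ (n + 1) = 1) (π : Equiv.Perm (Fin n)) {x : SU n F q}
    (hx : x ∈ diagT) (h : ∀ i, ent x (π i) = ent x i) : Commute (pS hF hneg π) x := by
  have e : pS hF hneg π * x * (pS hF hneg π)⁻¹ = x :=
    diagT_ext (pS_conj_mem hF hneg π hx) hx fun j => by
      obtain ⟨i, rfl⟩ := π.surjective j
      rw [pS_conj_ent hF hneg π hx, h]
  exact mul_inv_eq_iff_eq_mul.1 e

variable {Γ : Type v} [Group Γ] {σ : Γ →* SU n F q} (E : CEx σ)
include E

/-- Lifts of diagonal elements commute up to involutions. -/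
theorem cm_diag_sq (hneg : (-1 : F) ^ (n + 1) = 1) (z₀ : Fin n) :
    ∀ x ∈ diagT, ∀ y ∈ diagT, E.cm x y ^ 2 = 1 := by
  obtain ⟨⟨ζ, hζ⟩, hgen⟩ := IsCyclic.exists_generator (α := (powMonoidHom (q + 1) : Fˣ →* Fˣ).ker)
  set S : Set (SU n F q) := {x | x ∈ diagT ∧ ∃ i, i ≠ z₀ ∧ ent x i = ζ ∧ ent x z₀ = (ζ : F)⁻¹ ∧
    ∀ k, k ≠ i → k ≠ z₀ → ent x k = 1} with hS
  have hST : closure S ≤ diagT := (closure_le _).2 fun x hx => hx.1
  have hle : diagT ≤ closure S := by
    suffices h : ∀ s : Finset (Fin n), ∀ x ∈ diagT,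
        (∀ i, i ≠ z₀ → i ∉ s → ent x i = 1) → x ∈ closure S by
      exact fun x hx => h Finset.univ x hx fun i _ hi => absurd (Finset.mem_univ i) hi
    intro s
    induction s using Finset.induction with
    | empty =>
      intro x hx h
      have h0 : ent x z₀ = 1 := by
        rw [← ent_prod hF hx]
        exact (Finset.prod_eq_single_of_mem _ (Finset.mem_univ _) fun i _ hi => h i hi (by simp)).symm
      rw [diagT_ext hx (one_mem _) fun i => by
        rw [ent_one]
        by_cases hi : i = z₀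
        · rw [hi, h0]
        · exact h i hi (by simp)]
      exact one_mem _
    | insert j s _ ih =>
      intro x hx h
      by_cases hj : j = z₀
      · exact ih x hx fun i hi his => h i hi (by simp [his, hj, hi])
      obtain ⟨g, hg, hgj, hgz, hgo⟩ := exists_diag_pair hF hj (c := (ζ : F)) (congrArg Units.val hζ)
      have hj0 : ent x j ≠ 0 := fun h0 => by simpa [h0] using ent_norm hF hx j
      obtain ⟨m, hm⟩ := (mem_powers_iff_mem_zpowers.2 (hgen ⟨(Units.mk0 _ hj0)⁻¹, Units.ext (by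
        simp [inv_pow, ent_norm hF hx j])⟩))
      have hm' : (ζ : F) ^ m = (ent x j)⁻¹ := by
        have := congrArg (fun u : (powMonoidHom (q + 1) : Fˣ →* Fˣ).ker => ((u.1 : Fˣ) : F)) hm
        simpa using this
      have hxg : x * g ^ m ∈ closure S := ih _ (mul_mem hx (pow_mem hg m)) fun i hi his => by
        rw [ent_mul hx (pow_mem hg m), ent_zpow hg]
        by_cases hij : i = j
        · rw [hij, hgj, hm', mul_inv_cancel₀ hj0]
        · rw [hgo i hij hi, one_pow, mul_one]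
          exact h i hi (by simp [his, hij])
      have hgS : g ∈ closure S := Subgroup.subset_closure ⟨hg, j, hj, hgj, hgz, hgo⟩
      rw [show x = x * g ^ m * (g ^ m)⁻¹ by group]
      exact mul_mem hxg (inv_mem (pow_mem hgS m))
  have hS2 : ∀ x ∈ S, ∀ y ∈ S, E.cm x y ^ 2 = 1 := by
    rintro x ⟨hx, i, hi, hxi, hxz, hxo⟩ y ⟨hy, j, hj, hyj, hyz, hyo⟩
    by_cases hij : i = j
    · subst hij
      have : x = y := diagT_ext hx hy fun k => by
        by_cases hk : k = i
        · rw [hk, hxi, hyj]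
        by_cases hk' : k = z₀
        · rw [hk', hxz, hyz]
        rw [hxo k hk hk', hyo k hk hk']
      rw [this, E.cm_self, one_pow]
    set t := pS hF hneg (Equiv.swap i j) with ht
    have e1 : t * x * t⁻¹ = y := diagT_ext (pS_conj_mem hF hneg _ hx) hy fun k => by
      obtain ⟨l, rfl⟩ := (Equiv.swap i j).surjective k
      rw [ht, pS_conj_ent hF hneg _ hx]
      by_cases hl : l = i
      · rw [hl, Equiv.swap_apply_left, hxi, hyj]
      by_cases hl' : l = j
      · rw [hl', Equiv.swap_apply_right, hxo j (Ne.symm hij) hj, hyo i hij hi]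
      rw [Equiv.swap_apply_of_ne_of_ne hl hl']
      by_cases hlz : l = z₀
      · rw [hlz, hxz, hyz]
      rw [hxo l hl hlz, hyo l hl' hlz]
    have e2 : t * y * t⁻¹ = x := by
      have : t * t = 1 := by rw [ht, ← map_mul, Equiv.swap_mul_self, map_one]
      have hti : t⁻¹ = t := inv_eq_of_mul_eq_one_left this
      rw [← e1, hti, show t * (t * x * t) * t = t * t * x * (t * t) by group, this]; group
    have hc := E.cm_conj (diagT_comm hx hy) t
    rw [e1, e2, ← E.cm_inv] at hc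
    rw [pow_two]
    nth_rw 1 [← hc]
    exact inv_mul_cancel _
  intro x hx y hy
  exact cm_subgroup_sq E (fun a ha b hb => diagT_comm (hST ha) (hST hb)) hS2 x (hle hx) y (hle hy)

/-- Elements of odd order of the kernel avoid the commutators over `T ⋊ ⟨π₁, π₂⟩`. -/
theorem ker_comm_diag (hneg : (-1 : F) ^ (n + 1) = 1) (z₀ : Fin n)
    (π₁ π₂ τ₁ τ₂ : Equiv.Perm (Fin n)) (h3 : π₁ ^ 3 = 1) (hcomm : Commute π₁ π₂)
    (hτπ : Commute τ₁ π₂)
    (ht1 : τ₁ * π₁ * τ₁⁻¹ = π₁⁻¹) (ht2 : τ₂ * π₂ * τ₂⁻¹ = π₂⁻¹)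
    (hf1 : ∀ f : Fin n → F, (∀ i, f (π₁ i) = f i) → ∀ i, f (τ₁ i) = f i)
    (hf2 : ∀ f : Fin n → F, (∀ i, f (π₂ i) = f i) → ∀ i, f (τ₂ i) = f i)
    (hsep : ∀ i, π₁ i = i ∨ π₂ i = i) {H : Subgroup (SU n F q)}
    (hH : H ≤ closure (((diagT : Subgroup (SU n F q)) : Set (SU n F q)) ∪
      {pS hF hneg π₁, pS hF hneg π₂})) :
    ∀ z ∈ σ.ker, z ∈ ⁅H.comap σ, H.comap σ⁆ → Odd (orderOf z) → z = 1 := by
  set s₁ := pS hF hneg π₁ with hs1
  set s₂ := pS hF hneg π₂ with hs2
  have hfix : ∀ (π : Equiv.Perm (Fin n)) (x : SU n F q), x ∈ diagT → ⁅pS hF hneg π, x⁆ = 1 →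
      ∀ i, ent x (π i) = ent x i := by
    intro π x hx h i
    rw [commutatorElement_eq_one_iff_mul_comm] at h
    have h2 := pS_conj_ent hF hneg π hx i
    rw [h, mul_inv_cancel_right] at h2
    exact h2
  have hsq : ∀ (π τ : Equiv.Perm (Fin n)), τ * π * τ⁻¹ = π⁻¹ → ∀ y, Commute (pS hF hneg π) y →
      Commute (pS hF hneg τ) y → E.cm (pS hF hneg π) y ^ 2 = 1 := by
    intro π τ hπ y hc hcτ
    have hc' := E.cm_conj hc (pS hF hneg τ)
    rw [← map_inv, ← map_mul, ← map_mul, hπ, map_inv, map_inv, hcτ.eq, mul_inv_cancel_right,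
      E.cm_inv_left hc] at hc'
    rw [pow_two]
    nth_rw 1 [← hc']
    exact inv_mul_cancel _
  have h12 : E.cm s₁ s₂ = 1 := by
    have hc : Commute s₁ s₂ := by rw [hs1, hs2]; exact hcomm.map _
    have e2 : E.cm s₁ s₂ ^ 2 = 1 := hsq π₁ τ₁ ht1 s₂ hc (hτπ.map (pS hF hneg))
    have e3 : E.cm s₁ s₂ ^ 3 = 1 := by
      rw [← E.cm_pow_left hc, hs1, ← map_pow, h3, map_one, E.cm_one_left]
    rwa [show (3 : ℕ) = 2 + 1 from rfl, pow_succ, e2, one_mul] at e3
  refine ker_comm_of_blocks E hH (fun x hx y hy => diagT_comm hx hy) (cm_diag_sq hF E hneg z₀)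
    (fun x hx => pS_conj_mem hF hneg _ hx) (fun x hx => pS_inv_conj_mem hF hneg _ hx)
    (fun x hx => pS_conj_mem hF hneg _ hx) (fun x hx => pS_inv_conj_mem hF hneg _ hx)
    (hcomm.map _) h12 ?_ ?_ ?_
  · intro x hx y hy he
    have hax : ⁅s₁, x⁆ ∈ diagT := by
      rw [commutatorElement_def]; exact mul_mem (pS_conj_mem hF hneg _ hx) (inv_mem hx)
    have hby : ⁅s₂, y⁆ ∈ diagT := by
      rw [commutatorElement_def]; exact mul_mem (pS_conj_mem hF hneg _ hy) (inv_mem hy)
    have one : ∀ (π : Equiv.Perm (Fin n)) (w : SU n F q), w ∈ diagT → ∀ i, π i = i →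
        ent ⁅pS hF hneg π, w⁆ i = 1 := by
      intro π w hw i hi
      rw [commutatorElement_def, ent_mul (pS_conj_mem hF hneg _ hw) (inv_mem hw)]
      conv_lhs => arg 1; rw [← hi, pS_conj_ent hF hneg π hw]
      rw [← ent_mul hw (inv_mem hw), mul_inv_cancel, ent_one]
    have key : ∀ i, ent ⁅s₁, x⁆ i = 1 := fun i => by
      rcases hsep i with h | h
      · exact one π₁ x hx i h
      · have := ent_mul hax hby i
        rw [he, ent_one, one π₂ y hy i h, mul_one] at this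
        exact this.symm
    have h1 : ⁅s₁, x⁆ = 1 := diagT_ext hax (one_mem _) fun i => by rw [key, ent_one]
    exact ⟨h1, by rwa [h1, one_mul] at he⟩
  · intro x hx h
    exact hsq π₁ τ₁ ht1 x (commutatorElement_eq_one_iff_mul_comm.1 h)
      (pS_fix hF hneg _ hx (hf1 _ (hfix π₁ x hx h)))
  · intro x hx h
    exact hsq π₂ τ₂ ht2 x (commutatorElement_eq_one_iff_mul_comm.1 h)
      (pS_fix hF hneg _ hx (hf2 _ (hfix π₂ x hx h)))

omit E in
/-- `|T|·3` divides the order of `T ⋊ ⟨π⟩`. -/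
theorem card_diag_dvd (hneg : (-1 : F) ^ (n + 1) = 1) (π : Equiv.Perm (Fin n)) (h3 : π ^ 3 = 1)
    (hne : π ≠ 1) {H : Subgroup (SU n F q)} (hT : diagT ≤ H) (hs : pS hF hneg π ∈ H)
    (hn : ∀ h ∈ H, ∀ x ∈ (diagT : Subgroup (SU n F q)), h * x * h⁻¹ ∈ diagT) :
    Nat.card (diagT : Subgroup (SU n F q)) * 3 ∣ Nat.card H := by
  have hN : ((diagT : Subgroup (SU n F q)).subgroupOf H).Normal :=
    ⟨fun x hx g => hn g.1 g.2 x.1 hx⟩
  have hnot : pS hF hneg π ∉ (diagT : Subgroup (SU n F q)) := by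
    intro hmem
    obtain ⟨i, hi⟩ : ∃ i, π i ≠ i := by
      by_contra h
      exact hne (Equiv.ext fun i => not_not.1 fun hi => h ⟨i, hi⟩)
    have := diagT_smul hmem i
    rw [show pS hF hneg π = permSU π _ (sign_cast_norm hF π) (sign_cast_det hneg π) from rfl,
      permSU_smul] at this
    have h2 := congrFun this (π i)
    have h0 : ((Equiv.Perm.sign π : ℤ) : F) ≠ 0 := fun h => by
      simpa [h] using sign_cast_norm hF π
    rcases Int.units_eq_one_or (Equiv.Perm.sign π) with hsg | hsg <;>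
      simp [eI, hi, hsg] at h2
  let N := (diagT : Subgroup (SU n F q)).subgroupOf H
  have hord : orderOf (QuotientGroup.mk' N ⟨_, hs⟩) = 3 := by
    have : Fact (Nat.Prime 3) := ⟨Nat.prime_three⟩
    refine orderOf_eq_prime ?_ ?_
    · rw [← map_pow]
      refine (QuotientGroup.eq_one_iff _).2 ?_
      show (pS hF hneg π) ^ 3 ∈ diagT
      rw [← map_pow, h3, map_one]
      exact one_mem _
    · intro h
      exact hnot ((QuotientGroup.eq_one_iff (N := N) (⟨_, hs⟩ : H)).1 h)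
  rw [Subgroup.card_eq_card_quotient_mul_card_subgroup N, mul_comm,
    Nat.card_congr (Subgroup.subgroupOfEquivOfLe hT).toEquiv]
  exact mul_dvd_mul_right (hord ▸ orderOf_dvd_natCard _) _

end Cfsg.Agent.SuMult50
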