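import Cfsg.Agent.SuMult50.Radical

/-!
Lifts of the long root group of a frame commute with the lifts of the radical and of the root
elements off the frame (helper50).
-/

set_option autoImplicit false

namespace Cfsg.Agent.SuMult50

open Matrix Cfsg.Agent.Unitary Cfsg.Agent.CharB.PSLMult
open scoped commutatorElement

universe v

theorem cm_commutator {Γ G : Type v} [Group Γ] [Group G] {σ : Γ →* G} (E : CEx σ) {a b x : G}
    (ha : Commute a x) (hb : Commute b x) : E.cm (a * b * a⁻¹ * b⁻¹) x = 1 := by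
  rw [E.cm_mul_left' hb.inv_left, E.cm_mul_left' ha.inv_left, E.cm_mul_left' hb,
    E.cm_inv_left hb, E.cm_inv_left ha]
  set A := E.cm a x
  set B := E.cm b x
  have hA : A⁻¹ * B = B * A⁻¹ :=
    (Subgroup.mem_center_iff.1 (inv_mem (E.cm_mem_center ha)) B).symm
  calc B⁻¹ * (A⁻¹ * (B * A)) = B⁻¹ * (A⁻¹ * B * A) := by group
    _ = 1 := by rw [hA]; group

variable {F : Type v} [Field F] {n q : ℕ} [Fintype F] (hF : Fintype.card F = q ^ 2)
include hF

/-- An element of norm one other than `±1`. -/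
theorem exists_gen_norm_one :
    ∃ ζ : F, ζ ^ (q + 1) = 1 ∧ ∀ k : ℕ, 0 < k → k ≤ q → ζ ^ k ≠ 1 := by
  obtain ⟨⟨ζ, hζ⟩, hgen⟩ :=
    IsCyclic.exists_generator (α := (powMonoidHom (q + 1) : Fˣ →* Fˣ).ker)
  refine ⟨ζ, congrArg Units.val hζ, fun k hk hkq h => ?_⟩
  have ho := orderOf_eq_card_of_forall_mem_zpowers hgen
  rw [card_norm_one_units hF] at ho
  have h1 : (⟨ζ, hζ⟩ : (powMonoidHom (q + 1) : Fˣ →* Fˣ).ker) ^ k = 1 :=
    Subtype.ext (Units.ext (by simpa using h))
  have := Nat.le_of_dvd hk (orderOf_dvd_of_pow_eq_one h1)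
  rw [ho] at this
  omega

theorem eI_trace_zero_pair {r : Fin n} {c : F} (hc : c + c ^ q = 0) :
    ∃ v w : Fin n → F, (∃ x : F, v = x • eI r) ∧ w = eI r ∧
      herm q v w - herm q w v = c := by
  obtain ⟨γ, hγ⟩ := exists_sub_pow_eq hF hc
  refine ⟨γ • eI r, eI r, ⟨γ, rfl⟩, rfl, ?_⟩
  rw [herm_smul_left, herm_smul_right hF, herm_eI_eI hF, if_pos rfl, mul_one, mul_one, hγ]

variable (P : Frame n F q)

/-- The radical centralises its centre. -/
theorem Frame.isQ_zero_comm {g z : SU n F q} {w : Fin n → F} {b c : F} (hw : w ∈ supp P.pair)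
    (hg : P.IsQ g w b) (hz : P.IsQ z 0 c) : Commute g z := by
  have h1 := P.isQ_mul hF hw (zero_mem _) hg hz
  have h2 := P.isQ_mul hF (zero_mem _) hw hz hg
  exact P.isQ_unique h1 (P.isQ_congr h2 (by rw [zero_add, add_zero])
    (by rw [herm_zero_right hF, herm_zero_left]; ring))

/-- The root elements off the frame centralise the long root group. -/
theorem Frame.fix_zero_comm {g z : SU n F q} {c : F} (hg : g ∈ fixS P.pair)
    (hz : P.IsQ z 0 c) : Commute g z := by
  have h1 := P.isQ_conj hF (l := 1) (k := g) (by rw [one_smul, (P.fix_frame hF hg).1]) hz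
  rw [smul_zero, smul_zero, one_pow, one_mul] at h1
  exact mul_inv_eq_iff_eq_mul.1 (P.isQ_unique h1 hz)

omit hF in
theorem Frame.tor_zero_conj {t z : SU n F q} {l : F} {a : Fin n → F} {c : F} (ht : P.IsTor t l a)
    (hz : P.IsQ z 0 c) [Fintype F] (hF : Fintype.card F = q ^ 2) :
    P.IsQ (t * z * t⁻¹) 0 (l ^ (q + 1) * c) := by
  have h1 := P.isQ_conj hF ht.1 hz
  rwa [smul_zero, smul_zero] at h1

variable {Γ : Type v} [Group Γ] {σ : Γ →* SU n F q} (E : CEx σ)
include E

/-- A root group `(R, r)` lifts to elements commuting with `z` once a torus element moves it. -/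
theorem cm_root {R : Frame n F q} {r : Fin n} (hr : r ∉ R.pair) {z t : SU n F q}
    (h0 : ∀ (g : SU n F q) (b : F), R.IsQ g 0 b → Commute g z ∧ E.cm g z = 1)
    (hcom : ∀ (g : SU n F q) (x b : F), R.IsQ g (x • eI r) b → Commute g z)
    {α a : F} (htz : t * z * t⁻¹ = z) (htu : t • R.u = α • R.u)
    (htr : t • (eI r : Fin n → F) = a • eI r) (hα : α ^ (q + 1) = 1) (hν : α ^ q * a ≠ 1)
    {g : SU n F q} {x b : F} (hg : R.IsQ g (x • eI r) b) : E.cm g z = 1 := by
  have hs : ∀ y : F, (y • eI r : Fin n → F) ∈ supp R.pair := fun y =>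
    Submodule.smul_mem _ _ (eI_mem_supp hr)
  set ν := α ^ q * a with hνdef
  have step : ∀ (g1 : SU n F q) (y b1 : F), R.IsQ g1 (y • eI r) b1 →
      ∃ (g2 : SU n F q) (b2 : F), R.IsQ g2 (((ν - 1) * y) • eI r) b2 ∧ E.cm g2 z = 1 := by
    intro g1 y b1 h1
    have h2 := R.isQ_conj hF htu h1
    have e : α ^ q • (t • (y • (eI r : Fin n → F))) = (ν * y) • eI r := by
      rw [smul_comm t, htr, smul_smul, smul_smul, hνdef]
      congr 1
      ring
    rw [e] at h2
    have hc1 := hcom g1 y b1 h1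
    have hc2 := hcom _ _ _ h2
    have e2 : E.cm (t * g1 * t⁻¹) z = E.cm g1 z := by
      have h := E.cm_conj hc1 t
      rwa [htz] at h
    refine ⟨(t * g1 * t⁻¹) * g1⁻¹, _, R.isQ_congr
      (R.isQ_mul hF (hs _) (neg_mem (hs _)) h2 (R.isQ_inv hF (hs _) h1)) ?_ rfl, ?_⟩
    · rw [← sub_eq_add_neg, ← sub_smul]
      congr 1
      ring
    · rw [E.cm_mul_left' hc1.inv_left, E.cm_inv_left hc1, e2, inv_mul_cancel]
  obtain ⟨b', hb'⟩ := exists_trace_eq hF
    (t := -herm q ((x / (ν - 1)) • eI r : Fin n → F) ((x / (ν - 1)) • eI r))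
    (by rw [neg_pow_q hF, herm_self_fixed hF])
  obtain ⟨g1, hg1⟩ := R.exists_isQ hF (hs _) hb'
  obtain ⟨g2, b2, hg2, he⟩ := step g1 _ _ hg1
  rw [show (ν - 1) * (x / (ν - 1)) = x from mul_div_cancel₀ x (sub_ne_zero.2 hν)] at hg2
  have h3 := R.isQ_congr (R.isQ_mul hF (hs _) (neg_mem (hs _)) hg (R.isQ_inv hF (hs _) hg2))
    (add_neg_cancel _) rfl
  obtain ⟨hc3, e3⟩ := h0 _ _ h3
  have hc2 := hcom _ _ _ hg2
  rw [show g = g * g2⁻¹ * g2 by group, E.cm_mul_left' hc2, he, e3, one_mul]

/-- Lifts over the long root group commute. -/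
theorem Frame.cm_zero_zero (hn : 3 ≤ n) {z z' : SU n F q} {c c' : F} (hz : P.IsQ z 0 c)
    (hz' : P.IsQ z' 0 c') : E.cm z' z = 1 := by
  obtain ⟨r, hr⟩ : ∃ r, r ∉ P.pair := by
    by_contra h
    have h' : (Finset.univ : Finset (Fin n)) ⊆ P.pair := fun r _ => not_not.1 fun hr => h ⟨r, hr⟩
    have := Finset.card_le_card h'
    rw [Finset.card_univ, Fintype.card_fin, Frame.pair, Finset.card_pair P.hij] at this
    omega
  have hc' := P.isQ_trace hF (zero_mem _) hz'
  rw [herm_zero_left, neg_zero] at hc'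
  obtain ⟨v, w, ⟨x, rfl⟩, rfl, hvw⟩ := eI_trace_zero_pair hF (r := r) hc'
  have hv : (x • eI r : Fin n → F) ∈ supp P.pair := Submodule.smul_mem _ _ (eI_mem_supp hr)
  have hw : (eI r : Fin n → F) ∈ supp P.pair := eI_mem_supp hr
  obtain ⟨b, hb⟩ := exists_trace_eq hF (t := -herm q (x • eI r : Fin n → F) (x • eI r))
    (by rw [neg_pow_q hF, herm_self_fixed hF])
  obtain ⟨b', hb'⟩ := exists_trace_eq hF (t := -herm q (eI r : Fin n → F) (eI r))
    (by rw [neg_pow_q hF, herm_self_fixed hF])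
  obtain ⟨g, hg⟩ := P.exists_isQ hF hv hb
  obtain ⟨g', hg'⟩ := P.exists_isQ hF hw hb'
  have he := P.isQ_unique (P.isQ_congr (P.isQ_comm hF hv hw hg hg') rfl hvw) hz'
  rw [← he]
  exact cm_commutator E (P.isQ_zero_comm hF hv hg hz) (P.isQ_zero_comm hF hw hg' hz)

/-- Lifts of the radical commute with lifts of the long root group. -/
theorem Frame.cm_qg_zero (hn : 3 ≤ n) (hq : 4 ≤ n ∨ 3 ≤ q) {z g : SU n F q} {c : F}
    (hz : P.IsQ z 0 c) (hg : g ∈ P.qg hF ∅) : Commute g z ∧ E.cm g z = 1 := by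
  classical
  have hcomm : ∀ g ∈ P.qg hF ∅, Commute g z := by
    rintro g ⟨w, b, hw, h⟩
    exact P.isQ_zero_comm hF (by simpa using hw) h hz
  let H : Subgroup (SU n F q) :=
    { carrier := {g | Commute g z ∧ E.cm g z = 1}
      one_mem' := ⟨Commute.one_left z, E.cm_one_left z⟩
      mul_mem' := fun {a b} ha hb =>
        ⟨ha.1.mul_left hb.1, by rw [E.cm_mul_left' hb.1, ha.2, hb.2, one_mul]⟩
      inv_mem' := fun {a} ha => ⟨ha.1.inv_left, by rw [E.cm_inv_left ha.1, ha.2, inv_one]⟩ }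
  have hzero : ∀ (g : SU n F q) (b : F), P.IsQ g 0 b → Commute g z ∧ E.cm g z = 1 := fun g b h =>
    ⟨P.isQ_zero_comm hF (zero_mem _) h hz, P.cm_zero_zero hF E hn hz h⟩
  refine (P.qg_le_of_gens hF (H := H) ?_) hg
  rintro w b g hgQ (rfl | ⟨r, x, hr, -, rfl⟩)
  · exact hzero g b hgQ
  refine ⟨P.isQ_zero_comm hF (Submodule.smul_mem _ _ (eI_mem_supp hr)) hgQ hz, ?_⟩
  obtain ⟨ζ, hζ, hζk⟩ := exists_gen_norm_one hF
  have hζ0 : ζ ≠ 0 := fun h => by simp [h] at hζ
  have hζq : ζ ^ q = ζ⁻¹ := eq_inv_of_mul_eq_one_left (by rw [← pow_succ, hζ])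
  obtain ⟨t, a, ht, hν⟩ : ∃ (t : SU n F q) (a : Fin n → F), P.IsTor t ζ a ∧ ζ ^ q * a r ≠ 1 := by
    by_cases h4 : 4 ≤ n
    · obtain ⟨k, hk, hkr⟩ : ∃ k, k ∉ P.pair ∧ k ≠ r := by
        have : 0 < (insert r P.pair)ᶜ.card := by
          rw [Finset.card_compl, Fintype.card_fin, Finset.card_insert_of_notMem hr, Frame.pair,
            Finset.card_pair P.hij]
          omega
        obtain ⟨k, hk⟩ := Finset.card_pos.1 this
        rw [Finset.mem_compl, Finset.mem_insert, not_or] at hk
        exact ⟨k, hk.2, hk.1⟩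
      obtain ⟨t, a, ht, har, -, -⟩ := P.exists_tor₂ hF hr hk (Ne.symm hkr) (ρ := 1) hζ0 (one_pow _)
      refine ⟨t, a, ht, ?_⟩
      rw [har, mul_one, hζq]
      exact fun h => hζk 1 one_pos (q_pos hF) (by rw [pow_one]; exact inv_eq_one.1 h)
    · have h3 : 3 ≤ q := hq.resolve_left h4
      set a : Fin n → F := fun m => if m = r then ((ζ ^ 2)⁻¹ : F) else 1 with hadef
      obtain ⟨t, ht⟩ := P.exists_tor hF (l := ζ) (a := a) hζ0
        (fun m => by
          simp only [hadef]
          split_ifs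
          · rw [inv_pow, ← pow_mul, mul_comm, pow_mul, hζ, one_pow, inv_one]
          · exact one_pow _)
        (fun m hm => if_neg fun h : m = r => hr (h ▸ hm))
        (by
          simp only [hadef]
          rw [Finset.prod_ite_eq', if_pos (Finset.mem_univ r), hζq, inv_inv]
          field_simp)
      refine ⟨t, a, ht, fun h => hζk 3 (by norm_num) h3 ?_⟩
      simp only [hadef, if_pos rfl, hζq] at h
      rw [← mul_inv, inv_eq_one] at h
      rw [pow_succ, mul_comm]
      exact h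
  refine cm_root hF E hr (R := P) hzero
    (fun g y b h => P.isQ_zero_comm hF (Submodule.smul_mem _ _ (eI_mem_supp hr)) h hz)
    ?_ ht.1 (ht.2.2 r hr) hζ hν hgQ
  refine P.isQ_unique (P.isQ_congr (P.tor_zero_conj ht hz hF) rfl ?_) hz
  rw [hζ, one_mul]

/-- Lifts of root elements off the frame commute with lifts of the long root group. -/
theorem Frame.cm_rootGrp_zero (hn : 5 ≤ n ∨ n ≤ 4 ∧ 4 ≤ q) {z g : SU n F q} {c : F}
    (hz : P.IsQ z 0 c) (hg : g ∈ rootGrp P.pair) : Commute g z ∧ E.cm g z = 1 := by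
  classical
  induction hg using Subgroup.closure_induction with
  | one => exact ⟨Commute.one_left z, E.cm_one_left z⟩
  | mul a b _ _ ha hb =>
    exact ⟨ha.1.mul_left hb.1, by rw [E.cm_mul_left' hb.1, ha.2, hb.2, one_mul]⟩
  | inv a _ ha => exact ⟨ha.1.inv_left, by rw [E.cm_inv_left ha.1, ha.2, inv_one]⟩
  | mem g hg =>
    obtain ⟨R, w, b, hQ, hi, hj, hw⟩ := hg
    have hfix : ∀ (g : SU n F q) (w : Fin n → F) (b : F), R.IsQ g w b →
        (w = 0 ∨ ∃ (r : Fin n) (x : F), r ∉ R.pair ∧ r ∉ P.pair ∧ w = x • eI r) →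
        g ∈ fixS P.pair := fun g w b h hw' =>
      rootGrp_le_fixS hF _ (Subgroup.subset_closure ⟨R, w, b, h, hi, hj, hw'⟩)
    have hgc := P.fix_zero_comm hF (hfix g w b hQ hw) hz
    refine ⟨hgc, ?_⟩
    have hzero : ∀ (g : SU n F q) (b : F), R.IsQ g 0 b → Commute g z ∧ E.cm g z = 1 := by
      intro g' b' h'
      have hc' := P.fix_zero_comm hF (hfix g' 0 b' h' (Or.inl rfl)) hz
      refine ⟨hc', ?_⟩
      have htr := R.isQ_trace hF (zero_mem _) h'
      rw [herm_zero_left, neg_zero] at htr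
      rcases hn with h5 | ⟨-, h4⟩
      · obtain ⟨r, hr⟩ : ∃ r, r ∉ P.pair ∪ R.pair := by
          by_contra h
          have h' : (Finset.univ : Finset (Fin n)) ⊆ P.pair ∪ R.pair :=
            fun r _ => not_not.1 fun hr => h ⟨r, hr⟩
          have := (Finset.card_le_card h').trans (Finset.card_union_le _ _)
          rw [Finset.card_univ, Fintype.card_fin, Frame.pair, Frame.pair, Finset.card_pair P.hij,
            Finset.card_pair R.hij] at this
          omega
        rw [Finset.mem_union, not_or] at hr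
        obtain ⟨v, w', ⟨x, rfl⟩, rfl, hvw⟩ := eI_trace_zero_pair hF (r := r) htr
        have hv : (x • eI r : Fin n → F) ∈ supp R.pair :=
          Submodule.smul_mem _ _ (eI_mem_supp hr.2)
        have hw' : (eI r : Fin n → F) ∈ supp R.pair := eI_mem_supp hr.2
        obtain ⟨b1, hb1⟩ := exists_trace_eq hF (t := -herm q (x • eI r : Fin n → F) (x • eI r))
          (by rw [neg_pow_q hF, herm_self_fixed hF])
        obtain ⟨b2, hb2⟩ := exists_trace_eq hF (t := -herm q (eI r : Fin n → F) (eI r))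
          (by rw [neg_pow_q hF, herm_self_fixed hF])
        obtain ⟨g1, hg1⟩ := R.exists_isQ hF hv hb1
        obtain ⟨g2, hg2⟩ := R.exists_isQ hF hw' hb2
        have he := R.isQ_unique (R.isQ_congr (R.isQ_comm hF hv hw' hg1 hg2) rfl hvw) h'
        rw [← he]
        exact cm_commutator E
          (P.fix_zero_comm hF (hfix g1 _ b1 hg1 (Or.inr ⟨r, x, hr.2, hr.1, rfl⟩)) hz)
          (P.fix_zero_comm hF (hfix g2 _ b2 hg2
            (Or.inr ⟨r, 1, hr.2, hr.1, (one_smul F _).symm⟩)) hz)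
      · obtain ⟨l, hl0, hlq, hl2⟩ : ∃ l : F, l ≠ 0 ∧ l ^ q = l ∧ l ^ (q + 1) ≠ 1 := by
          by_contra h
          simp only [not_exists, not_and, not_not] at h
          have hsub : (Finset.univ.filter fun x : F => x ^ q = x) ⊆ ({0, 1, -1} : Finset F) := by
            intro x hx
            rw [Finset.mem_filter] at hx
            by_cases hx0 : x = 0
            · simp [hx0]
            have h1 := h x hx0 hx.2
            rw [pow_succ, hx.2] at h1
            rcases mul_self_eq_one_iff.1 h1 with h1 | h1 <;> simp [h1]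
          have hc := (Finset.card_le_card hsub).trans Finset.card_le_three
          rw [← Fintype.card_subtype, ← Nat.card_eq_fintype_card, card_fixed hF] at hc
          omega
        obtain ⟨t, ht⟩ := P.exists_tor₀ hF hl0 hlq
        have htg : Commute t g' := by
          refine P.ext hF ?_ ?_ fun k hk => ?_
          · rw [mul_smul, mul_smul, (P.fix_frame hF (hfix g' 0 b' h' (Or.inl rfl))).1, ht.1,
              smul_comm g', (P.fix_frame hF (hfix g' 0 b' h' (Or.inl rfl))).1]
          · rw [mul_smul, mul_smul, (P.fix_frame hF (hfix g' 0 b' h' (Or.inl rfl))).2, ht.2.1,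
              smul_comm g', (P.fix_frame hF (hfix g' 0 b' h' (Or.inl rfl))).2]
          · rw [mul_smul, mul_smul, ht.2.2 k hk, Pi.one_apply, one_smul,
              P.tor_smul ht (smul_mem_supp_SU hF (hfix g' 0 b' h' (Or.inl rfl))
                (eI_mem_supp hk))]
            funext m
            simp
        -- `c ↦ cm g' z(c)` is additive and invariant under `c ↦ l^{q+1} c`
        set c1 := c / (l ^ (q + 1) - 1) with hc1
        have hne : l ^ (q + 1) - 1 ≠ 0 := sub_ne_zero.2 hl2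
        have hc1t : c1 + c1 ^ q = 0 := by
          have htc := P.isQ_trace hF (zero_mem _) hz
          rw [herm_zero_left, neg_zero] at htc
          rw [hc1, div_pow, sub_pow_q hF, norm_fixed hF, one_pow, ← add_div, htc, zero_div]
        obtain ⟨z1, hz1⟩ := P.exists_isQ hF (w := 0) (b := c1) (zero_mem _)
          (by rw [hc1t, herm_zero_left, neg_zero])
        have hz2 := P.tor_zero_conj ht hz1 hF
        have hfz : ∀ {z' : SU n F q} {c' : F}, P.IsQ z' 0 c' → Commute g' z' := fun h =>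
          P.fix_zero_comm hF (hfix g' 0 b' h' (Or.inl rfl)) h
        have hez : t * z1 * t⁻¹ = z * z1 := P.isQ_unique (P.isQ_congr hz2 (add_zero 0).symm (by
          rw [herm_zero_left, sub_zero, hc1]; field_simp; ring)) (P.isQ_mul hF (zero_mem _)
            (zero_mem _) hz hz1)
        have e1 := E.cm_conj (hfz hz1) t
        rw [show t * g' * t⁻¹ = g' by rw [htg.eq, mul_inv_cancel_right], hez] at e1
        have e2 : E.cm (z * z1) g' = E.cm z1 g' * E.cm z g' := E.cm_mul_left' (hfz hz1).symm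
        have e3 := congrArg (·⁻¹) e1
        simp only [E.cm_inv] at e3
        rw [e2, mul_eq_left] at e3
        rw [← E.cm_inv, e3, inv_one]
    rcases hw with rfl | ⟨r, x, hrR, hrP, rfl⟩
    · exact (hzero g b hQ).2
    obtain ⟨ζ, hζ, hζk⟩ := exists_gen_norm_one hF
    have hζ0 : ζ ≠ 0 := fun h => by simp [h] at hζ
    have hζq : ζ ^ q = ζ⁻¹ := eq_inv_of_mul_eq_one_left (by rw [← pow_succ, hζ])
    set a : Fin n → F := fun m => if m = r then ((ζ ^ 2)⁻¹ : F) else 1 with hadef
    obtain ⟨t, ht⟩ := P.exists_tor hF (l := ζ) (a := a) hζ0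
      (fun m => by
        simp only [hadef]
        split_ifs
        · rw [inv_pow, ← pow_mul, mul_comm, pow_mul, hζ, one_pow, inv_one]
        · exact one_pow _)
      (fun m hm => if_neg fun h : m = r => hrP (h ▸ hm))
      (by
        simp only [hadef]
        rw [Finset.prod_ite_eq', if_pos (Finset.mem_univ r), hζq, inv_inv]
        field_simp)
    have huR : R.u ∈ supp P.pair := by
      refine mem_supp.2 fun k hk => mem_supp.1 R.hu k ?_
      simp only [Finset.mem_compl, Finset.mem_insert, Finset.mem_singleton]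
      rintro (rfl | rfl)
      · exact hi hk
      · exact hj hk
    have htu : t • R.u = (1 : F) • R.u := by
      rw [one_smul, P.tor_smul ht huR]
      funext k
      by_cases hk : k = r
      · subst hk
        rw [mem_supp.1 R.hu k (by simpa [Frame.pair] using hrR), mul_zero]
      · simp [hadef, hk]
    refine cm_root hF E hrR hzero
      (fun g' y b' h' => P.fix_zero_comm hF (hfix g' _ b' h' (Or.inr ⟨r, y, hrR, hrP, rfl⟩)) hz)
      ?_ htu (ht.2.2 r hrP) (one_pow _) ?_ hQ
    · refine P.isQ_unique (P.isQ_congr (P.tor_zero_conj ht hz hF) rfl ?_) hz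
      rw [hζ, one_mul]
    · rw [one_pow, one_mul, hadef]
      simp only [if_pos]
      intro h
      exact hζk 2 (by norm_num) (two_le_q hF) (inv_eq_one.1 h)

end Cfsg.Agent.SuMult50
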