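import Cfsg.Agent.SuMult50.Form

/-!
Complements over the radical from torus elements without fixed points (helper50).
-/

set_option autoImplicit false

namespace Cfsg.Agent.SuMult50

open Matrix Cfsg.Agent.Unitary Cfsg.Agent.CharB.PSLMult
open scoped commutatorElement

universe v

variable {F : Type v} [Field F] {n q : ℕ} [Fintype F] {hF : Fintype.card F = q ^ 2}
  {P : Frame n F q} {Γ : Type v} [Group Γ] {σ : Γ →* SU n F q} {Z0 : Subgroup Γ}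

/-- A lift of a torus element moving every vector of the orthogonal complement. -/
def Frame.IsMover (P : Frame n F q) (σ : Γ →* SU n F q) (d : Γ) : Prop :=
  ∃ (l : F) (a : Fin n → F), P.IsTor (σ d) l a ∧ ∀ m ∉ P.pair, l ^ q * a m ≠ 1

variable (S : ZSplit hF P σ Z0)
include S

theorem ZSplit.mover_conj {d x : Γ} {l : F} {a : Fin n → F} (hd : P.IsTor (σ d) l a)
    {w : Fin n → F} {b : F} (hw : w ∈ supp P.pair) (hx : P.IsQ (σ x) w b) :
    (fun m => l ^ q * a m * w m) ∈ supp P.pair ∧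
      P.IsQ (σ (d * x * d⁻¹)) (fun m => l ^ q * a m * w m) (l ^ (q + 1) * b) := by
  refine ⟨mem_supp.2 fun m hm => by simp [mem_supp.1 hw m hm], ?_⟩
  have h := P.isQ_conj hF hd.1 hx
  rw [P.tor_smul hd hw] at h
  rw [map_mul, map_mul, map_inv]
  exact P.isQ_congr h (funext fun m => by simp [mul_assoc]) rfl

theorem ZSplit.conj_qg {d x : Γ} {l : F} {a : Fin n → F} (hd : P.IsTor (σ d) l a)
    (hx : σ x ∈ P.qg hF ∅) : σ (d * x * d⁻¹) ∈ P.qg hF ∅ := by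
  obtain ⟨w, b, hw, hq⟩ := hx
  obtain ⟨h1, h2⟩ := S.mover_conj hd (by simpa using hw) hq
  exact ⟨_, _, by simpa using h1, h2⟩

theorem ZSplit.comm_qg {d x : Γ} {l : F} {a : Fin n → F} (hd : P.IsTor (σ d) l a)
    (hx : σ x ∈ P.qg hF ∅) : σ ⁅d, x⁆ ∈ P.qg hF ∅ := by
  rw [commutatorElement_def, map_mul, map_inv]
  exact mul_mem (S.conj_qg hd hx) (inv_mem hx)

variable (hcomm : ∀ a b : Γ, σ a ∈ P.qg hF ∅ → σ b ∈ P.qg hF ∅ → ⁅a, b⁆ ∈ Z0)
include hcomm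

/-- The candidate complement of a mover. -/
def ZSplit.comp {d : Γ} (hd : P.IsMover σ d) : Subgroup Γ where
  carrier := {g | ∃ z ∈ Z0, ∃ x : Γ, σ x ∈ P.qg hF ∅ ∧ g = z * ⁅d, x⁆}
  one_mem' := ⟨1, one_mem _, 1, by rw [map_one]; exact one_mem _, by simp⟩
  mul_mem' := by
    obtain ⟨l, a, hd, -⟩ := hd
    rintro _ _ ⟨z, hz, x, hx, rfl⟩ ⟨z', hz', x', hx', rfl⟩
    obtain ⟨c, hc⟩ : ∃ c ∈ Z0, ⁅d, x⁆ * ⁅d, x'⁆ = c * ⁅d, x * x'⁆ := by
      have hk := hcomm x ⁅d, x'⁆ hx (S.comm_qg hd hx')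
      have hcc : Commute ⁅d, x⁆ ⁅x, ⁅d, x'⁆⁆⁻¹ := S.central (S.comm_qg hd hx) (by
        obtain h := inv_mem hk
        rw [← S.map]
        exact ⟨_, h, rfl⟩)
      refine ⟨⁅x, ⁅d, x'⁆⁆⁻¹, inv_mem hk, ?_⟩
      have e : ⁅d, x * x'⁆ = ⁅d, x⁆ * (⁅x, ⁅d, x'⁆⁆ * ⁅d, x'⁆) := by
        simp only [commutatorElement_def]; group
      rw [e, ← mul_assoc _ ⁅d, x⁆, ← hcc.eq]
      group
    refine ⟨z * z' * c, mul_mem (mul_mem hz hz') hc.1, x * x', by rw [map_mul]; exact mul_mem hx hx', ?_⟩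
    have hz'c : Commute ⁅d, x⁆ z' := S.central (S.comm_qg hd hx) (S.map ▸ ⟨z', hz', rfl⟩)
    calc z * ⁅d, x⁆ * (z' * ⁅d, x'⁆) = z * (⁅d, x⁆ * z') * ⁅d, x'⁆ := by group
      _ = z * z' * (⁅d, x⁆ * ⁅d, x'⁆) := by rw [hz'c.eq]; group
      _ = _ := by rw [hc.2]; group
  inv_mem' := by
    obtain ⟨l, a, hd, -⟩ := hd
    rintro _ ⟨z, hz, x, hx, rfl⟩
    have hx' : σ x⁻¹ ∈ P.qg hF ∅ := by rw [map_inv]; exact inv_mem hx
    have hk := hcomm x ⁅d, x⁻¹⁆ hx (S.comm_qg hd hx')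
    have e : ⁅d, x⁆ * (⁅x, ⁅d, x⁻¹⁆⁆ * ⁅d, x⁻¹⁆) = 1 := by
      simp only [commutatorElement_def]; group
    have hzc : Commute ⁅d, x⁻¹⁆ z⁻¹ :=
      S.central (S.comm_qg hd hx') (S.map ▸ ⟨_, inv_mem hz, rfl⟩)
    refine ⟨⁅x, ⁅d, x⁻¹⁆⁆ * z⁻¹, mul_mem hk (inv_mem hz), x⁻¹, hx', ?_⟩
    rw [_root_.mul_inv_rev, inv_eq_of_mul_eq_one_right e, mul_assoc _ _ z⁻¹, hzc.eq]
    group

theorem ZSplit.mem_comp {d : Γ} (hd : P.IsMover σ d) {g : Γ} :
    g ∈ S.comp hcomm hd ↔ ∃ z ∈ Z0, ∃ x : Γ, σ x ∈ P.qg hF ∅ ∧ g = z * ⁅d, x⁆ := Iff.rfl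

theorem ZSplit.comp_inj {d : Γ} (hd : P.IsMover σ d) :
    ∀ g ∈ S.comp hcomm hd, σ g = 1 → g = 1 := by
  rintro g ⟨z, hz, x, hx, rfl⟩ h1
  obtain ⟨l, a, htor, hmov⟩ := hd
  obtain ⟨w, b, hw, hq⟩ := hx
  have hw' : w ∈ supp P.pair := by simpa using hw
  have hz' : σ z ∈ P.zgrp hF := S.map ▸ ⟨z, hz, rfl⟩
  obtain ⟨c, hc⟩ := hz'
  obtain ⟨h2, h3⟩ := S.mover_conj htor hw' hq
  obtain ⟨β4, h4⟩ : ∃ β4, P.IsQ (σ ⁅d, x⁆) ((fun m => l ^ q * a m * w m) + -w) β4 := by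
    rw [commutatorElement_def, map_mul, map_inv]
    exact ⟨_, P.isQ_mul hF h2 (neg_mem hw') h3 (P.isQ_inv hF hw' hq)⟩
  have h5 := P.isQ_mul hF (zero_mem _) (add_mem h2 (neg_mem hw')) hc h4
  rw [← map_mul, h1] at h5
  obtain ⟨h6, -⟩ := P.isQ_inj hF (zero_mem _)
    (add_mem (zero_mem _) (add_mem h2 (neg_mem hw'))) (P.isQ_one hF) h5
  have hw0 : w = 0 := funext fun m => by
    by_cases hm : m ∈ P.pair
    · exact mem_supp.1 hw' m hm
    · have h7 := congrFun h6 m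
      simp only [Pi.zero_apply, Pi.add_apply, Pi.neg_apply, zero_add] at h7
      have : (l ^ q * a m - 1) * w m = 0 := by linear_combination -h7
      exact (mul_eq_zero.1 this).resolve_left (sub_ne_zero.2 (hmov m hm))
  subst hw0
  obtain ⟨c', hc'⟩ := S.exists_proj (y := x) ⟨b, hq⟩
  have hx0 : ⁅d, x⁆ ∈ Z0 := by
    have hker : ∀ y : Γ, Commute y (c' : Γ) := fun y =>
      Subgroup.mem_center_iff.1 (S.ext.central c'.2) y
    have e : ⁅d, x⁆ = d * (x * (c' : Γ)⁻¹) * d⁻¹ * (x * (c' : Γ)⁻¹)⁻¹ := by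
      have h8 : (c' : Γ)⁻¹ * d⁻¹ = d⁻¹ * (c' : Γ)⁻¹ := ((hker d⁻¹).inv_right).eq.symm
      calc ⁅d, x⁆ = d * x * (d⁻¹ * (c' : Γ)⁻¹) * (c' : Γ) * x⁻¹ := by
            simp only [commutatorElement_def]; group
        _ = _ := by rw [← h8]; group
    rw [e]
    exact mul_mem (S.tor d l a htor _ hc') (inv_mem hc')
  exact S.inj _ (mul_mem hz hx0) h1

theorem ZSplit.comp_map {d : Γ} (hd : P.IsMover σ d) :
    (S.comp hcomm hd).map σ = P.qg hF ∅ := by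
  obtain ⟨l, a, htor, hmov⟩ := id hd
  refine le_antisymm ?_ ?_
  · rintro _ ⟨g, ⟨z, hz, x, hx, rfl⟩, rfl⟩
    rw [map_mul]
    exact mul_mem (S.mem_qg hz) (S.comm_qg htor hx)
  intro g hg
  obtain ⟨w, b, hw, hq⟩ := hg
  have hw' : w ∈ supp P.pair := by simpa using hw
  set v : Fin n → F := fun m => w m / (l ^ q * a m - 1) with hv
  have hvS : v ∈ supp P.pair := mem_supp.2 fun m hm => by simp [hv, mem_supp.1 hw' m hm]
  obtain ⟨x, β, hx⟩ := S.exists_lift hvS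
  obtain ⟨h2, h3⟩ := S.mover_conj htor hvS hx
  obtain ⟨β4, h4⟩ : ∃ β4, P.IsQ (σ ⁅d, x⁆) ((fun m => l ^ q * a m * v m) + -v) β4 := by
    rw [commutatorElement_def, map_mul, map_inv]
    exact ⟨_, P.isQ_mul hF h2 (neg_mem hvS) h3 (P.isQ_inv hF hvS hx)⟩
  have e : (fun m => l ^ q * a m * v m) + -v = w := funext fun m => by
    by_cases hm : m ∈ P.pair
    · simp [mem_supp.1 hw' m hm, mem_supp.1 hvS m hm]
    · have hne := sub_ne_zero.2 (hmov m hm)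
      simp only [Pi.add_apply, Pi.neg_apply, hv]
      field_simp
      ring
  rw [e] at h4
  have h5 := P.isQ_mul hF hw' (neg_mem hw') hq (P.isQ_inv hF hw' h4)
  have h6 : g * (σ ⁅d, x⁆)⁻¹ ∈ Z0.map σ := by
    rw [S.map]
    exact ⟨_, P.isQ_congr h5 (add_neg_cancel w) rfl⟩
  obtain ⟨z, hz, hze⟩ := h6
  refine ⟨z * ⁅d, x⁆, ⟨z, hz, x, ⟨v, β, by simpa using hvS, hx⟩, rfl⟩, ?_⟩
  rw [map_mul, hze, inv_mul_cancel_right]

/-- All movers give the same complement. -/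
theorem ZSplit.comp_le {d d' : Γ} (hd : P.IsMover σ d) (hd' : P.IsMover σ d') :
    S.comp hcomm hd' ≤ S.comp hcomm hd := by
  obtain ⟨l, a, htor, -⟩ := id hd
  obtain ⟨l', a', htor', -⟩ := id hd'
  -- `d'` normalises the complement of `d`
  have hnorm : ∀ g ∈ S.comp hcomm hd, d' * g * d'⁻¹ ∈ S.comp hcomm hd := by
    rintro _ ⟨z, hz, x, hx, rfl⟩
    refine ⟨d' * z * d'⁻¹, S.tor d' l' a' htor' z hz, d' * x * d'⁻¹, S.conj_qg htor' hx, ?_⟩
    have hc : ∃ c ∈ Subgroup.center Γ, d' * d * d'⁻¹ = d * c := S.ext.exists_central (by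
      rw [map_mul, map_mul, map_inv, (P.tor_comm hF htor' htor).eq, mul_inv_cancel_right])
    obtain ⟨c, hc, hce⟩ := hc
    have e : d' * (z * ⁅d, x⁆) * d'⁻¹ =
        d' * z * d'⁻¹ * ⁅d' * d * d'⁻¹, d' * x * d'⁻¹⁆ := by
      simp only [commutatorElement_def]; group
    rw [e, hce, ← mul_one (d' * x * d'⁻¹),
      Cfsg.Agent.Schur.commutatorElement_mul_central hc (one_mem _), mul_one]
  rintro _ ⟨z, hz, x, hx, rfl⟩
  have hzd : z ∈ S.comp hcomm hd := ⟨z, hz, 1, by rw [map_one]; exact one_mem _, by simp⟩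
  refine mul_mem hzd ?_
  obtain ⟨x', hx', he⟩ : σ x ∈ (S.comp hcomm hd).map σ := (S.comp_map hcomm hd).symm ▸ hx
  obtain ⟨c, hc, hce⟩ := S.ext.exists_central he.symm
  rw [hce, ← mul_one d', Cfsg.Agent.Schur.commutatorElement_mul_central (one_mem _) hc,
    commutatorElement_def]
  exact mul_mem (hnorm _ hx') (inv_mem hx')

/-- The complement is normalised by whatever commutes with some mover and centralises `Z`. -/
theorem ZSplit.hasQComplement (hwide : 5 ≤ n ∨ n ≤ 4 ∧ 4 ≤ q)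
    {d₀ : Γ} (hd₀ : P.IsMover σ d₀)
    (hmov : ∀ g ∈ (rootSet P.pair : Set (SU n F q)), ∃ d : Γ, P.IsMover σ d ∧ Commute g (σ d)) :
    HasQComplement hF P σ := by
  set X := S.comp hcomm hd₀ with hX
  refine ⟨X, S.comp_inj hcomm hd₀, S.comp_map hcomm hd₀, ?_⟩
  have key : ∀ g ∈ rootGrp (F := F) (q := q) P.pair, (∃ d : Γ, P.IsMover σ d ∧ Commute g (σ d)) →
      ∀ k, σ k = g → ∀ x ∈ X, k * x * k⁻¹ ∈ X := by
    rintro g hgr ⟨d, hd, hgd⟩ k rfl x hx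
    have hx' : x ∈ S.comp hcomm hd := S.comp_le hcomm hd hd₀ hx
    obtain ⟨z, hz, y, hy, rfl⟩ := hx'
    refine S.comp_le hcomm hd₀ hd ?_
    obtain ⟨c0, hc0⟩ : σ z ∈ P.zgrp hF := S.map ▸ ⟨z, hz, rfl⟩
    have hkz : Commute k z :=
      S.ext.commute_of_cm (P.cm_rootGrp_zero hF S.ext hwide hc0 hgr).2
    obtain ⟨c, hc, hce⟩ := S.ext.exists_central (a := k * d * k⁻¹) (a' := d) (by
      rw [map_mul, map_mul, map_inv, hgd.eq, mul_inv_cancel_right])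
    refine ⟨z, hz, k * y * k⁻¹, ?_, ?_⟩
    · rw [map_mul, map_mul, map_inv]
      exact P.qg_conj hF (by simpa using rootGrp_le_fixS hF _ hgr) hy
    · have e : k * (z * ⁅d, y⁆) * k⁻¹ = k * z * k⁻¹ * ⁅k * d * k⁻¹, k * y * k⁻¹⁆ := by
        simp only [commutatorElement_def]; group
      rw [e, hkz.eq, mul_inv_cancel_right, hce, ← mul_one (k * y * k⁻¹),
        Cfsg.Agent.Schur.commutatorElement_mul_central hc (one_mem _), mul_one]
  suffices h : ∀ g ∈ rootGrp (F := F) (q := q) P.pair, ∀ k, σ k = g →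
      ∀ x ∈ X, k * x * k⁻¹ ∈ X from
    fun k hk => h _ hk k rfl
  intro g hg
  induction hg using Subgroup.closure_induction'' with
  | one =>
    intro k hk x hx
    have hc : k ∈ Subgroup.center Γ := S.ext.central hk
    rwa [← Subgroup.mem_center_iff.1 hc x, mul_inv_cancel_right]
  | mul a b _ _ ha hb =>
    intro k hk x hx
    obtain ⟨k', rfl⟩ := S.ext.surj a
    have h1 := hb (k'⁻¹ * k) (by rw [map_mul, map_inv, hk, inv_mul_cancel_left]) x hx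
    have h2 := ha k' rfl _ h1
    rwa [show k' * (k'⁻¹ * k * x * (k'⁻¹ * k)⁻¹) * k'⁻¹ = k * x * k⁻¹ by group] at h2
  | mem g hg => exact key g (Subgroup.subset_closure hg) (hmov g hg)
  | inv_mem g hg =>
    obtain ⟨d, hd, hgd⟩ := hmov g hg
    exact key g⁻¹ (inv_mem (Subgroup.subset_closure hg)) ⟨d, hd, hgd.inv_left⟩

end Cfsg.Agent.SuMult50
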