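import Cfsg.Agent.SuMult50.Tools
import Cfsg.Agent.Lib.Unitary.Generation
import Cfsg.Agent.CharB.PSLMult.PPrime
import Cfsg.Agent.S0281

/-!
Monomial elements and coordinate subgroups of `SU_n(q)`; generation by `p`-elements (helper50).
-/

set_option autoImplicit false

namespace Cfsg.Agent.SuMult50

open Matrix Cfsg.Agent.Unitary Cfsg.Agent.CharB.PSLMult

universe v

variable {F : Type v} [Field F] {n q : ℕ}

/-- The matrix of a monomial map. -/
def monMat (π : Equiv.Perm (Fin n)) (a : Fin n → F) : Matrix (Fin n) (Fin n) F :=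
  Matrix.of fun i j => if i = π j then a j else 0

theorem monMat_mulVec (π : Equiv.Perm (Fin n)) (a x : Fin n → F) (j : Fin n) :
    (monMat π a *ᵥ x) (π j) = a j * x j := by
  simp [monMat, mulVec, dotProduct, ite_mul, Finset.sum_ite_eq, π.injective.eq_iff]

theorem det_monMat (π : Equiv.Perm (Fin n)) (a : Fin n → F) :
    (monMat π a).det = ((Equiv.Perm.sign π : ℤ) : F) * ∏ j, a j := by
  have e : monMat π a = (Matrix.diagonal a).submatrix π.symm id := by
    ext i j
    by_cases h : i = π j
    · subst h; simp [monMat]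
    · have h' : π.symm i ≠ j := fun e => h (by rw [← e, Equiv.apply_symm_apply])
      simp [monMat, h, Matrix.diagonal_apply_ne _ h']
  rw [e, Matrix.det_permute, Matrix.det_diagonal, Equiv.Perm.sign_symm]

theorem monMat_herm (π : Equiv.Perm (Fin n)) {a : Fin n → F} (ha : ∀ i, a i ^ (q + 1) = 1)
    (x y : Fin n → F) : herm q (monMat π a *ᵥ x) (monMat π a *ᵥ y) = herm q x y := by
  rw [herm, herm, hermForm, hermForm,
    ← Equiv.sum_comp π (fun i => (monMat π a *ᵥ x) i * (monMat π a *ᵥ y) i ^ q)]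
  refine Finset.sum_congr rfl fun j _ => ?_
  rw [monMat_mulVec, monMat_mulVec, mul_pow, mul_mul_mul_comm, ← pow_succ', ha j, one_mul]

/-- A monomial element. -/
def monSU (π : Equiv.Perm (Fin n)) (a : Fin n → F) (ha : ∀ i, a i ^ (q + 1) = 1)
    (hd : ((Equiv.Perm.sign π : ℤ) : F) * ∏ j, a j = 1) : SU n F q :=
  ⟨⟨monMat π a, (det_monMat π a).trans hd⟩, fun x y => monMat_herm π ha x y⟩

theorem monSU_smul (π : Equiv.Perm (Fin n)) (a : Fin n → F) (ha : ∀ i, a i ^ (q + 1) = 1)
    (hd : ((Equiv.Perm.sign π : ℤ) : F) * ∏ j, a j = 1) (x : Fin n → F) (j : Fin n) :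
    (monSU π a ha hd • x) (π j) = a j * x j := monMat_mulVec π a x j

theorem monSU_smul_eI (π : Equiv.Perm (Fin n)) (a : Fin n → F) (ha : ∀ i, a i ^ (q + 1) = 1)
    (hd : ((Equiv.Perm.sign π : ℤ) : F) * ∏ j, a j = 1) (i : Fin n) :
    monSU π a ha hd • (eI i : Fin n → F) = a i • eI (π i) := by
  funext k
  obtain ⟨j, rfl⟩ := π.surjective k
  rw [monSU_smul]
  by_cases h : j = i
  · subst h; simp [eI]
  · simp [eI, h, π.injective.ne h]

theorem monSU_mem_fixS {S : Finset (Fin n)} (π : Equiv.Perm (Fin n)) (a : Fin n → F)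
    (ha : ∀ i, a i ^ (q + 1) = 1) (hd : ((Equiv.Perm.sign π : ℤ) : F) * ∏ j, a j = 1)
    (h : ∀ i ∈ S, π i = i ∧ a i = 1) : monSU π a ha hd ∈ fixS S :=
  mem_fixS.2 fun i hi => by rw [monSU_smul_eI, (h i hi).1, (h i hi).2, one_smul]

variable [Fintype F] (hF : Fintype.card F = q ^ 2)
include hF

theorem tv_pow_smul {u : Fin n → F} {c : F} (hu : herm q u u = 0) (hc : c + c ^ q = 0) :
    ∀ (k : ℕ) (x : Fin n → F), tv hF hu hc ^ k • x = x + ((k : F) * c * herm q x u) • u
  | 0, x => by simp
  | k + 1, x => by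
    rw [pow_succ, mul_smul, tv_smul, tv_pow_smul hu hc k, herm_add_left, herm_smul_left, hu]
    push_cast
    module

theorem pel_tv {p : ℕ} [CharP F p] {u : Fin n → F} {c : F} (hu : herm q u u = 0)
    (hc : c + c ^ q = 0) : Pel p (tv hF hu hc) :=
  ⟨1, eq_of_smul_eq_SU fun x => by
    rw [pow_one, tv_pow_smul hF, CharP.cast_eq_zero, zero_mul, zero_mul, zero_smul, add_zero,
      one_smul]⟩

/-- Coordinate subgroups are generated by `p`-elements. -/
theorem fixS_gen {p : ℕ} [CharP F p] {S : Finset (Fin n)} (h32 : ¬ (Sᶜ.card = 3 ∧ q = 2)) :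
    Subgroup.closure {x : (fixS S : Subgroup (SU n F q)) | Pel p x} = ⊤ := by
  set T : Subgroup (SU n F q) := fixS S
  have h : T ≤ (Subgroup.closure {x : T | Pel p x}).map T.subtype := by
    refine (fixS_le_tvGroup hF h32).trans ?_
    rw [tvGroup, Subgroup.closure_le]
    rintro _ ⟨u, c, hu, hc, huS, rfl⟩
    refine ⟨⟨_, tv_mem_fixS hF hu hc huS⟩, Subgroup.subset_closure ?_, rfl⟩
    obtain ⟨k, hk⟩ := pel_tv hF (p := p) hu hc
    exact ⟨k, Subtype.ext hk⟩
  rw [eq_top_iff]
  intro x _
  obtain ⟨y, hy, hyx⟩ := h x.2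
  rwa [← Subtype.ext (a1 := y) (a2 := x) hyx]

/-- `SU_n(q)` is generated by its `p`-elements. -/
theorem SU_gen {p : ℕ} [CharP F p] (h32 : ¬ (n = 3 ∧ q = 2)) :
    Subgroup.closure {x : SU n F q | Pel p x} = ⊤ := by
  rw [eq_top_iff, ← tvGroup_empty hF h32, tvGroup]
  refine Subgroup.closure_mono ?_
  rintro _ ⟨u, c, hu, hc, -, rfl⟩
  exact pel_tv hF hu hc

/-- The coordinate subgroup is a smaller special unitary group. -/
theorem fixS_equiv {k : ℕ} (S : Finset (Fin n)) (hk : Sᶜ.card = k) :
    Nonempty (SU k F q ≃* (fixS S : Subgroup (SU n F q))) := by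
  classical
  let e : Fin k ⊕ {i // i ∈ S} ≃ Fin n :=
    (Equiv.sumCongr ((Sᶜ.orderIsoOfFin hk).toEquiv.trans
      (Equiv.subtypeEquivRight fun _ => Finset.mem_compl)) (Equiv.refl _)).trans
      ((Equiv.sumComm _ _).trans (Equiv.sumCompl fun i => i ∈ S))
  have he : ∀ j, e (Sum.inr j) = j.1 := fun j => rfl
  have heS : ∀ i, e (Sum.inl i) ∉ S := fun i => by
    have := ((Sᶜ.orderIsoOfFin hk) i).2
    rw [Finset.mem_compl] at this
    exact this
  let ext : Matrix (Fin k) (Fin k) F → Matrix (Fin n) (Fin n) F :=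
    fun A => (Matrix.fromBlocks A 0 0 1).submatrix e.symm e.symm
  have hext : ∀ A x, (ext A *ᵥ x) ∘ e = Sum.elim (A *ᵥ (x ∘ e ∘ Sum.inl)) (x ∘ e ∘ Sum.inr) := by
    intro A x
    have h1 : ext A *ᵥ x = (Matrix.fromBlocks A 0 0 1 *ᵥ (x ∘ e)) ∘ e.symm := by
      simp only [ext, Matrix.submatrix_mulVec_equiv, Equiv.symm_symm]
    funext i
    rcases i with i | i <;> simp [h1, Matrix.fromBlocks_mulVec, Function.comp_def]
  have hherm : ∀ x y : Fin n → F, herm q x y =
      herm q (x ∘ e ∘ Sum.inl) (y ∘ e ∘ Sum.inl) + ∑ j : {i // i ∈ S}, x j.1 * y j.1 ^ q := by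
    intro x y
    rw [herm, herm, hermForm, hermForm, ← Equiv.sum_comp e (fun i => x i * y i ^ q),
      Fintype.sum_sum_type]
    rfl
  let φ : SU k F q →* (fixS S : Subgroup (SU n F q)) :=
    { toFun := fun A => ⟨⟨⟨ext A.1.1, by
          simp only [ext]
          rw [Matrix.det_submatrix_equiv_self, Matrix.det_fromBlocks_zero₂₁, A.1.2, Matrix.det_one,
            one_mul]⟩, fun x y => by
          show herm q (ext A.1.1 *ᵥ x) (ext A.1.1 *ᵥ y) = herm q x y
          have h1 : ∀ x, (ext A.1.1 *ᵥ x) ∘ e ∘ Sum.inl = A • (x ∘ e ∘ Sum.inl) := fun x => by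
            funext i
            exact congrFun (hext A.1.1 x) (Sum.inl i)
          have h2 : ∀ x (j : {i // i ∈ S}), (ext A.1.1 *ᵥ x) j.1 = x j.1 := fun x j => by
            have := congrFun (hext A.1.1 x) (Sum.inr j)
            simpa [he] using this
          rw [hherm, hherm x y, h1, h1, herm_smul_SU]
          simp only [h2]⟩, mem_fixS.2 fun i hi => by
          show ext A.1.1 *ᵥ eI i = eI i
          funext j
          obtain ⟨j, rfl⟩ := e.surjective j
          have := congrFun (hext A.1.1 (eI i)) j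
          rw [Function.comp_apply] at this
          rw [this]
          rcases j with j | j
          · have hne : ∀ l, e (Sum.inl l) ≠ i := fun l h => heS l (h ▸ hi)
            simp [eI, mulVec, dotProduct, hne]
          · simp [he, eI]⟩
      map_one' := Subtype.ext (Subtype.ext (Subtype.ext (by
        show ext 1 = 1
        simp only [ext, Matrix.fromBlocks_one, Matrix.submatrix_one_equiv])))
      map_mul' := fun A B => Subtype.ext (Subtype.ext (Subtype.ext (by
        show ext (A.1.1 * B.1.1) = ext A.1.1 * ext B.1.1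
        simp only [ext, Matrix.submatrix_mul_equiv, Matrix.fromBlocks_multiply]
        simp))) }
  refine ⟨MulEquiv.ofBijective φ ⟨fun A B h => ?_, fun g => ?_⟩⟩
  · have h' : ext A.1.1 = ext B.1.1 := congrArg (fun z => z.1.1.1) h
    refine Subtype.ext (Subtype.ext ?_)
    have h2 := congrArg (fun M : Matrix (Fin n) (Fin n) F => M.submatrix (e ∘ Sum.inl) (e ∘ Sum.inl)) h'
    ext i j
    have := congrFun (congrFun h2 i) j
    simpa [ext] using this
  · obtain ⟨g, hg⟩ := g
    set M : Matrix (Fin n) (Fin n) F := g.1.1 with hM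
    set A := M.submatrix (e ∘ Sum.inl) (e ∘ Sum.inl) with hA
    have hcol : ∀ i l, M i l = (g • (eI l : Fin n → F)) i := fun i l => by
      show _ = (M *ᵥ eI l) i
      simp [eI]
    have h0 : ∀ {i l}, i ∈ S → l ∉ S → M i l = 0 := fun {i l} hi hl => by
      rw [hcol]; exact smul_mem_supp_SU hF hg (eI_mem_supp hl) i hi
    have h1 : ∀ i {l}, l ∈ S → M i l = (eI l : Fin n → F) i := fun i {l} hl => by
      rw [hcol, mem_fixS.1 hg l hl]
    have heq : M = ext A := by
      ext i l
      obtain ⟨i, rfl⟩ := e.surjective i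
      obtain ⟨l, rfl⟩ := e.surjective l
      rcases i with i | i <;> rcases l with l | l <;>
        simp only [ext, Matrix.submatrix_apply, Equiv.symm_apply_apply, Matrix.fromBlocks_apply₁₁,
          Matrix.fromBlocks_apply₁₂, Matrix.fromBlocks_apply₂₁, Matrix.fromBlocks_apply₂₂,
          Matrix.zero_apply]
      · rfl
      · rw [h1 _ (he l ▸ l.2)]
        have : e (Sum.inl i) ≠ e (Sum.inr l) := e.injective.ne (by simp)
        simp [eI, this]
      · exact h0 (he i ▸ i.2) (heS l)
      · rw [h1 _ (he l ▸ l.2)]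
        by_cases h : i = l
        · subst h; simp [eI]
        · have : e (Sum.inr i) ≠ e (Sum.inr l) := e.injective.ne (by simpa using h)
          simp [eI, this, h]
    have hdet : A.det = 1 := by
      have := g.1.2
      rw [← hM, heq] at this
      simp only [ext] at this
      rwa [Matrix.det_submatrix_equiv_self, Matrix.det_fromBlocks_zero₂₁, Matrix.det_one,
        mul_one] at this
    have hform : ∀ x y, herm q (A *ᵥ x) (A *ᵥ y) = herm q x y := by
      intro x y
      let up : (Fin k → F) → (Fin n → F) := fun x => Sum.elim x 0 ∘ e.symm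
      have hup1 : ∀ x, up x ∘ e ∘ Sum.inl = x := fun x => by funext i; simp [up]
      have hup2 : ∀ x (j : {i // i ∈ S}), up x j.1 = 0 := fun x j => by
        rw [← he j]; simp [up]
      have h3 : ∀ x, (g • up x) ∘ e ∘ Sum.inl = A *ᵥ x := fun x => by
        funext i
        show (M *ᵥ up x) (e (Sum.inl i)) = _
        rw [heq]
        have := congrFun (hext A (up x)) (Sum.inl i)
        rw [Function.comp_apply] at this
        rw [this, hup1]
        rfl
      have h4 : ∀ x (j : {i // i ∈ S}), (g • up x) j.1 = 0 := fun x j => by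
        show (M *ᵥ up x) j.1 = 0
        rw [heq]
        have := congrFun (hext A (up x)) (Sum.inr j)
        rw [Function.comp_apply, he] at this
        rw [this]
        simp [hup2, he]
      have := herm_smul_SU g (up x) (up y)
      rw [hherm, hherm (up x), h3, h3, hup1, hup1] at this
      simpa [h4, hup2, zero_pow_q hF] using this
    exact ⟨⟨⟨A, hdet⟩, hform⟩, Subtype.ext (Subtype.ext (Subtype.ext heq.symm))⟩

/-- `SU₂(q)` has no multiplier prime to `p`. -/
theorem ptriv_SU_two {p : ℕ} [CharP F p] : PTriv.{v, v} p (SU 2 F q) := by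
  classical
  let L := (conjHom hF).eqLocusField (RingHom.id F)
  have hc : Nat.card L = q :=
    (Nat.card_congr (Equiv.subtypeEquivRight fun x => Iff.rfl)).trans (card_fixed hF)
  let : Fintype L := Fintype.ofFinite L
  have hK : Fintype.card L = q := by rw [← Nat.card_eq_fintype_card]; exact hc
  have : CharP L p := (RingHom.charP_iff L.subtype L.subtype.injective p).2 inferInstance
  obtain ⟨e⟩ := Cfsg.Agent.S0281.equiv_SL hF hK
  exact PTriv.of_mulEquiv e.symm ptriv_two

theorem ptriv_fixS {p k : ℕ} {S : Finset (Fin n)} (hk : Sᶜ.card = k)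
    (h : PTriv.{v, v} p (SU k F q)) : PTriv.{v, v} p (fixS S : Subgroup (SU n F q)) := by
  obtain ⟨e⟩ := fixS_equiv hF S hk
  exact PTriv.of_mulEquiv e h

end Cfsg.Agent.SuMult50
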