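import Cfsg.Agent.SuMult50.Orth
import Cfsg.Agent.SuMult50.Embed

/-!
The part prime to `p` by covering the norm-one vectors: from `SU_k` to `SU_{k+1}` (helper50).
-/

set_option autoImplicit false

namespace Cfsg.Agent.SuMult50

open Matrix Subgroup Cfsg.Agent.Unitary Cfsg.Agent.CharB.PSLMult

universe v

variable {F : Type v} [Field F] {k q p : ℕ}

/-- The lifts of the stabiliser of a vector. -/
def stHat {Γ : Type v} [Group Γ] (p : ℕ) (σ : Γ →* SU (k + 1) F q) (w : Fin (k + 1) → F) :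
    Subgroup Γ :=
  hat p σ (MulAction.stabilizer (SU (k + 1) F q) w)

variable {Γ : Type v} [Group Γ] {σ : Γ →* SU (k + 1) F q}

theorem stHat_smul {w : Fin (k + 1) → F} {g : Γ} (hg : g ∈ stHat p σ w) : σ g • w = w :=
  hat_le_comap _ hg

theorem stHat_conj {w : Fin (k + 1) → F} (a : Γ) {g : Γ} (hg : g ∈ stHat p σ w) :
    a * g * a⁻¹ ∈ stHat p σ (σ a • w) := by
  induction hg using Subgroup.closure_induction with
  | mem x hx =>
    refine mem_hat (hx.1.conj a) ?_
    rw [MulAction.mem_stabilizer_iff, map_mul, map_mul, map_inv, mul_smul, mul_smul, inv_smul_smul,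
      show σ x • w = w from hx.2]
  | one => simp
  | mul b c _ _ hb hc =>
    rw [show a * (b * c) * a⁻¹ = a * b * a⁻¹ * (a * c * a⁻¹) by group]
    exact mul_mem hb hc
  | inv b _ hb =>
    rw [show a * b⁻¹ * a⁻¹ = (a * b * a⁻¹)⁻¹ by group]
    exact inv_mem hb

theorem hat_mono {G : Type v} [Group G] {ρ : Γ →* G} {X Y : Subgroup G} (h : X ≤ Y) :
    hat p ρ X ≤ hat p ρ Y :=
  Subgroup.closure_mono fun _ hg => ⟨hg.1, h hg.2⟩

variable [Fintype F] (hF : Fintype.card F = q ^ 2) [CharP F p]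
include hF

omit [CharP F p] in
theorem exists_basis_pair (hk : 4 ≤ k) (hq : 6 ≤ k ∨ 3 ≤ q) {a b : Fin (k + 1) → F}
    (haa : herm q a a = 1) (hbb : herm q b b = 1) (hab : herm q b a = 0) :
    ∃ g : SU (k + 1) F q, g • (eI 0 : Fin (k + 1) → F) = a ∧ g • (eI 1 : Fin (k + 1) → F) = b := by
  have h01 : (0 : Fin (k + 1)) ≠ 1 := by simp [Fin.ext_iff]; omega
  have he : ∀ i : Fin (k + 1), herm q (eI i) (eI i : Fin (k + 1) → F) = 1 := fun i => by
    rw [herm_eI_eI hF, if_pos rfl]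
  obtain ⟨t1, -, h1⟩ := exists_move_norm_one hF (S := (∅ : Finset (Fin (k + 1))))
    (by simp; omega) (Or.inl (by simp; omega)) (x := eI 0) (x' := a) (by simp [supp_empty])
    (by simp [supp_empty]) (he 0) haa
  have hb0 : t1⁻¹ • b ∈ supp ({0} : Finset (Fin (k + 1))) := mem_supp.2 fun i hi => by
    rw [Finset.mem_singleton.1 hi, ← herm_eI_right hF 0 (t1⁻¹ • b), ← herm_smul_SU t1,
      smul_inv_smul, h1, hab]
  obtain ⟨t2, ht2, h2⟩ := exists_move_norm_one hF (S := ({0} : Finset (Fin (k + 1))))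
    (by simp [Finset.card_compl]; omega) (Or.inl (by simp [Finset.card_compl]; omega))
    (x := eI 1) (x' := t1⁻¹ • b) (eI_mem_supp (by simpa using h01.symm)) hb0 (he 1)
    (by rw [← herm_smul_SU t1, smul_inv_smul, hbb])
  exact ⟨t1 * t2, by rw [mul_smul, mem_fixS.1 (tvGroup_le_fixS hF ht2) 0 (by simp), h1],
    by rw [mul_smul, h2, smul_inv_smul]⟩

/-- Lifts of what fixes an orthonormal pair. -/
theorem lift_pair (E : PExt p σ) (hk : 4 ≤ k) (hq : 6 ≤ k ∨ 3 ≤ q) {a b : Fin (k + 1) → F}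
    (haa : herm q a a = 1) (hbb : herm q b b = 1) (hab : herm q b a = 0) {x : SU (k + 1) F q}
    (hxa : x • a = a) (hxb : x • b = b) :
    ∃ y : Γ, σ y = x ∧ ∀ c d : F, y ∈ stHat p σ (c • a + d • b) := by
  obtain ⟨g, hga, hgb⟩ := exists_basis_pair hF hk hq haa hbb hab
  have h01 : (0 : Fin (k + 1)) ≠ 1 := by simp [Fin.ext_iff]; omega
  set X0 : Subgroup (SU (k + 1) F q) := fixS {0, 1} with hX0
  set X : Subgroup (SU (k + 1) F q) := X0.map (MulAut.conj g).toMonoidHom with hX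
  have hgen : Subgroup.closure {z : X0 | Pel p z} = ⊤ := fixS_gen hF (by
    rw [Finset.card_compl, Finset.card_pair h01, Fintype.card_fin]; omega)
  have hmap : (hat p σ X).map σ = X := by
    refine E.map_hat (S := (MulAut.conj g).toMonoidHom '' (X0.subtype '' {z : X0 | Pel p z})) ?_ ?_ ?_
    · rw [← MonoidHom.map_closure, ← MonoidHom.map_closure, hgen, ← MonoidHom.range_eq_map,
        Subgroup.range_subtype]
    · rintro _ ⟨_, ⟨z, -, rfl⟩, rfl⟩
      exact ⟨z.1, z.2, rfl⟩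
    · rintro _ ⟨_, ⟨z, hz, rfl⟩, rfl⟩
      exact (hz.map X0.subtype).map (MulAut.conj g).toMonoidHom
  have hxX : x ∈ X := by
    refine ⟨g⁻¹ * x * g, mem_fixS.2 fun i hi => ?_, by simp [mul_assoc]⟩
    rw [mul_smul, mul_smul]
    rcases Finset.mem_insert.1 hi with rfl | hi
    · rw [hga, hxa, ← hga, inv_smul_smul]
    · rw [Finset.mem_singleton.1 hi, hgb, hxb, ← hgb, inv_smul_smul]
  obtain ⟨y, hy, rfl⟩ : x ∈ (hat p σ X).map σ := hmap.symm ▸ hxX
  refine ⟨y, rfl, fun c d => hat_mono ?_ hy⟩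
  rintro _ ⟨z, hz, rfl⟩
  have h0 := mem_fixS.1 hz 0 (by simp)
  have h1 := mem_fixS.1 hz 1 (by simp)
  have e : ∀ (i : Fin (k + 1)) (v : Fin (k + 1) → F), g • (eI i : Fin (k + 1) → F) = v → z • (eI i : Fin (k + 1) → F) = eI i →
      (MulAut.conj g).toMonoidHom z • v = v := by
    intro i v hv hzi
    show (g * z * g⁻¹) • v = v
    rw [mul_smul, mul_smul, ← hv, inv_smul_smul, hzi]
  rw [MulAction.mem_stabilizer_iff, smul_add, smul_comm _ c, smul_comm _ d, e 0 a hga h0,
    e 1 b hgb h1]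

theorem stHat_props [Finite Γ] (E : PExt p σ) (ih : PTriv.{v, v} p (SU k F q)) (hk : 4 ≤ k)
    {w : Fin (k + 1) → F} (hw : herm q w w = 1) :
    (∀ g ∈ stHat p σ w, σ g = 1 → g = 1) ∧
      ∀ x : SU (k + 1) F q, x • w = w → ∃ g ∈ stHat p σ w, σ g = x := by
  classical
  obtain ⟨t, -, ht⟩ := exists_move_norm_one hF (S := (∅ : Finset (Fin (k + 1))))
    (by simp; omega) (Or.inl (by simp; omega)) (x := eI 0) (x' := w) (by simp [supp_empty])
    (by simp [supp_empty]) (by rw [herm_eI_eI hF, if_pos rfl]) hw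
  have hS : MulAction.stabilizer (SU (k + 1) F q) w =
      (fixS {0} : Subgroup (SU (k + 1) F q)).map (MulAut.conj t).toMonoidHom := by
    ext g
    constructor
    · intro hg
      rw [MulAction.mem_stabilizer_iff] at hg
      refine ⟨t⁻¹ * g * t, mem_fixS.2 fun i hi => ?_, by simp [mul_assoc]⟩
      rw [Finset.mem_singleton.1 hi, mul_smul, mul_smul, ht, hg, ← ht, inv_smul_smul]
    · rintro ⟨z, hz, rfl⟩
      show (t * z * t⁻¹) • w = w
      rw [mul_smul, mul_smul, ← ht, inv_smul_smul, mem_fixS.1 hz 0 (by simp)]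
  have e0 := Subgroup.equivMapOfInjective (fixS ({0} : Finset (Fin (k + 1))) :
    Subgroup (SU (k + 1) F q)) (MulAut.conj t).toMonoidHom (MulAut.conj t).injective
  have e := e0.trans (MulEquiv.subgroupCongr hS.symm)
  obtain ⟨h1, h2⟩ := hat_props E (MulAction.stabilizer (SU (k + 1) F q) w)
    (PTriv.of_mulEquiv e (ptriv_fixS hF (k := k) (by simp [Finset.card_compl]) ih)) (by
      rw [eq_top_iff, ← Subgroup.map_top_of_surjective e.toMonoidHom e.surjective,
        ← fixS_gen hF (S := ({0} : Finset (Fin (k + 1)))) (p := p)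
          (by simp [Finset.card_compl]; omega), MonoidHom.map_closure]
      refine Subgroup.closure_mono ?_
      rintro _ ⟨x, hx, rfl⟩
      exact hx.map e.toMonoidHom)
  refine ⟨h1, fun x hx => ?_⟩
  obtain ⟨g, hg, he⟩ : x ∈ (hat p σ (MulAction.stabilizer (SU (k + 1) F q) w)).map σ :=
    h2.symm ▸ hx
  exact ⟨g, hg, he⟩

/-- **Induction step for the part prime to `p`.** -/
theorem ptriv_SU_succ (hk : 4 ≤ k) (hq : 6 ≤ k ∨ 3 ≤ q) (ih : PTriv.{v, v} p (SU k F q)) :
    PTriv.{v, v} p (SU (k + 1) F q) := by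
  intro Γ _ _ σ E hgen
  classical
  set v₀ : Fin (k + 1) → F := eI 0 with hv₀
  have hv1 : herm q v₀ v₀ = 1 := by rw [hv₀, herm_eI_eI hF, if_pos rfl]
  set M : Subgroup Γ := stHat p σ v₀ with hMdef
  obtain ⟨hM, hMsurj⟩ := stHat_props hF E ih hk hv1
  let Good : (Fin (k + 1) → F) → Γ → Prop := fun v g => σ g • v₀ = v ∧
    ∃ w, herm q w w = 1 ∧ herm q w v₀ = 0 ∧ herm q w v = 0 ∧ g ∈ stHat p σ w
  -- movers fixing a given vector orthogonal to both
  have mover : ∀ w v : Fin (k + 1) → F, herm q w w = 1 → herm q w v₀ = 0 → herm q w v = 0 →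
      herm q v v = 1 → ∃ g ∈ stHat p σ w, σ g • v₀ = v := by
    intro w v hw hw0 hwv hv
    obtain ⟨g, hgw, hg0⟩ := exists_basis_pair hF hk hq hw hv1 ((herm_eq_zero_comm hF).1 hw0)
    have h01 : (0 : Fin (k + 1)) ≠ 1 := by simp [Fin.ext_iff]; omega
    have hv' : g⁻¹ • v ∈ supp ({0} : Finset (Fin (k + 1))) := mem_supp.2 fun i hi => by
      rw [Finset.mem_singleton.1 hi, ← herm_eI_right hF 0 (g⁻¹ • v), ← herm_smul_SU g,
        smul_inv_smul, hgw, (herm_eq_zero_comm hF).1 hwv]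
    obtain ⟨t, ht, hte⟩ := exists_move_norm_one hF (S := ({0} : Finset (Fin (k + 1))))
      (by simp [Finset.card_compl]; omega) (Or.inl (by simp [Finset.card_compl]; omega))
      (x := eI 1) (x' := g⁻¹ • v) (eI_mem_supp (by simpa using h01.symm)) hv'
      (by rw [herm_eI_eI hF, if_pos rfl]) (by rw [← herm_smul_SU g, smul_inv_smul, hv])
    obtain ⟨y, hy, hye⟩ := (stHat_props hF E ih hk hw).2 (g * t * g⁻¹) (by
      rw [mul_smul, mul_smul, ← hgw, inv_smul_smul,
        mem_fixS.1 (tvGroup_le_fixS hF ht) 0 (by simp)])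
    refine ⟨y, hy, ?_⟩
    rw [hye, mul_smul, mul_smul, ← hg0, inv_smul_smul, hte, smul_inv_smul]
  have good_exists : ∀ v, herm q v v = 1 → ∃ g, Good v g := by
    intro v hv
    obtain ⟨w, hw, hw0, hwv⟩ := exists_norm_one_perp₂ hF (by omega) v hv1
    obtain ⟨g, hg, hgv⟩ := mover w v hw hw0 hwv hv
    exact ⟨g, hgv, w, hw, hw0, hwv, hg⟩
  -- one vector: unique modulo `M`
  have same : ∀ w, herm q w w = 1 → herm q w v₀ = 0 → ∀ g g' : Γ, g ∈ stHat p σ w →
      g' ∈ stHat p σ w → σ g • v₀ = σ g' • v₀ → g⁻¹ * g' ∈ M := by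
    intro w hw hw0 g g' hg hg' he
    have hgg : g⁻¹ * g' ∈ stHat p σ w := mul_mem (inv_mem hg) hg'
    obtain ⟨y, hy, hy'⟩ := lift_pair hF E hk hq hv1 hw hw0 (x := σ (g⁻¹ * g'))
      (by rw [map_mul, map_inv, mul_smul, inv_smul_eq_iff, he]) (stHat_smul hgg)
    have hyw : y ∈ stHat p σ w := by simpa using hy' 0 1
    have hey : g⁻¹ * g' = y := by
      have h1 := (stHat_props hF E ih hk hw).1 ((g⁻¹ * g') * y⁻¹) (mul_mem hgg (inv_mem hyw))
        (by rw [map_mul, map_inv, hy, mul_inv_cancel])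
      exact mul_inv_eq_one.1 h1
    rw [hey]
    simpa using hy' 1 0
  -- two vectors spanning a non-degenerate line or plane
  have nondeg : ∀ v w w', herm q v v = 1 → herm q w w = 1 → herm q w v₀ = 0 → herm q w v = 0 →
      herm q w' w' = 1 → herm q w' v₀ = 0 → herm q w' v = 0 → herm q w' w ^ (q + 1) ≠ 1 →
      ∀ g g' : Γ, g ∈ stHat p σ w → g' ∈ stHat p σ w' → σ g • v₀ = v → σ g' • v₀ = v →
      g⁻¹ * g' ∈ M := by
    intro v w w' hv hw hw0 hwv hw' hw0' hwv' hne g g' hg hg' he he'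
    set c := herm q w' w with hc
    obtain ⟨s, hs⟩ := exists_norm_eq hF (t := (1 - c ^ (q + 1))⁻¹) (by
      rw [inv_pow, sub_pow_q hF, one_pow, norm_fixed hF])
    have hd : (1 : F) - c ^ (q + 1) ≠ 0 := sub_ne_zero.2 (Ne.symm hne)
    have hs0 : s ≠ 0 := fun h => by
      rw [h, zero_pow q.succ_ne_zero] at hs
      exact inv_ne_zero hd hs.symm
    set b := s • (w' - c • w) with hb
    have hbw : herm q b w = 0 := by
      rw [hb, herm_smul_left, herm_sub_left, herm_smul_left, hw, ← hc]; ring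
    have hbb : herm q b b = 1 := by
      have e1 : herm q w w' = c ^ q := by rw [herm_swap hF w' w]
      rw [hb, herm_smul_left, herm_smul_right hF, herm_sub_left, herm_sub_right hF,
        herm_sub_right hF, herm_smul_left, herm_smul_left, herm_smul_right hF, herm_smul_right hF,
        hw, hw', e1, ← hc, ← mul_assoc, ← pow_succ', hs,
        show (1 : F) - c ^ q * c - (c * c ^ q - c * (c ^ q * 1)) = 1 - c ^ (q + 1) by ring,
        inv_mul_cancel₀ hd]
    obtain ⟨G, hGw, hGb⟩ := exists_basis_pair hF hk hq hw hbb hbw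
    have h01 : (0 : Fin (k + 1)) ≠ 1 := by simp [Fin.ext_iff]; omega
    have hwb : ∀ z, herm q w z = 0 → herm q w' z = 0 → herm q b z = 0 := fun z h1 h2 => by
      rw [hb, herm_smul_left, herm_sub_left, herm_smul_left, h1, h2]; ring
    have hin : ∀ z, herm q w z = 0 → herm q w' z = 0 →
        G⁻¹ • z ∈ supp ({0, 1} : Finset (Fin (k + 1))) := fun z h1 h2 => mem_supp.2 fun i hi => by
      rw [← herm_eI_right hF i (G⁻¹ • z), ← herm_smul_SU G, smul_inv_smul]
      rcases Finset.mem_insert.1 hi with rfl | hi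
      · rw [hGw]; exact (herm_eq_zero_comm hF).1 h1
      · rw [Finset.mem_singleton.1 hi, hGb]; exact (herm_eq_zero_comm hF).1 (hwb z h1 h2)
    have hc2 : ({0, 1} : Finset (Fin (k + 1)))ᶜ.card = k - 1 := by
      rw [Finset.card_compl, Finset.card_pair h01, Fintype.card_fin]; omega
    obtain ⟨t, ht, hte⟩ := exists_move_norm_one hF (S := ({0, 1} : Finset (Fin (k + 1))))
      (by omega) (by rw [hc2]; omega) (x := G⁻¹ • v₀) (x' := G⁻¹ • v) (hin v₀ hw0 hw0')
      (hin v hwv hwv') (by rw [← herm_smul_SU G, smul_inv_smul, hv1])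
      (by rw [← herm_smul_SU G, smul_inv_smul, hv])
    have hfix := tvGroup_le_fixS hF ht
    obtain ⟨y, hy, hy'⟩ := lift_pair hF E hk hq hw hbb hbw (x := G * t * G⁻¹)
      (by rw [mul_smul, mul_smul, ← hGw, inv_smul_smul, mem_fixS.1 hfix 0 (by simp)])
      (by rw [mul_smul, mul_smul, ← hGb, inv_smul_smul, mem_fixS.1 hfix 1 (by simp)])
    have hyv : σ y • v₀ = v := by rw [hy, mul_smul, mul_smul, hte, smul_inv_smul]
    have h1 : y ∈ stHat p σ w := by simpa using hy' 1 0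
    have h2 : y ∈ stHat p σ w' := by
      have e : c • w + s⁻¹ • b = w' := by rw [hb, smul_smul, inv_mul_cancel₀ hs0]; module
      simpa [e] using hy' c s⁻¹
    have m1 := same w hw hw0 g y hg h1 (he.trans hyv.symm)
    have m2 := same w' hw' hw0' y g' h2 hg' (hyv.trans he'.symm)
    rw [show g⁻¹ * g' = g⁻¹ * y * (y⁻¹ * g') by group]
    exact mul_mem m1 m2
  have indep : ∀ v g g', herm q v v = 1 → Good v g → Good v g' → g⁻¹ * g' ∈ M := by
    rintro v g g' hv ⟨he, w, hw, hw0, hwv, hg⟩ ⟨he', w', hw', hw0', hwv', hg'⟩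
    by_cases hne : herm q w' w ^ (q + 1) = 1
    · obtain ⟨x, hx, hx0, hxv, hxw, hxw'⟩ := exists_between hF (by omega) (by omega) hv1 hw hw'
        hw0 hwv hw0' hwv' hne
      obtain ⟨y, hy, hye⟩ := mover x v hx hx0 hxv hv
      have m1 := nondeg v w x hv hw hw0 hwv hx hx0 hxv (by
        rw [hxw, zero_pow q.succ_ne_zero]; exact zero_ne_one) g y hg hy he hye
      have m2 := nondeg v w' x hv hw' hw0' hwv' hx hx0 hxv hxw' g' y hg' hy he' hye
      rw [show g⁻¹ * g' = g⁻¹ * y * (g'⁻¹ * y)⁻¹ by group]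
      exact mul_mem m1 (inv_mem m2)
    · exact nondeg v w w' hv hw hw0 hwv hw' hw0' hwv' hne g g' hg hg' he he'
  choose! r hr using good_exists
  have hnorm : ∀ (γ : Γ) (v : Fin (k + 1) → F), herm q v v = 1 → herm q (σ γ • v) (σ γ • v) = 1 :=
    fun γ v hv => by rw [herm_smul_SU, hv]
  let Φ : Subgroup Γ :=
    { carrier := {γ | ∀ v, herm q v v = 1 → (r (σ γ • v))⁻¹ * γ * r v ∈ M}
      one_mem' := fun v hv => by simp
      mul_mem' := fun {a b} ha hb v hv => by
        have h1 := ha (σ b • v) (hnorm b v hv)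
        have h2 := hb v hv
        rw [map_mul, mul_smul, show (r (σ a • σ b • v))⁻¹ * (a * b) * r v =
          (r (σ a • σ b • v))⁻¹ * a * r (σ b • v) * ((r (σ b • v))⁻¹ * b * r v) by group]
        exact mul_mem h1 h2
      inv_mem' := fun {a} ha v hv => by
        have h := inv_mem (ha (σ a⁻¹ • v) (hnorm a⁻¹ v hv))
        rw [map_inv, smul_inv_smul, _root_.mul_inv_rev, _root_.mul_inv_rev, inv_inv, ← mul_assoc] at h
        rwa [map_inv] }
  have hΦM : M ≤ Φ := by
    intro a ha v hv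
    obtain ⟨hre, w, hw, hw0, hwv, hrw⟩ := hr v hv
    have ha0 : σ a • v₀ = v₀ := stHat_smul ha
    have hconj := stHat_conj a hrw
    have hgood : Good (σ a • v) (a * r v * a⁻¹) := by
      refine ⟨?_, σ a • w, by rw [herm_smul_SU, hw], ?_, by rw [herm_smul_SU, hwv], hconj⟩
      · rw [map_mul, map_mul, map_inv, mul_smul, mul_smul,
          show (σ a)⁻¹ • v₀ = v₀ from inv_smul_eq_iff.2 ha0.symm, hre]
      · conv_lhs => arg 3; rw [← ha0]
        rw [herm_smul_SU, hw0]
    have := mul_mem (indep _ _ _ (hnorm a v hv) (hr _ (hnorm a v hv)) hgood) ha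
    rwa [show (r (σ a • v))⁻¹ * (a * r v * a⁻¹) * a = (r (σ a • v))⁻¹ * a * r v by group] at this
  have htv : ∀ g : Γ, Pel p g → ∀ (u : Fin (k + 1) → F) (c : F) (hu : herm q u u = 0)
      (hc : c + c ^ q = 0), σ g = tv hF hu hc → g ∈ Φ := by
    intro g hg u c hu hc he
    by_cases hu0 : herm q v₀ u = 0
    · refine hΦM (mem_hat hg ?_)
      rw [MulAction.mem_stabilizer_iff, he, tv_smul, hu0, mul_zero, zero_smul, add_zero]
    intro v hv
    obtain ⟨w, hw, hw0, hwv, hwu⟩ := exists_norm_one_perp₃ hF (by omega) v hv1 hu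
      (fun h => hu0 ((herm_eq_zero_comm hF).1 h))
    obtain ⟨y, hy, hye⟩ := mover w v hw hw0 hwv hv
    have hgw' : σ g • w = w := by rw [he, tv_smul, hwu, mul_zero, zero_smul, add_zero]
    have hgw : g ∈ stHat p σ w := mem_hat hg hgw'
    have hgood : Good (σ g • v) (g * y) := by
      refine ⟨by rw [map_mul, mul_smul, hye], w, hw, hw0, ?_, mul_mem hgw hy⟩
      conv_lhs => arg 2; rw [← hgw']
      rw [herm_smul_SU, hwv]
    have m1 := indep _ _ _ (hnorm g v hv) (hr _ (hnorm g v hv)) hgood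
    have m2 := indep _ _ _ hv ⟨hye, w, hw, hw0, hwv, hy⟩ (hr v hv)
    rw [show (r (σ g • v))⁻¹ * g * r v = (r (σ g • v))⁻¹ * (g * y) * (y⁻¹ * r v) by group]
    exact mul_mem m1 m2
  have htop : Φ = ⊤ := E.eq_top hgen (by
    rw [eq_top_iff, ← tvGroup_empty hF (n := k + 1) (by omega), tvGroup, Subgroup.closure_le]
    rintro _ ⟨u, c, hu, hc, -, rfl⟩
    exact ⟨E.pl _ (pel_tv hF hu hc), htv _ (E.pel_pl _) u c hu hc (E.map_pl _), E.map_pl _⟩)
  rw [eq_bot_iff]
  intro z hz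
  have hz1 : σ z = 1 := hz
  have h := (htop ▸ Subgroup.mem_top z : z ∈ Φ) v₀ hv1
  rw [hz1, one_smul, mul_assoc, Subgroup.mem_center_iff.1 (E.central hz) (r v₀) |>.symm,
    ← mul_assoc, inv_mul_cancel, one_mul] at h
  exact Subgroup.mem_bot.2 (hM z h hz1)

end Cfsg.Agent.SuMult50
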