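import Cfsg.Agent.SuMult50.Central

/-!
The commutator form of the lifted radical, modulo a section over the long root group, and its
vanishing by torus invariance (helper50).
-/

set_option autoImplicit false

namespace Cfsg.Agent.SuMult50

open Matrix Cfsg.Agent.Unitary Cfsg.Agent.CharB.PSLMult
open scoped commutatorElement

universe v

/-- A biadditive function invariant under the scalars `ν` and `ν + 1` vanishes. -/
theorem eq_zero_of_invariant {F A : Type*} [Field F] [AddCommGroup A] (f : F → F → A)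
    (hl : ∀ x x' y, f (x + x') y = f x y + f x' y) (hr : ∀ x y y', f x (y + y') = f x y + f x y')
    {ν : F} (h0 : ν ≠ 0) (h2 : ν * ν + ν + 1 ≠ 0)
    (hν : ∀ x y, f (ν * x) (ν * y) = f x y)
    (hν1 : ∀ x y, f ((ν + 1) * x) ((ν + 1) * y) = f x y) : ∀ x y, f x y = 0 := by
  have key : ∀ x y, f (ν * x) y + f x (ν * y) + f x y = 0 := by
    intro x y
    have h := hν1 x y
    rw [add_one_mul, add_one_mul, hl, hr, hr, hν] at h
    have : f (ν * x) y + f x (ν * y) + f x y =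
        (f x y + f (ν * x) y + (f x (ν * y) + f x y)) - f x y := by abel
    rw [this, h, sub_self]
  have key2 : ∀ x y, f ((ν + ν⁻¹ + 1) * x) y = 0 := by
    intro x y
    have h := key x y
    have e : f x (ν * y) = f (ν⁻¹ * x) y := by
      conv_lhs => rw [show x = ν * (ν⁻¹ * x) by rw [mul_inv_cancel_left₀ h0]]
      exact hν _ _
    rw [e] at h
    rw [add_mul, add_mul, one_mul, hl, hl, h]
  intro x y
  have hne : ν + ν⁻¹ + 1 ≠ 0 := fun e => h2 (by
    have e2 : (ν + ν⁻¹ + 1) * ν = ν * ν + ν + 1 := by field_simp; ring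
    rw [← e2, e, zero_mul])
  rw [show x = (ν + ν⁻¹ + 1) * (x / (ν + ν⁻¹ + 1)) from (mul_div_cancel₀ x hne).symm]
  exact key2 _ _

variable {F : Type v} [Field F] {n q : ℕ} [Fintype F] (hF : Fintype.card F = q ^ 2)
include hF

/-- The long root group of the frame. -/
def Frame.zgrp (P : Frame n F q) : Subgroup (SU n F q) where
  carrier := {g | ∃ c : F, P.IsQ g 0 c}
  one_mem' := ⟨0, P.isQ_one hF⟩
  mul_mem' := by
    rintro g g' ⟨c, h⟩ ⟨c', h'⟩
    exact ⟨_, P.isQ_congr (P.isQ_mul hF (zero_mem _) (zero_mem _) h h') (add_zero 0) rfl⟩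
  inv_mem' := by
    rintro g ⟨c, h⟩
    exact ⟨_, P.isQ_congr (P.isQ_inv hF (zero_mem _) h) neg_zero rfl⟩

theorem Frame.mem_zgrp {P : Frame n F q} {g : SU n F q} :
    g ∈ P.zgrp hF ↔ ∃ c : F, P.IsQ g 0 c := Iff.rfl

theorem Frame.zgrp_le_qg (P : Frame n F q) : P.zgrp hF ≤ P.qg hF ∅ := by
  rintro g ⟨c, h⟩
  exact ⟨0, c, zero_mem _, h⟩

variable (P : Frame n F q) {Γ : Type v} [Group Γ]

/-- A section over the long root group, stable under the torus. -/
structure ZSplit (σ : Γ →* SU n F q) (Z0 : Subgroup Γ) : Prop where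
  ext : CEx σ
  three : 3 ≤ n
  wide : 4 ≤ n ∨ 3 ≤ q
  inj : ∀ x ∈ Z0, σ x = 1 → x = 1
  map : Z0.map σ = P.zgrp hF
  tor : ∀ (k : Γ) (l : F) (a : Fin n → F), P.IsTor (σ k) l a → ∀ x ∈ Z0, k * x * k⁻¹ ∈ Z0

variable {σ : Γ →* SU n F q} {Z0 : Subgroup Γ} {hF} {P} (S : ZSplit hF P σ Z0)
include S

theorem ZSplit.central {x y : Γ} (hx : σ x ∈ P.qg hF ∅) (hy : σ y ∈ P.zgrp hF) :
    Commute x y := by
  obtain ⟨c, hc⟩ := hy
  exact S.ext.commute_of_cm (P.cm_qg_zero hF S.ext S.three S.wide hc hx).2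

theorem ZSplit.mem_qg {x : Γ} (hx : x ∈ Z0) : σ x ∈ P.qg hF ∅ :=
  P.zgrp_le_qg hF (S.map ▸ ⟨x, hx, rfl⟩)

theorem ZSplit.exists_proj {y : Γ} (hy : σ y ∈ P.zgrp hF) :
    ∃ c : σ.ker, y * (c : Γ)⁻¹ ∈ Z0 := by
  obtain ⟨x, hx, he⟩ : σ y ∈ Z0.map σ := S.map.symm ▸ hy
  refine ⟨⟨x⁻¹ * y, by simp [MonoidHom.mem_ker, he]⟩, ?_⟩
  show y * (x⁻¹ * y)⁻¹ ∈ Z0
  rwa [_root_.mul_inv_rev, inv_inv, mul_inv_cancel_left]

theorem ZSplit.proj_unique {y : Γ} {c c' : σ.ker} (h : y * (c : Γ)⁻¹ ∈ Z0)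
    (h' : y * (c' : Γ)⁻¹ ∈ Z0) : c = c' := by
  have e : (c : Γ) * (c' : Γ)⁻¹ ∈ Z0 := by
    have := mul_mem (inv_mem h) h'
    rwa [show (y * (c : Γ)⁻¹)⁻¹ * (y * (c' : Γ)⁻¹) = (c : Γ) * (c' : Γ)⁻¹ by group] at this
  exact Subtype.ext (mul_inv_eq_one.1 (S.inj _ e
    (by rw [map_mul, map_inv, MonoidHom.mem_ker.1 c.2, MonoidHom.mem_ker.1 c'.2, inv_one, one_mul])))

theorem ZSplit.comm_mem {a b : Γ} {v w : Fin n → F} {β β' : F} (hv : v ∈ supp P.pair)
    (hw : w ∈ supp P.pair) (ha : P.IsQ (σ a) v β) (hb : P.IsQ (σ b) w β') :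
    σ ⁅a, b⁆ ∈ P.zgrp hF :=
  ⟨_, by rw [map_commutatorElement, commutatorElement_def]; exact P.isQ_comm hF hv hw ha hb⟩

theorem ZSplit.comm_congr {a a' b : Γ} {v : Fin n → F} {β β' : F} (hv : v ∈ supp P.pair)
    (ha : P.IsQ (σ a) v β) (ha' : P.IsQ (σ a') v β') (hb : σ b ∈ P.qg hF ∅) :
    ⁅a', b⁆ = ⁅a, b⁆ := by
  have h1 := P.isQ_congr (P.isQ_mul hF (neg_mem hv) hv (P.isQ_inv hF hv ha) ha')
    (neg_add_cancel v) rfl
  have hy : σ (a⁻¹ * a') ∈ P.zgrp hF := ⟨_, by rw [map_mul, map_inv]; exact h1⟩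
  conv_lhs => rw [show a' = a * (a⁻¹ * a') by group]
  simp only [commutatorElement_def]
  calc a * (a⁻¹ * a') * b * (a * (a⁻¹ * a'))⁻¹ * b⁻¹
      = a * ((a⁻¹ * a') * b) * (a⁻¹ * a')⁻¹ * a⁻¹ * b⁻¹ := by group
    _ = _ := by rw [← (S.central hb hy).eq]; group

theorem ZSplit.exists_form (v w : Fin n → F) : ∃ c : σ.ker, v ∈ supp P.pair → w ∈ supp P.pair →
    ∀ (a b : Γ) (β β' : F), P.IsQ (σ a) v β → P.IsQ (σ b) w β' →
      ⁅a, b⁆ * (c : Γ)⁻¹ ∈ Z0 := by
  by_cases h : v ∈ supp P.pair ∧ w ∈ supp P.pair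
  swap
  · exact ⟨1, fun h1 h2 => absurd ⟨h1, h2⟩ h⟩
  obtain ⟨hv, hw⟩ := h
  obtain ⟨β, hβ⟩ := exists_trace_eq hF (t := -herm q v v) (by rw [neg_pow_q hF, herm_self_fixed hF])
  obtain ⟨β', hβ'⟩ := exists_trace_eq hF (t := -herm q w w) (by rw [neg_pow_q hF, herm_self_fixed hF])
  obtain ⟨g, hg⟩ := P.exists_isQ hF hv hβ
  obtain ⟨g', hg'⟩ := P.exists_isQ hF hw hβ'
  obtain ⟨a, rfl⟩ := S.ext.surj g
  obtain ⟨b, rfl⟩ := S.ext.surj g'
  obtain ⟨c, hc⟩ := S.exists_proj (S.comm_mem hv hw hg hg')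
  refine ⟨c, fun _ _ a' b' γ γ' ha' hb' => ?_⟩
  rw [S.comm_congr hv hg ha' ⟨w, γ', by simpa using hw, hb'⟩, ← commutatorElement_inv,
    S.comm_congr hw hg' hb' ⟨v, β, by simpa using hv, hg⟩, commutatorElement_inv]
  exact hc

/-- The form. -/
noncomputable def ZSplit.form (v w : Fin n → F) : σ.ker := (S.exists_form v w).choose

theorem ZSplit.form_spec {v w : Fin n → F} (hv : v ∈ supp P.pair) (hw : w ∈ supp P.pair)
    {a b : Γ} {β β' : F} (ha : P.IsQ (σ a) v β) (hb : P.IsQ (σ b) w β') :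
    ⁅a, b⁆ * (S.form v w : Γ)⁻¹ ∈ Z0 :=
  (S.exists_form v w).choose_spec hv hw a b β β' ha hb

theorem ZSplit.exists_lift {v : Fin n → F} (hv : v ∈ supp P.pair) :
    ∃ (a : Γ) (β : F), P.IsQ (σ a) v β := by
  obtain ⟨β, hβ⟩ := exists_trace_eq hF (t := -herm q v v) (by rw [neg_pow_q hF, herm_self_fixed hF])
  obtain ⟨g, hg⟩ := P.exists_isQ hF hv hβ
  obtain ⟨a, rfl⟩ := S.ext.surj g
  exact ⟨a, β, hg⟩

theorem ZSplit.form_inv {v w : Fin n → F} (hv : v ∈ supp P.pair) (hw : w ∈ supp P.pair) :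
    (S.form w v : Γ) = (S.form v w : Γ)⁻¹ := by
  obtain ⟨a, β, ha⟩ := S.exists_lift hv
  obtain ⟨b, β', hb⟩ := S.exists_lift hw
  have h1 := inv_mem (S.form_spec hv hw ha hb)
  rw [_root_.mul_inv_rev, inv_inv, commutatorElement_inv,
    ← Subgroup.mem_center_iff.1 (S.ext.central (S.form v w).2) ⁅b, a⁆] at h1
  have := S.proj_unique (c := S.form w v) (c' := (S.form v w)⁻¹) (S.form_spec hw hv hb ha)
    (by simpa using h1)
  rw [this]
  rfl

theorem ZSplit.form_add_left {v v' w : Fin n → F} (hv : v ∈ supp P.pair)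
    (hv' : v' ∈ supp P.pair) (hw : w ∈ supp P.pair) :
    (S.form (v + v') w : Γ) = (S.form v w : Γ) * (S.form v' w : Γ) := by
  obtain ⟨a, β, ha⟩ := S.exists_lift hv
  obtain ⟨a', γ, ha'⟩ := S.exists_lift hv'
  obtain ⟨b, β', hb⟩ := S.exists_lift hw
  have hab : P.IsQ (σ (a * a')) (v + v') (β + γ - herm q v' v) := by
    rw [map_mul]; exact P.isQ_mul hF hv hv' ha ha'
  set C := (S.form v w : Γ)
  set C' := (S.form v' w : Γ)
  have hC : ∀ x : Γ, x * C = C * x :=
    fun x => Subgroup.mem_center_iff.1 (S.ext.central (S.form v w).2) x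
  have hC' : ∀ x : Γ, x * C' = C' * x :=
    fun x => Subgroup.mem_center_iff.1 (S.ext.central (S.form v' w).2) x
  have h1 := mul_mem (S.form_spec hv' hw ha' hb) (S.form_spec hv hw ha hb)
  have e : ⁅a * a', b⁆ = ⁅a', b⁆ * ⁅a, b⁆ := by
    have hc := S.central (x := a) ⟨v, β, by simpa using hv, ha⟩ (S.comm_mem hv' hw ha' hb)
    calc ⁅a * a', b⁆ = a * ⁅a', b⁆ * a⁻¹ * ⁅a, b⁆ := by simp only [commutatorElement_def]; group
      _ = _ := by rw [hc.eq]; group
  have e2 : ⁅a', b⁆ * C'⁻¹ * (⁅a, b⁆ * C⁻¹) = ⁅a * a', b⁆ * (C * C')⁻¹ := by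
    rw [e, _root_.mul_inv_rev]
    have h3 : C'⁻¹ * ⁅a, b⁆ = ⁅a, b⁆ * C'⁻¹ :=
      (Subgroup.mem_center_iff.1 (inv_mem (S.ext.central (S.form v' w).2)) _).symm
    calc ⁅a', b⁆ * C'⁻¹ * (⁅a, b⁆ * C⁻¹) = ⁅a', b⁆ * (C'⁻¹ * ⁅a, b⁆) * C⁻¹ := by group
      _ = ⁅a', b⁆ * ⁅a, b⁆ * (C'⁻¹ * C⁻¹) := by rw [h3]; group
  change ⁅a', b⁆ * C'⁻¹ * (⁅a, b⁆ * C⁻¹) ∈ Z0 at h1
  rw [e2] at h1
  exact congrArg Subtype.val (S.proj_unique (c := S.form (v + v') w)
    (c' := S.form v w * S.form v' w) (S.form_spec (add_mem hv hv') hw hab hb) h1)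

theorem ZSplit.form_add_right {v w w' : Fin n → F} (hv : v ∈ supp P.pair)
    (hw : w ∈ supp P.pair) (hw' : w' ∈ supp P.pair) :
    (S.form v (w + w') : Γ) = (S.form v w : Γ) * (S.form v w' : Γ) := by
  rw [S.form_inv (add_mem hw hw') hv, S.form_add_left hw hw' hv, S.form_inv hw hv,
    S.form_inv hw' hv, _root_.mul_inv_rev,
    Subgroup.mem_center_iff.1 (inv_mem (S.ext.central (S.form w v).2))]

theorem ZSplit.form_conj {v w : Fin n → F} (hv : v ∈ supp P.pair) (hw : w ∈ supp P.pair)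
    {t : SU n F q} {l : F} {a : Fin n → F} (ht : P.IsTor t l a) :
    S.form (fun m => l ^ q * a m * v m) (fun m => l ^ q * a m * w m) = S.form v w := by
  obtain ⟨k, rfl⟩ := S.ext.surj t
  obtain ⟨x, β, hx⟩ := S.exists_lift hv
  obtain ⟨y, β', hy⟩ := S.exists_lift hw
  have e : ∀ z : Fin n → F, z ∈ supp P.pair →
      l ^ q • (σ k • z) = fun m => l ^ q * a m * z m := fun z hz => by
    rw [P.tor_smul ht hz]; funext m; simp [mul_assoc]
  have hm : ∀ z : Fin n → F, z ∈ supp P.pair →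
      (fun m => l ^ q * a m * z m) ∈ supp P.pair := fun z hz =>
    mem_supp.2 fun m hm => by simp [mem_supp.1 hz m hm]
  have hx' : P.IsQ (σ (k * x * k⁻¹)) (fun m => l ^ q * a m * v m) (l ^ (q + 1) * β) := by
    rw [map_mul, map_mul, map_inv, ← e v hv]; exact P.isQ_conj hF ht.1 hx
  have hy' : P.IsQ (σ (k * y * k⁻¹)) (fun m => l ^ q * a m * w m) (l ^ (q + 1) * β') := by
    rw [map_mul, map_mul, map_inv, ← e w hw]; exact P.isQ_conj hF ht.1 hy
  have h1 := S.tor k l a ht _ (S.form_spec hv hw hx hy)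
  have e2 : k * (⁅x, y⁆ * (S.form v w : Γ)⁻¹) * k⁻¹ =
      ⁅k * x * k⁻¹, k * y * k⁻¹⁆ * (S.form v w : Γ)⁻¹ := by
    have hc : (S.form v w : Γ)⁻¹ * k⁻¹ = k⁻¹ * (S.form v w : Γ)⁻¹ :=
      (Subgroup.mem_center_iff.1 (inv_mem (S.ext.central (S.form v w).2)) k⁻¹).symm
    rw [show k * (⁅x, y⁆ * (S.form v w : Γ)⁻¹) * k⁻¹ =
      k * ⁅x, y⁆ * ((S.form v w : Γ)⁻¹ * k⁻¹) by group, hc]
    simp only [commutatorElement_def]
    group
  rw [e2] at h1
  exact S.proj_unique (S.form_spec (hm v hv) (hm w hw) hx' hy') h1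

/-- The form between two coordinates. -/
noncomputable def ZSplit.piece (k r : Fin n) (x y : F) : Additive σ.ker :=
  Additive.ofMul (S.form (x • eI k) (y • eI r))

/-- The commutator subgroup of the lifted radical misses the kernel. -/
theorem ZSplit.comm_mem_section
    (hq : ∀ k r : Fin n, k ∉ P.pair → r ∉ P.pair → k ≠ r →
      ∀ x y : F, S.form (x • eI k) (y • eI r) = 1)
    (hdiag : ∀ k : Fin n, k ∉ P.pair → ∀ x y : F, S.form (x • eI k) (y • eI k) = 1)
    {a b : Γ} (ha : σ a ∈ P.qg hF ∅) (hb : σ b ∈ P.qg hF ∅) : ⁅a, b⁆ ∈ Z0 := by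
  classical
  obtain ⟨v, β, hv, hav⟩ := ha
  obtain ⟨w, β', hw, hbw⟩ := hb
  have hv' : v ∈ supp P.pair := by simpa using hv
  have hw' : w ∈ supp P.pair := by simpa using hw
  have hsingle : ∀ (z : Fin n → F), z ∈ supp P.pair → ∀ k : Fin n,
      z k • (eI k : Fin n → F) ∈ supp P.pair := fun z hz k => by
    by_cases hk : k ∈ P.pair
    · rw [mem_supp.1 hz k hk, zero_smul]; exact zero_mem _
    · exact Submodule.smul_mem _ _ (eI_mem_supp hk)
  have hz1 : ∀ z : Fin n → F, z ∈ supp P.pair → S.form 0 z = 1 := fun z hz => by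
    have h := S.form_add_left (zero_mem _) (zero_mem _) hz
    rw [add_zero] at h
    exact Subtype.ext (left_eq_mul.1 h)
  have h0 : ∀ k : Fin n, S.form (v k • eI k) w = 1 := by
    intro k
    by_cases hk : k ∈ P.pair
    · rw [mem_supp.1 hv' k hk, zero_smul]; exact hz1 w hw'
    suffices hsum : (∑ r, w r • (eI r : Fin n → F)) ∈ supp P.pair ∧
        S.form (v k • eI k) (∑ r, w r • (eI r : Fin n → F)) = 1 by
      rw [← eq_sum_eI w] at hsum
      exact hsum.2
    refine Finset.sum_induction (fun r => w r • (eI r : Fin n → F))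
      (fun z => z ∈ supp P.pair ∧ S.form (v k • eI k) z = 1) ?_ ?_ ?_
    · rintro z z' ⟨h1, h1'⟩ ⟨h2, h2'⟩
      refine ⟨add_mem h1 h2, Subtype.ext ?_⟩
      rw [S.form_add_right (hsingle v hv' k) h1 h2, h1', h2', Subgroup.coe_one, mul_one]
    · refine ⟨zero_mem _, Subtype.ext ?_⟩
      rw [S.form_inv (zero_mem _) (hsingle v hv' k), hz1 _ (hsingle v hv' k), Subgroup.coe_one,
        inv_one]
    · intro r _
      refine ⟨hsingle w hw' r, ?_⟩
      by_cases hr : r ∈ P.pair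
      · rw [mem_supp.1 hw' r hr, zero_smul]
        exact Subtype.ext (by rw [S.form_inv (zero_mem _) (hsingle v hv' k),
          hz1 _ (hsingle v hv' k), Subgroup.coe_one, inv_one])
      by_cases hkr : k = r
      · subst hkr; exact hdiag k hk _ _
      · exact hq k r hk hr hkr _ _
  have h1 : S.form v w = 1 := by
    suffices hsum : (∑ r, v r • (eI r : Fin n → F)) ∈ supp P.pair ∧
        S.form (∑ r, v r • (eI r : Fin n → F)) w = 1 by
      rw [← eq_sum_eI v] at hsum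
      exact hsum.2
    refine Finset.sum_induction (fun r => v r • (eI r : Fin n → F))
      (fun z => z ∈ supp P.pair ∧ S.form z w = 1) ?_ ?_ ?_
    · rintro z z' ⟨h1, h1'⟩ ⟨h2, h2'⟩
      exact ⟨add_mem h1 h2, Subtype.ext (by
        rw [S.form_add_left h1 h2 hw', h1', h2', Subgroup.coe_one, mul_one])⟩
    · exact ⟨zero_mem _, hz1 w hw'⟩
    · exact fun r _ => ⟨hsingle v hv' r, h0 r⟩
  have := S.form_spec hv' hw' hav hbw
  rwa [h1, Subgroup.coe_one, inv_one, mul_one] at this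

theorem ZSplit.piece_add_left {k r : Fin n} (hk : k ∉ P.pair) (hr : r ∉ P.pair) (x x' y : F) :
    (S.form ((x + x') • eI k) (y • eI r) : Γ) =
      (S.form (x • eI k) (y • eI r) : Γ) * (S.form (x' • eI k) (y • eI r) : Γ) := by
  rw [add_smul, S.form_add_left (Submodule.smul_mem _ _ (eI_mem_supp hk))
    (Submodule.smul_mem _ _ (eI_mem_supp hk)) (Submodule.smul_mem _ _ (eI_mem_supp hr))]

theorem ZSplit.piece_add_right {k r : Fin n} (hk : k ∉ P.pair) (hr : r ∉ P.pair) (x y y' : F) :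
    (S.form (x • eI k) ((y + y') • eI r) : Γ) =
      (S.form (x • eI k) (y • eI r) : Γ) * (S.form (x • eI k) (y' • eI r) : Γ) := by
  rw [add_smul, S.form_add_right (Submodule.smul_mem _ _ (eI_mem_supp hk))
    (Submodule.smul_mem _ _ (eI_mem_supp hr)) (Submodule.smul_mem _ _ (eI_mem_supp hr))]

theorem ZSplit.piece_conj {k r : Fin n} (hk : k ∉ P.pair) (hr : r ∉ P.pair) (x y : F)
    {t : SU n F q} {l : F} {a : Fin n → F} (ht : P.IsTor t l a) :
    S.form ((l ^ q * a k * x) • eI k) ((l ^ q * a r * y) • eI r) =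
      S.form (x • eI k) (y • eI r) := by
  have e : ∀ (i : Fin n) (z : F), (fun m => l ^ q * a m * (z • (eI i : Fin n → F)) m) =
      (l ^ q * a i * z) • eI i := fun i z => funext fun m => by
    by_cases hm : m = i
    · subst hm; simp [eI]
    · simp [eI, hm]
  rw [← e k x, ← e r y]
  exact S.form_conj (Submodule.smul_mem _ _ (eI_mem_supp hk))
    (Submodule.smul_mem _ _ (eI_mem_supp hr)) ht

/-- Two coordinates: the torus separates them. -/
theorem ZSplit.piece_off (hw : 5 ≤ n ∨ 4 ≤ q) {k r : Fin n} (hk : k ∉ P.pair) (hr : r ∉ P.pair)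
    (hkr : k ≠ r) (x y : F) : S.form (x • eI k) (y • eI r) = 1 := by
  classical
  obtain ⟨t, l, a, ht, h1, h2⟩ : ∃ (t : SU n F q) (l : F) (a : Fin n → F),
      P.IsTor t l a ∧ l ^ q * a k = 1 ∧ l ^ q * a r ≠ 1 := by
    obtain ⟨ζ, hζ, hζk⟩ := exists_gen_norm_one hF
    have hζ0 : ζ ≠ 0 := fun h => by simp [h] at hζ
    have hζq : ζ ^ q = ζ⁻¹ := eq_inv_of_mul_eq_one_left (by rw [← pow_succ, hζ])
    by_cases h5 : 5 ≤ n
    · obtain ⟨m, hm⟩ : ∃ m, m ∉ insert k (insert r P.pair) := by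
        by_contra h
        have h' : (Finset.univ : Finset (Fin n)) ⊆ insert k (insert r P.pair) :=
          fun m _ => not_not.1 fun hm => h ⟨m, hm⟩
        have hc := (Finset.card_le_card h').trans ((Finset.card_insert_le _ _).trans
          (Nat.add_le_add_right (Finset.card_insert_le _ _) 1))
        rw [Finset.card_univ, Fintype.card_fin, Frame.pair, Finset.card_pair P.hij] at hc
        omega
      simp only [Finset.mem_insert, not_or] at hm
      obtain ⟨t, a, ht, har, -, ha⟩ := P.exists_tor₂ hF hr hm.2.2 (Ne.symm hm.2.1) (l := 1)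
        (ρ := ζ) one_ne_zero hζ
      refine ⟨t, 1, a, ht, ?_, ?_⟩
      · rw [ha k hkr (Ne.symm hm.1), one_pow, one_mul]
      · rw [har, one_pow, one_mul]
        exact fun h => hζk 1 one_pos (q_pos hF) (by rw [pow_one]; exact h)
    · have h4 : 4 ≤ q := hw.resolve_left h5
      obtain ⟨t, a, ht, hak, har, -⟩ := P.exists_tor₂ hF hk hr hkr (l := ζ) (ρ := ζ) hζ0 hζ
      refine ⟨t, ζ, a, ht, ?_, ?_⟩
      · rw [hak, ← pow_succ, hζ]
      · rw [har, hζq]
        intro h
        refine hζk 4 (by norm_num) h4 ?_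
        field_simp at h
        rw [show (4 : ℕ) = 1 + 1 + 1 + 1 from rfl]
        linear_combination -h
  have hstep : ∀ y : F, S.form (x • eI k) ((l ^ q * a r * y - y) • eI r) = 1 := by
    intro y
    have h := S.piece_conj hk hr x y ht
    rw [h1, one_mul] at h
    have h3 := S.piece_add_right hk hr x (l ^ q * a r * y - y) y
    rw [sub_add_cancel, h] at h3
    exact Subtype.ext (right_eq_mul.1 h3)
  have := hstep (y / (l ^ q * a r - 1))
  rwa [← sub_one_mul, mul_div_cancel₀ _ (sub_ne_zero.2 h2)] at this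

/-- One coordinate, `q ≥ 3`. -/
theorem ZSplit.piece_diag (h3 : 3 ≤ q) {k : Fin n} (hk : k ∉ P.pair) (x y : F) :
    S.form (x • eI k) (y • eI k) = 1 := by
  classical
  have inst : ∀ a b : σ.ker, a * b = b * a := fun a b =>
    Subtype.ext (Subgroup.mem_center_iff.1 (S.ext.central b.2) _)
  let : CommGroup σ.ker := { (inferInstance : Group σ.ker) with mul_comm := inst }
  obtain ⟨A, hA5, hA⟩ : ∃ A : Finset F, 5 ≤ A.card ∧ ∀ ν ∈ A, ν ≠ 0 → ν + 1 ≠ 0 →
      ∀ c ∈ ({ν, ν + 1} : Finset F), ∀ x y : F,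
        S.form ((c * x) • eI k) ((c * y) • eI k) = S.form (x • eI k) (y • eI k) := by
    by_cases h5 : 5 ≤ q
    · refine ⟨Finset.univ.filter fun z => z ^ q = z, ?_, fun ν hν h0 h1 c hc x y => ?_⟩
      · rw [← Fintype.card_subtype, ← Nat.card_eq_fintype_card, card_fixed hF]; exact h5
      · rw [Finset.mem_filter] at hν
        obtain ⟨hc0, hcq⟩ : c ≠ 0 ∧ c ^ q = c := by
          rcases Finset.mem_insert.1 hc with rfl | hc
          · exact ⟨h0, hν.2⟩
          · rw [Finset.mem_singleton.1 hc]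
            exact ⟨h1, by rw [add_pow_q hF, one_pow, hν.2]⟩
        obtain ⟨t, ht⟩ := P.exists_tor₀ hF hc0 hcq
        have := S.piece_conj hk hk x y ht
        rwa [Pi.one_apply, mul_one, hcq] at this
    · refine ⟨Finset.univ, ?_, fun ν _ h0 h1 c hc x y => ?_⟩
      · rw [Finset.card_univ, hF]; nlinarith
      have hc0 : c ≠ 0 := by
        rcases Finset.mem_insert.1 hc with rfl | hc
        · exact h0
        · rw [Finset.mem_singleton.1 hc]; exact h1
      by_cases h4 : 4 ≤ n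
      · obtain ⟨r, hr, hkr⟩ : ∃ r, r ∉ P.pair ∧ k ≠ r := by
          have : 0 < (insert k P.pair)ᶜ.card := by
            rw [Finset.card_compl, Fintype.card_fin, Finset.card_insert_of_notMem hk, Frame.pair,
              Finset.card_pair P.hij]
            omega
          obtain ⟨r, hr⟩ := Finset.card_pos.1 this
          rw [Finset.mem_compl, Finset.mem_insert, not_or] at hr
          exact ⟨r, hr.2, Ne.symm hr.1⟩
        obtain ⟨t, a, ht, hak, -, -⟩ := P.exists_tor₂ hF hk hr hkr (l := c ^ q) (ρ := 1)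
          (pow_ne_zero _ hc0) (one_pow _)
        have := S.piece_conj hk hk x y ht
        rwa [hak, mul_one, pow_q_pow_q hF] at this
      · obtain ⟨m, hm⟩ : ∃ m : F, m ≠ 0 ∧ m ^ (2 * q - 1) = c := by
          have hq : q = 3 ∨ q = 4 := by omega
          have hu : c ^ (q ^ 2 - 1) = 1 := by
            rw [← hF]; exact FiniteField.pow_card_sub_one_eq_one c hc0
          rcases hq with rfl | rfl
          · refine ⟨c ^ 5, pow_ne_zero _ hc0, ?_⟩
            rw [← pow_mul, show 5 * (2 * 3 - 1) = (3 ^ 2 - 1) * 3 + 1 from rfl, pow_succ, pow_mul, hu,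
              one_pow, one_mul]
          · refine ⟨c ^ 13, pow_ne_zero _ hc0, ?_⟩
            rw [← pow_mul, show 13 * (2 * 4 - 1) = (4 ^ 2 - 1) * 6 + 1 from rfl, pow_succ, pow_mul,
              hu, one_pow, one_mul]
        obtain ⟨hm0, hmc⟩ := hm
        set a : Fin n → F := fun i => if i = k then m ^ q / m else 1 with hadef
        obtain ⟨t, ht⟩ := P.exists_tor hF (l := m) (a := a) hm0
          (fun i => by
            simp only [hadef]
            split_ifs
            · rw [div_pow, ← pow_mul, mul_comm q, pow_mul, norm_fixed hF,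
                div_self (pow_ne_zero _ hm0)]
            · exact one_pow _)
          (fun i hi => if_neg fun h : i = k => hk (h ▸ hi))
          (by
            simp only [hadef]
            rw [Finset.prod_ite_eq', if_pos (Finset.mem_univ k)]
            field_simp)
        have := S.piece_conj hk hk x y ht
        simp only [hadef, if_pos rfl] at this
        rwa [show m ^ q * (m ^ q / m) = c by
          rw [← hmc, mul_div_assoc', ← pow_add, div_eq_iff hm0, ← pow_succ]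
          congr 1
          have := q_pos hF
          omega] at this
  obtain ⟨ν, hν, hν0, hν1, hν2⟩ : ∃ ν ∈ A, ν ≠ 0 ∧ ν + 1 ≠ 0 ∧ ν * ν + ν + 1 ≠ 0 := by
    by_contra hcon
    simp only [not_exists, not_and, not_not] at hcon
    by_cases hroot : ∃ r : F, r * r + r + 1 = 0
    · obtain ⟨r, hr⟩ := hroot
      have hsub : A ⊆ ({0, -1, r, -1 - r} : Finset F) := fun ν hν => by
        by_cases h0 : ν = 0
        · simp [h0]
        by_cases h1 : ν + 1 = 0
        · simp [eq_neg_of_add_eq_zero_left h1]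
        have h := hcon ν hν h0 h1
        have : (ν - r) * (ν + 1 + r) = 0 := by linear_combination h - hr
        rcases mul_eq_zero.1 this with e | e
        · simp [sub_eq_zero.1 e]
        · have : ν = -1 - r := by linear_combination e
          simp [this]
      have := (Finset.card_le_card hsub).trans Finset.card_le_four
      omega
    · have hsub : A ⊆ ({0, -1} : Finset F) := fun ν hν => by
        by_cases h0 : ν = 0
        · simp [h0]
        by_cases h1 : ν + 1 = 0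
        · simp [eq_neg_of_add_eq_zero_left h1]
        exact absurd ⟨ν, hcon ν hν h0 h1⟩ hroot
      have := (Finset.card_le_card hsub).trans Finset.card_le_two
      omega
  have key := eq_zero_of_invariant (fun x y => S.piece k k x y)
    (fun a b c => congrArg Additive.ofMul (Subtype.ext (S.piece_add_left hk hk a b c)))
    (fun a b c => congrArg Additive.ofMul (Subtype.ext (S.piece_add_right hk hk a b c)))
    hν0 hν2
    (fun a b => congrArg Additive.ofMul (hA ν hν hν0 hν1 ν (by simp) a b))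
    (fun a b => congrArg Additive.ofMul (hA ν hν hν0 hν1 (ν + 1) (by simp) a b)) x y
  exact Additive.ofMul.injective key

end Cfsg.Agent.SuMult50
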