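import Cfsg.Agent.SuMult50.Three
import Cfsg.Agent.CharB.PSLMult.Unitri

/-!
The prime `2` and `SU₄(q)`, `q` odd: lifts over `(SU₂ × SU₂)·D` with `D` fixing a vector (helper50).
-/

set_option autoImplicit false

namespace Cfsg.Agent.SuMult50

open Matrix Subgroup Cfsg.Agent.Unitary Cfsg.Agent.CharB.PSLMult
open scoped commutatorElement

universe v

variable {F : Type v} [Field F] {n q : ℕ}

/-- Elements permuting the coordinate lines move the coordinate subgroups. -/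
theorem conj_mem_fixS {S T : Finset (Fin n)} {g y : SU n F q}
    (hg : ∀ j ∈ T, ∃ i ∈ S, ∃ c : F, c ≠ 0 ∧ g • (eI i : Fin n → F) = c • eI j)
    (hy : y ∈ fixS S) : g * y * g⁻¹ ∈ fixS T := by
  refine mem_fixS.2 fun j hj => ?_
  obtain ⟨i, hi, c, hc, h⟩ := hg j hj
  have e : g⁻¹ • (eI j : Fin n → F) = c⁻¹ • eI i := by
    rw [inv_smul_eq_iff, smul_comm, h, smul_smul, inv_mul_cancel₀ hc, one_smul]
  rw [mul_smul, mul_smul, e, smul_comm y, mem_fixS.1 hy i hi, smul_comm, h, smul_smul,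
    inv_mul_cancel₀ hc, one_smul]

variable [Fintype F] (hF : Fintype.card F = q ^ 2)
include hF

theorem fixS_commute {S T : Finset (Fin n)} (hST : S ∪ T = Finset.univ) {x y : SU n F q}
    (hx : x ∈ fixS S) (hy : y ∈ fixS T) : Commute x y := by
  have key : ∀ {S T : Finset (Fin n)} {x y : SU n F q}, S ∪ T = Finset.univ → x ∈ fixS S →
      y ∈ fixS T → ∀ i, i ∈ T → x • y • (eI i : Fin n → F) = y • x • (eI i : Fin n → F) := by
    intro S T x y hST hx hy i hi
    by_cases hiS : i ∈ S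
    · rw [mem_fixS.1 hy i hi, mem_fixS.1 hx i hiS, mem_fixS.1 hy i hi]
    · have hsupp : x • (eI i : Fin n → F) ∈ supp S := smul_mem_supp_SU hF hx (eI_mem_supp hiS)
      rw [mem_fixS.1 hy i hi, eq_sum_eI (x • (eI i : Fin n → F)), Finset.smul_sum]
      refine Finset.sum_congr rfl fun j _ => ?_
      by_cases hjS : j ∈ S
      · rw [mem_supp.1 hsupp j hjS, zero_smul, smul_zero]
      · have hjT : j ∈ T := by
          have := hST ▸ Finset.mem_univ j
          exact (Finset.mem_union.1 this).resolve_left hjS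
        rw [smul_comm, mem_fixS.1 hy j hjT]
  refine ext_eI fun i => ?_
  rw [mul_smul, mul_smul]
  rcases Finset.mem_union.1 (hST ▸ Finset.mem_univ i : i ∈ S ∪ T) with h | h
  · exact (key (Finset.union_comm S T ▸ hST) hy hx i h).symm
  · exact key hST hx hy i h

/-- The prime `2` is harmless in `SU₄(q)`, `q` odd. -/
theorem not_two_dvd_four {p : ℕ} [CharP F p] (h2 : p ≠ 2) (hq : 3 ≤ q) {Γ : Type v} [Group Γ]
    [Finite Γ] {σ : Γ →* SU 4 F q} (E : PExt p σ) (hσ : Cfsg.IsStemExtension σ) :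
    ¬ 2 ∣ Nat.card σ.ker := by
  classical
  obtain ⟨p', k, hp', hk, hchar, hqk⟩ := exists_prime_pow hF
  obtain rfl : p = p' := CharP.eq F (by assumption : CharP F p) hchar
  have hqo : ¬ 2 ∣ q := fun h => h2 (((Nat.prime_dvd_prime_iff_eq Nat.prime_two hp').1
    (Nat.prime_two.dvd_of_dvd_pow (hqk ▸ h))).symm)
  have h20 : (2 : F) ≠ 0 := by
    intro h
    have : p ∣ 2 := (CharP.cast_eq_zero_iff F p 2).1 (by exact_mod_cast h)
    exact h2 ((Nat.prime_dvd_prime_iff_eq hp' Nat.prime_two).1 this)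
  -- the coordinate blocks
  set B1 : Subgroup (SU 4 F q) := fixS {2, 3} with hB1
  set B2 : Subgroup (SU 4 F q) := fixS {0, 1} with hB2
  have hU : ({2, 3} : Finset (Fin 4)) ∪ {0, 1} = Finset.univ := by decide
  have hBc : ∀ x ∈ B1, ∀ y ∈ B2, Commute x y := fun x hx y hy => fixS_commute hF hU hx hy
  have hBd : ∀ x ∈ B1, x ∈ B2 → x = 1 := fun x hx hy => by
    refine eq_one_of_card_le_one hF (S := Finset.univ) (by simp) (mem_fixS.2 fun i _ => ?_)
    rcases Finset.mem_union.1 (hU ▸ Finset.mem_univ i : i ∈ ({2, 3} : Finset (Fin 4)) ∪ {0, 1})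
      with h | h
    · exact mem_fixS.1 hx i h
    · exact mem_fixS.1 hy i h
  obtain ⟨hX1, hX1'⟩ := hat_props E B1 (ptriv_fixS hF (k := 2) (by decide) (ptriv_SU_two hF))
    (fixS_gen hF (by simp +decide))
  obtain ⟨hX2, hX2'⟩ := hat_props E B2 (ptriv_fixS hF (k := 2) (by decide) (ptriv_SU_two hF))
    (fixS_gen hF (by simp +decide))
  have hXc : ∀ h ∈ hat p σ B2, ∀ x ∈ hat p σ B1, h * x * h⁻¹ = x := by
    intro h hh x hx
    induction hh using Subgroup.closure_induction with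
    | mem h hh =>
      induction hx using Subgroup.closure_induction with
      | mem x hx =>
        rw [(E.commute hh.1 hx.1 (hBc _ hx.2 _ hh.2).symm).eq, mul_inv_cancel_right]
      | one => simp
      | mul a b _ _ ha hb =>
        rw [show h * (a * b) * h⁻¹ = h * a * h⁻¹ * (h * b * h⁻¹) by group, ha, hb]
      | inv a _ ha => rw [show h * a⁻¹ * h⁻¹ = (h * a * h⁻¹)⁻¹ by group, ha]
    | one => simp
    | mul a b _ _ ha hb =>
      rw [show a * b * x * (a * b)⁻¹ = a * (b * x * b⁻¹) * a⁻¹ by group, hb, ha]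
    | inv a _ ha =>
      conv_lhs => rw [← ha]
      group
  obtain ⟨hXi, hXd, hXn⟩ := glue σ (X := hat p σ B1) (H := hat p σ B2)
    (fun h hh x hx => (hXc h hh x hx).symm ▸ hx) hX1 hX2 (fun x hx h hh e => by
      refine hBd _ (hat_le_comap _ hx) ?_
      rw [eq_inv_of_mul_eq_one_left e]
      exact inv_mem (show σ h ∈ B2 from hat_le_comap _ hh))
  -- the group `D`
  let τ : SU 4 F q := permSU (Equiv.swap 0 3 * Equiv.swap 1 2) 1 (one_pow _) (by
    rw [show Equiv.Perm.sign (Equiv.swap (0 : Fin 4) 3 * Equiv.swap 1 2) = 1 by decide]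
    simp)
  have hπ : ∀ i : Fin 4, (Equiv.swap (0 : Fin 4) 3 * Equiv.swap 1 2 : Equiv.Perm (Fin 4)) i = ![3, 2, 1, 0] i := by decide
  have hτe : ∀ i : Fin 4, τ • (eI i : Fin 4 → F) = eI (![3, 2, 1, 0] i) := fun i => by
    rw [permSU_smul, hπ, one_smul]
  have hτ2 : τ * τ = 1 := ext_eI fun i => by
    rw [mul_smul, hτe, hτe, one_smul]
    fin_cases i <;> rfl
  let D1 : Subgroup (SU 4 F q) := diagT ⊓ fixS {1, 2}
  have hD1 : ∀ d ∈ D1, d ∈ diagT ∧ d • (eI 1 : Fin 4 → F) = eI 1 ∧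
      d • (eI 2 : Fin 4 → F) = eI 2 := fun d hd =>
    ⟨hd.1, mem_fixS.1 hd.2 1 (by decide), mem_fixS.1 hd.2 2 (by decide)⟩
  have hτn : ∀ d ∈ D1, τ * d * τ⁻¹ ∈ D1 := fun d hd => by
    refine ⟨permSU_conj_mem _ _ _ _ hd.1, conj_mem_fixS (S := {1, 2}) (fun j hj => ?_) hd.2⟩
    rcases Finset.mem_insert.1 hj with rfl | hj
    · exact ⟨2, by decide, 1, one_ne_zero, by rw [hτe, one_smul]; rfl⟩
    · rw [Finset.mem_singleton.1 hj]
      exact ⟨1, by decide, 1, one_ne_zero, by rw [hτe, one_smul]; rfl⟩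
  have hz : ∀ h ∈ zpowers τ, h = 1 ∨ h = τ := by
    rintro _ ⟨m, rfl⟩
    rcases Int.even_or_odd m with ⟨a, rfl⟩ | ⟨a, rfl⟩
    · left
      show τ ^ (a + a) = 1
      rw [← two_mul, _root_.zpow_mul, zpow_two, hτ2, _root_.one_zpow]
    · right
      show τ ^ (2 * a + 1) = τ
      rw [_root_.zpow_add, _root_.zpow_mul, zpow_two, hτ2, _root_.one_zpow, one_mul, zpow_one]
  have hτ0 : ∀ x : SU 4 F q, (∃ a : F, x • (eI 1 : Fin 4 → F) = a • eI 1) → x ≠ τ := by
    rintro x ⟨a, ha⟩ rfl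
    rw [hτe] at ha
    simpa [eI] using congrFun ha 2
  obtain ⟨-, hDd, hDn⟩ := glue (MonoidHom.id (SU 4 F q)) (X := D1) (H := zpowers τ)
    (fun h hh x hx => by
      rcases hz h hh with rfl | rfl
      · simpa using hx
      · exact hτn x hx)
    (fun x _ h => h) (fun x _ h => h) (fun x hx h hh e => by
      simp only [MonoidHom.id_apply] at e ⊢
      rcases hz h hh with rfl | rfl
      · simpa using e
      · refine absurd ?_ (hτ0 x ⟨1, by rw [(hD1 x hx).2.1, one_smul]⟩)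
        rw [eq_inv_of_mul_eq_one_left e, inv_eq_of_mul_eq_one_left hτ2])
  set D : Subgroup (SU 4 F q) := D1 ⊔ zpowers τ with hD
  have hcD1 : Nat.card D1 = q + 1 := by
    have hμ : Nat.card {x : F // x ^ (q + 1) = 1} = q + 1 := card_norm_eq_one hF
    have hd1 : ∀ d ∈ D1, ent d 1 = 1 ∧ ent d 2 = 1 := fun d hd => by
      rw [ent, ent, (hD1 d hd).2.1, (hD1 d hd).2.2]; simp [eI]
    let g : ↥D1 → {x : F // x ^ (q + 1) = 1} := fun d => ⟨ent d.1 0, ent_norm hF d.2.1 0⟩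
    rw [← hμ]
    refine Nat.card_eq_of_bijective g ⟨fun a b e => ?_, fun a => ?_⟩
    · have e0 : ent a.1 0 = ent b.1 0 := congrArg Subtype.val e
      refine Subtype.ext (diagT_ext a.2.1 b.2.1 fun i => ?_)
      have pa := ent_prod hF a.2.1
      have pb := ent_prod hF b.2.1
      simp only [Fin.prod_univ_four, (hd1 _ a.2).1, (hd1 _ a.2).2, (hd1 _ b.2).1, (hd1 _ b.2).2,
        mul_one, e0] at pa pb
      fin_cases i
      · exact e0
      · exact ((hd1 _ a.2).1).trans ((hd1 _ b.2).1).symm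
      · exact ((hd1 _ a.2).2).trans ((hd1 _ b.2).2).symm
      · exact mul_left_cancel₀ (left_ne_zero_of_mul_eq_one pb) (pa.trans pb.symm)
    · obtain ⟨d, hd, h0, -, ho⟩ := exists_diag_pair hF (show (0 : Fin 4) ≠ 3 by decide) a.2
      refine ⟨⟨d, hd, mem_fixS.2 fun i hi => ?_⟩, Subtype.ext h0⟩
      rw [diagT_smul hd, ho i (by fin_cases i <;> simp at hi ⊢) (by fin_cases i <;> simp at hi ⊢),
        one_smul]
  have hcτ : Nat.card (zpowers τ) = 2 := by
    rw [Nat.card_zpowers]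
    have : Fact (Nat.Prime 2) := ⟨Nat.prime_two⟩
    exact orderOf_eq_prime (by rw [pow_two, hτ2])
      (hτ0 1 ⟨1, by rw [one_smul, one_smul]⟩).symm
  -- the stabiliser of `e₁ + e₂`
  set v₀ : Fin 4 → F := eI 1 + eI 2 with hv₀
  obtain ⟨c, hc⟩ := exists_norm_eq hF (t := (2 : F)⁻¹) (by
    have : ((2 : ℕ) : F) ^ q = ((2 : ℕ) : F) := map_natCast (conjHom hF) 2
    rw [inv_pow]
    exact congrArg _ (by exact_mod_cast this))
  have hc0 : c ≠ 0 := fun h => by
    rw [h, zero_pow q.succ_ne_zero] at hc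
    exact inv_ne_zero h20 hc.symm
  have hw : herm q (c • v₀) (c • v₀) = 1 := by
    rw [herm_smul_left, herm_smul_right hF, ← mul_assoc, ← pow_succ', hc, hv₀]
    simp only [herm_add_left, herm_add_right hF, herm_eI_eI hF]
    simp only [show (1 : Fin 4) ≠ 2 by decide, show (2 : Fin 4) ≠ 1 by decide, if_true, if_false,
      add_zero, zero_add]
    rw [one_add_one_eq_two, inv_mul_cancel₀ h20]
  obtain ⟨t, -, ht⟩ := exists_move_norm_one hF (S := (∅ : Finset (Fin 4))) (by decide) (Or.inr hq)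
    (x := eI 0) (x' := c • v₀) (by simp [supp_empty]) (by simp [supp_empty])
    (by rw [herm_eI_eI hF, if_pos rfl]) hw
  set Sv : Subgroup (SU 4 F q) := (fixS {0}).map (MulAut.conj t).toMonoidHom with hSv
  have hmemSv : ∀ g : SU 4 F q, g • v₀ = v₀ → g ∈ Sv := fun g hg => by
    refine ⟨t⁻¹ * g * t, mem_fixS.2 fun i hi => ?_, by simp [mul_assoc]⟩
    rw [Finset.mem_singleton.1 hi, mul_smul, mul_smul, ht, smul_comm g, hg, ← ht, inv_smul_smul]
  have eSv := Subgroup.equivMapOfInjective (fixS ({0} : Finset (Fin 4)) : Subgroup (SU 4 F q))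
    (MulAut.conj t).toMonoidHom (MulAut.conj t).injective
  obtain ⟨hK, hK'⟩ := hat_props E Sv
    (PTriv.of_mulEquiv eSv (ptriv_fixS hF (k := 3) (by decide) (ptriv_SU_three hF hq))) (by
      rw [eq_top_iff, ← Subgroup.map_top_of_surjective eSv.toMonoidHom eSv.surjective,
        ← fixS_gen hF (S := ({0} : Finset (Fin 4))) (p := p) (by omega), MonoidHom.map_closure]
      refine Subgroup.closure_mono ?_
      rintro _ ⟨x, hx, rfl⟩
      exact hx.map eSv.toMonoidHom)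
  have hτv : τ • v₀ = v₀ := by
    rw [hv₀, smul_add, hτe, hτe, add_comm]; rfl
  have hDv : D ≤ Sv := fun g hg => by
    refine hmemSv g ?_
    obtain ⟨x, hx, h, hh, rfl⟩ := hDd g hg
    have hxv : x • v₀ = v₀ := by rw [hv₀, smul_add, (hD1 x hx).2.1, (hD1 x hx).2.2]
    rw [mul_smul]
    rcases hz h hh with rfl | rfl
    · rw [one_smul, hxv]
    · rw [hτv, hxv]
  set Dh : Subgroup Γ := hat p σ Sv ⊓ D.comap σ with hDh
  have hDmap : Dh.map σ = D := by
    refine le_antisymm (Subgroup.map_le_iff_le_comap.2 inf_le_right) fun g hg => ?_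
    obtain ⟨y, hy, rfl⟩ : g ∈ (hat p σ Sv).map σ := hK'.symm ▸ hDv hg
    exact ⟨y, ⟨hy, hg⟩, rfl⟩
  -- `D` permutes the blocks
  have hDblock : ∀ g ∈ D, ∀ y : SU 4 F q, (y ∈ B1 ∨ y ∈ B2) →
      (g * y * g⁻¹ ∈ B1 ∨ g * y * g⁻¹ ∈ B2) := by
    intro g hg y hy
    obtain ⟨x, hx, h, hh, rfl⟩ := hDd g hg
    have hdg : ∀ S : Finset (Fin 4), ∀ j ∈ S, ∃ i ∈ S, ∃ c : F, c ≠ 0 ∧
        x • (eI i : Fin 4 → F) = c • eI j := fun S j hj =>
      ⟨j, hj, ent x j, fun h0 => by simpa [h0] using ent_norm hF hx.1 j, diagT_smul hx.1 j⟩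
    have hxB : ∀ y : SU 4 F q, (y ∈ B1 ∨ y ∈ B2) → (x * y * x⁻¹ ∈ B1 ∨ x * y * x⁻¹ ∈ B2) :=
      fun y hy => hy.imp (conj_mem_fixS (hdg _)) (conj_mem_fixS (hdg _))
    rw [show x * h * y * (x * h)⁻¹ = x * (h * y * h⁻¹) * x⁻¹ by group]
    refine hxB _ ?_
    rcases hz h hh with rfl | rfl
    · simpa using hy
    · rcases hy with hy | hy
      · refine Or.inr (conj_mem_fixS (fun j hj => ?_) hy)
        rcases Finset.mem_insert.1 hj with rfl | hj
        · exact ⟨3, by decide, 1, one_ne_zero, by rw [hτe, one_smul]; rfl⟩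
        · rw [Finset.mem_singleton.1 hj]
          exact ⟨2, by decide, 1, one_ne_zero, by rw [hτe, one_smul]; rfl⟩
      · refine Or.inl (conj_mem_fixS (fun j hj => ?_) hy)
        rcases Finset.mem_insert.1 hj with rfl | hj
        · exact ⟨1, by decide, 1, one_ne_zero, by rw [hτe, one_smul]; rfl⟩
        · rw [Finset.mem_singleton.1 hj]
          exact ⟨0, by decide, 1, one_ne_zero, by rw [hτe, one_smul]; rfl⟩
  set X : Subgroup Γ := hat p σ B1 ⊔ hat p σ B2 with hX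
  have hnorm : ∀ a ∈ Dh, ∀ x ∈ X, a * x * a⁻¹ ∈ X := by
    intro a ha x hx
    rw [hX, hat, hat, ← Subgroup.closure_union] at hx
    induction hx using Subgroup.closure_induction with
    | mem x hx =>
      have hpel : Pel p x := by rcases hx with h | h <;> exact h.1
      have hin : σ x ∈ B1 ∨ σ x ∈ B2 := hx.imp (·.2) (·.2)
      rcases hDblock _ ha.2 _ hin with h | h
      · exact Subgroup.mem_sup_left (mem_hat (hpel.conj a) (by simpa using h))
      · exact Subgroup.mem_sup_right (mem_hat (hpel.conj a) (by simpa using h))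
    | one => simp
    | mul b c _ _ hb hc =>
      rw [show a * (b * c) * a⁻¹ = a * b * a⁻¹ * (a * c * a⁻¹) by group]; exact mul_mem hb hc
    | inv b _ hb =>
      rw [show a * b⁻¹ * a⁻¹ = (a * b * a⁻¹)⁻¹ by group]; exact inv_mem hb
  obtain ⟨hYi, -, hYn⟩ := glue σ hnorm hXi (fun h hh => hK h hh.1) (fun x hx h hh e => by
    obtain ⟨a, ha, b, hb, rfl⟩ := hXd x hx
    have hy1 : σ a ∈ B1 := hat_le_comap _ ha
    have hy2 : σ b ∈ B2 := hat_le_comap _ hb
    obtain ⟨d, hd, s, hs, hds⟩ := hDd _ (inv_mem (show σ h ∈ D from hh.2))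
    have hy : σ a * σ b = d * s := by rw [← hds, ← map_mul, eq_inv_of_mul_eq_one_left e]
    rw [map_mul]
    have ex : ∀ i ∈ ({0, 1} : Finset (Fin 4)),
        (σ a * σ b) • (eI i : Fin 4 → F) = σ a • eI i := fun i hi => by
      rw [mul_smul, mem_fixS.1 hy2 i hi]
    have e0 : σ a • (eI 0 : Fin 4 → F) ∈ supp ({2, 3} : Finset (Fin 4)) :=
      smul_mem_supp_SU hF hy1 (eI_mem_supp (by decide))
    have hd0 := diagT_smul hd.1 0
    have hd3 := diagT_smul hd.1 3
    rcases hz s hs with hs1 | hs1 <;> rw [hs1] at hy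
    · rw [mul_one] at hy
      have ha1 : σ a = 1 := by
        have f1 : σ a • (eI 1 : Fin 4 → F) = eI 1 := by
          rw [← ex 1 (by decide), hy, (hD1 d hd).2.1]
        refine eq_one_of_card_le_one hF (S := ({1, 2, 3} : Finset (Fin 4))) (by decide)
          (mem_fixS.2 fun i hi => ?_) 
        fin_cases i <;> first
          | exact f1
          | exact mem_fixS.1 hy1 _ (by decide)
          | simp at hi
      rw [ha1, one_mul] at hy ⊢
      refine eq_one_of_card_le_one hF (S := ({0, 1, 2} : Finset (Fin 4))) (by decide)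
        (mem_fixS.2 fun i hi => ?_)
      fin_cases i <;> first
        | exact mem_fixS.1 hy2 _ (by decide)
        | (show σ b • (eI 2 : Fin 4 → F) = eI 2; rw [hy, (hD1 d hd).2.2])
        | simp at hi
    · exfalso
      have h0 := ex 0 (by decide)
      rw [hy, mul_smul, hτe, show (![3, 2, 1, 0] : Fin 4 → Fin 4) 0 = 3 from rfl, hd3] at h0
      have := congrFun h0 3
      rw [mem_supp.1 e0 3 (by decide)] at this
      have hne : ent d 3 ≠ 0 := fun h0 => by simpa [h0] using ent_norm hF hd.1 3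
      simp [eI, hne] at this)
  refine not_dvd_of_subgroup hσ Nat.prime_two ((X ⊔ Dh).map σ) ?_ fun z hz hzH _ =>
    ker_comm_of_split ⟨E.surj, E.central⟩ hYi le_rfl z hz hzH
  have cm : ∀ {Y : Subgroup Γ}, (∀ g ∈ Y, σ g = 1 → g = 1) → Nat.card Y = Nat.card (Y.map σ) :=
    fun {Y} hY => Nat.card_congr (Equiv.ofBijective
      (fun y => (⟨σ y, y, y.2, rfl⟩ : ↥(Y.map σ))) ⟨fun a b e => by
        have e' : σ a.1 = σ b.1 := congrArg Subtype.val e
        exact Subtype.ext (mul_inv_eq_one.1 (hY _ (mul_mem a.2 (inv_mem b.2))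
          (by rw [map_mul, map_inv, e', mul_inv_cancel]))),
        fun ⟨_, y, hy, e⟩ => ⟨⟨y, hy⟩, Subtype.ext e⟩⟩)
  have hS2 : ∀ S : Finset (Fin 4), Sᶜ.card = 2 →
      Nat.card (fixS S : Subgroup (SU 4 F q)) = q * (q ^ 2 - 1) := fun S hS => by
    obtain ⟨e⟩ := fixS_equiv hF S hS
    rw [← Nat.card_congr e.toEquiv, card_SU_two hF]
  have hcard : Nat.card ((X ⊔ Dh).map σ) = (q * (q ^ 2 - 1)) * (q * (q ^ 2 - 1)) * ((q + 1) * 2) := by
    rw [← cm hYi, hYn, hX, hXn, cm hX1, hX1', cm hX2, hX2', hB1, hB2, hS2 _ (by decide),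
      hS2 _ (by decide), cm (Y := Dh) (fun h hh => hK h hh.1), hDmap, hD, hDn, hcD1, hcτ]
  intro hd
  have hi := ((X ⊔ Dh).map σ).card_mul_index
  rw [hcard, card_SU_four hF] at hi
  obtain ⟨m, hm⟩ := hd
  rw [hm] at hi
  have hq2 : 1 ≤ q ^ 2 := Nat.one_le_pow _ _ (by omega)
  obtain ⟨a, ha⟩ : ∃ a, q ^ 2 = a + 1 := ⟨q ^ 2 - 1, by omega⟩
  have e4 : q ^ 4 - 1 = a * (q ^ 2 + 1) := by
    rw [show q ^ 4 = (q ^ 2) * (q ^ 2) by ring, ha, show (a + 1) * (a + 1) = a * (a + 1 + 1) + 1 by ring,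
      Nat.add_sub_cancel]
  have e3 : q ^ 3 + 1 = (q + 1) * (q ^ 2 + 1 - q) := by
    have : q ≤ q ^ 2 + 1 := by nlinarith
    zify [this]; ring
  rw [e4, e3, show q ^ 2 - 1 = a by omega] at hi
  have ha0 : 0 < a := by nlinarith
  have h' : q ^ 4 * (q ^ 2 + 1 - q) * (q ^ 2 + 1) = 4 * m := by
    refine Nat.eq_of_mul_eq_mul_left (show 0 < q ^ 2 * a ^ 2 * (q + 1) by positivity) ?_
    calc _ = q ^ 6 * a * ((q + 1) * (q ^ 2 + 1 - q)) * (a * (q ^ 2 + 1)) := by ring
      _ = _ := by rw [← hi]; ring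
  obtain ⟨b, rfl⟩ : ∃ b, q = 2 * b + 1 := ⟨q / 2, by omega⟩
  have o1 : (2 * b + 1) ^ 4 % 2 = 1 := by simp [Nat.pow_mod, Nat.add_mod]
  have o2 : ((2 * b + 1) ^ 2 + 1 - (2 * b + 1)) % 2 = 1 := by
    rw [show (2 * b + 1) ^ 2 + 1 = 2 * (2 * b ^ 2 + b) + 1 + (2 * b + 1) by ring, Nat.add_sub_cancel]
    omega
  rw [show (2 * b + 1) ^ 2 + 1 = 2 * (2 * b ^ 2 + 2 * b + 1) by ring] at h'
  have h'' : (2 * b + 1) ^ 4 * (2 * (2 * b ^ 2 + 2 * b + 1) - (2 * b + 1)) *
      (2 * b ^ 2 + 2 * b + 1) = 2 * m := by linarith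
  have o3 : (2 * b ^ 2 + 2 * b + 1) % 2 = 1 := by omega
  rw [show (2 * b + 1) ^ 2 + 1 = 2 * (2 * b ^ 2 + 2 * b + 1) by ring] at o2
  have := congrArg (· % 2) h''
  simp [Nat.mul_mod, o1, o2, o3] at this

end Cfsg.Agent.SuMult50
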