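import Cfsg.Agent.SuMult50.Mono

/-!
A coordinate hyperbolic frame of a hermitian space, the radical of its point stabiliser and the
torus (helper50).
-/

set_option autoImplicit false

namespace Cfsg.Agent.SuMult50

open Matrix Cfsg.Agent.Unitary

universe v

variable {F : Type v} [Field F] {n q : ℕ}

/-- A hyperbolic pair on two coordinates. -/
structure Frame (n : ℕ) (F : Type v) [Field F] (q : ℕ) where
  i : Fin n
  j : Fin n
  u : Fin n → F
  f : Fin n → F
  hij : i ≠ j
  hu : u ∈ supp ({i, j}ᶜ : Finset (Fin n))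
  hf : f ∈ supp ({i, j}ᶜ : Finset (Fin n))
  huu : herm q u u = 0
  hff : herm q f f = 0
  huf : herm q u f = 1

/-- The two coordinates of the frame. -/
def Frame.pair (P : Frame n F q) : Finset (Fin n) := {P.i, P.j}

/-- `g` is the element `(w, b)` of the radical. -/
def Frame.IsQ (P : Frame n F q) (g : SU n F q) (w : Fin n → F) (b : F) : Prop :=
  ∀ x, g • x = x + (herm q x P.u • w - herm q x w • P.u + (b * herm q x P.u) • P.u)

/-- `g` is the torus element `(l; a)`. -/
def Frame.IsTor (P : Frame n F q) (g : SU n F q) (l : F) (a : Fin n → F) : Prop :=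
  g • P.u = l • P.u ∧ g • P.f = (l ^ q)⁻¹ • P.f ∧
    ∀ k ∉ P.pair, g • (eI k : Fin n → F) = a k • eI k

variable (P : Frame n F q)

variable [Fintype F] (hF : Fintype.card F = q ^ 2)
include hF

omit hF in
theorem Frame.isQ_unique {g g' : SU n F q} {w : Fin n → F} {b : F} (h : P.IsQ g w b)
    (h' : P.IsQ g' w b) : g = g' :=
  eq_of_smul_eq_SU fun x => by rw [h x, h' x]

theorem herm_off_supp {S : Finset (Fin n)} {x y : Fin n → F} (hx : x ∈ supp S)
    (hy : y ∈ supp Sᶜ) : herm q x y = 0 := by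
  rw [herm, hermForm]
  refine Finset.sum_eq_zero fun k _ => ?_
  by_cases hk : k ∈ S
  · rw [mem_supp.1 hx k hk, zero_mul]
  · rw [mem_supp.1 hy k (Finset.mem_compl.2 hk), zero_pow_q hF, mul_zero]

theorem Frame.hfu : herm q P.f P.u = 1 := herm_one_swap hF P.huf

theorem Frame.perp_u {w : Fin n → F} (hw : w ∈ supp P.pair) :
    herm q w P.u = 0 ∧ herm q P.u w = 0 :=
  ⟨herm_off_supp hF hw P.hu, (herm_eq_zero_comm hF).1 (herm_off_supp hF hw P.hu)⟩

theorem Frame.perp_f {w : Fin n → F} (hw : w ∈ supp P.pair) :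
    herm q w P.f = 0 ∧ herm q P.f w = 0 :=
  ⟨herm_off_supp hF hw P.hf, (herm_eq_zero_comm hF).1 (herm_off_supp hF hw P.hf)⟩

theorem Frame.exists_isQ {w : Fin n → F} {b : F} (hw : w ∈ supp P.pair)
    (hb : b + b ^ q = -herm q w w) : ∃ g : SU n F q, P.IsQ g w b :=
  ⟨Qel hF P.huu (P.perp_u hF hw).1 hb, Qel_smul hF _ _ _⟩

theorem Frame.isQ_f {g : SU n F q} {w : Fin n → F} {b : F} (hw : w ∈ supp P.pair)
    (h : P.IsQ g w b) : g • P.f = P.f + (w + b • P.u) := by
  rw [h, P.hfu hF, (P.perp_f hF hw).2]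
  simp

theorem Frame.isQ_u {g : SU n F q} {w : Fin n → F} {b : F} (hw : w ∈ supp P.pair)
    (h : P.IsQ g w b) : g • P.u = P.u := by
  rw [h, P.huu, (P.perp_u hF hw).2]
  simp

theorem Frame.isQ_trace {g : SU n F q} {w : Fin n → F} {b : F} (hw : w ∈ supp P.pair)
    (h : P.IsQ g w b) : b + b ^ q = -herm q w w := by
  have e := herm_smul_SU g P.f P.f
  rw [P.isQ_f hF hw h, P.hff] at e
  simp only [herm_add_left, herm_add_right hF, herm_smul_left, herm_smul_right hF, P.hff,
    P.huf, P.hfu hF, P.huu, (P.perp_f hF hw).1, (P.perp_f hF hw).2, (P.perp_u hF hw).1,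
    (P.perp_u hF hw).2] at e
  linear_combination e

theorem Frame.isQ_inj {g : SU n F q} {w w' : Fin n → F} {b b' : F} (hw : w ∈ supp P.pair)
    (hw' : w' ∈ supp P.pair) (h : P.IsQ g w b) (h' : P.IsQ g w' b') : w = w' ∧ b = b' := by
  have e := (P.isQ_f hF hw h).symm.trans (P.isQ_f hF hw' h')
  have hb : b = b' := by
    have := congrArg (fun z => herm q z P.f) e
    simpa [herm_add_left, herm_smul_left, P.hff, P.huf, (P.perp_f hF hw).1,
      (P.perp_f hF hw').1] using this
  subst hb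
  exact ⟨add_right_cancel (add_left_cancel e), rfl⟩

theorem Frame.isQ_one : P.IsQ (1 : SU n F q) 0 0 := fun x => by
  simp [herm_zero_right hF]

omit hF in
theorem Frame.isQ_congr {g : SU n F q} {w w' : Fin n → F} {b b' : F} (h : P.IsQ g w b)
    (hw : w = w') (hb : b = b') : P.IsQ g w' b' := hw ▸ hb ▸ h

theorem Frame.isQ_mul {g g' : SU n F q} {w w' : Fin n → F} {b b' : F} (hw : w ∈ supp P.pair)
    (hw' : w' ∈ supp P.pair) (h : P.IsQ g w b) (h' : P.IsQ g' w' b') :
    P.IsQ (g * g') (w + w') (b + b' - herm q w' w) := by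
  intro x
  rw [mul_smul, h' x, h _]
  simp only [herm_add_left, herm_sub_left, herm_smul_left, herm_add_right hF,
    P.huu, (P.perp_u hF hw).1, (P.perp_u hF hw).2, (P.perp_u hF hw').1]
  module

theorem Frame.isQ_inv {g : SU n F q} {w : Fin n → F} {b : F} (hw : w ∈ supp P.pair)
    (h : P.IsQ g w b) : P.IsQ g⁻¹ (-w) (-b - herm q w w) := by
  obtain ⟨g', hg'⟩ := P.exists_isQ hF (neg_mem hw)
    (Qel_inv_cond hF (P.perp_u hF hw).1 (P.isQ_trace hF hw h)).2
  have h1 : P.IsQ (g * g') 0 0 := P.isQ_congr (P.isQ_mul hF hw (neg_mem hw) h hg')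
    (add_neg_cancel w) (by rw [herm_neg_left]; ring)
  rw [inv_eq_of_mul_eq_one_right (P.isQ_unique h1 (P.isQ_one hF))]
  exact hg'

theorem Frame.isQ_comm {g g' : SU n F q} {w w' : Fin n → F} {b b' : F} (hw : w ∈ supp P.pair)
    (hw' : w' ∈ supp P.pair) (h : P.IsQ g w b) (h' : P.IsQ g' w' b') :
    P.IsQ (g * g' * g⁻¹ * g'⁻¹) 0 (herm q w w' - herm q w' w) := by
  have h1 := P.isQ_mul hF (add_mem (add_mem hw hw') (neg_mem hw)) (neg_mem hw')
    (P.isQ_mul hF (add_mem hw hw') (neg_mem hw) (P.isQ_mul hF hw hw' h h') (P.isQ_inv hF hw h))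
    (P.isQ_inv hF hw' h')
  refine P.isQ_congr h1 (by abel) ?_
  simp only [herm_add_left, herm_add_right hF, herm_neg_left, herm_neg_right hF]
  ring

/-- Elements fixing the frame. -/
theorem Frame.fix_frame {g : SU n F q} (hg : g ∈ fixS P.pair) :
    g • P.u = P.u ∧ g • P.f = P.f := by
  have key : ∀ z ∈ supp (P.pairᶜ : Finset (Fin n)), g • z = (z : Fin n → F) := by
    intro z hz
    rw [eq_sum_eI z, Finset.smul_sum]
    refine Finset.sum_congr rfl fun k _ => ?_
    by_cases hk : k ∈ P.pair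
    · rw [smul_comm, mem_fixS.1 hg k hk]
    · rw [mem_supp.1 hz k (Finset.mem_compl.2 hk), zero_smul, smul_zero]
  exact ⟨key _ P.hu, key _ P.hf⟩

/-- Conjugation of the radical. -/
theorem Frame.isQ_conj {g k : SU n F q} {w : Fin n → F} {b l : F} (hk : k • P.u = l • P.u)
    (h : P.IsQ g w b) : P.IsQ (k * g * k⁻¹) (l ^ q • (k • w)) (l ^ (q + 1) * b) := by
  intro x
  rw [mul_smul, mul_smul, h, smul_add, smul_inv_smul, smul_add, smul_sub,
    smul_comm k (herm q (k⁻¹ • x) P.u), smul_comm k (herm q (k⁻¹ • x) w),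
    smul_comm k (b * herm q (k⁻¹ • x) P.u), hk]
  have e1 : herm q (k⁻¹ • x) P.u = l ^ q * herm q x P.u := by
    rw [← herm_smul_SU k, smul_inv_smul, hk, herm_smul_right hF]
  have e2 : herm q (k⁻¹ • x) w = herm q x (k • w) := by rw [← herm_smul_SU k, smul_inv_smul]
  rw [e1, e2, herm_smul_right hF, pow_q_pow_q hF, pow_succ]
  generalize k • w = z
  module

/-- The two frame vectors and the other coordinates determine an element. -/
theorem Frame.ext {g h : SU n F q} (hu : g • P.u = h • P.u) (hf : g • P.f = h • P.f)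
    (hk : ∀ k ∉ P.pair, g • (eI k : Fin n → F) = h • eI k) : g = h := by
  refine ext_eI fun k => ?_
  by_cases hkp : k ∈ P.pair
  · have e := eq_pair_combination hF (S := P.pairᶜ) P.hij
      (fun l hl => by by_cases h : l = P.i <;> simp_all [Frame.pair]) (by simp [Frame.pair]) (by simp [Frame.pair])
      P.hu P.hf P.huu P.hff P.huf (x := eI k) (eI_mem_supp (by simp [hkp]))
    rw [e, smul_add, smul_add, smul_comm g, smul_comm g, smul_comm h, smul_comm h, hu, hf]
  · exact hk k hkp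

theorem Frame.tor_comm {g h : SU n F q} {l l' : F} {a a' : Fin n → F} (hg : P.IsTor g l a)
    (hh : P.IsTor h l' a') : Commute g h := by
  refine P.ext hF ?_ ?_ fun k hk => ?_
  · rw [mul_smul, mul_smul, hh.1, hg.1, smul_comm g, hg.1, smul_comm h, hh.1, smul_comm]
  · rw [mul_smul, mul_smul, hh.2.1, hg.2.1, smul_comm g, hg.2.1, smul_comm h, hh.2.1, smul_comm]
  · rw [mul_smul, mul_smul, hh.2.2 k hk, hg.2.2 k hk, smul_comm g, hg.2.2 k hk, smul_comm h,
      hh.2.2 k hk, smul_comm]

omit [Fintype F] hF in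
theorem Frame.tor_smul {g : SU n F q} {l : F} {a : Fin n → F} (hg : P.IsTor g l a)
    {w : Fin n → F} (hw : w ∈ supp P.pair) : g • w = fun k => a k * w k := by
  conv_lhs => rw [eq_sum_eI w, Finset.smul_sum]
  conv_rhs => rw [eq_sum_eI (fun k => a k * w k)]
  refine Finset.sum_congr rfl fun k _ => ?_
  by_cases hk : k ∈ P.pair
  · rw [mem_supp.1 hw k hk, zero_smul, smul_zero, mul_zero, zero_smul]
  · rw [smul_comm, hg.2.2 k hk, smul_smul, mul_comm]

/-- The torus. -/
theorem Frame.exists_tor {l : F} {a : Fin n → F} (hl : l ≠ 0) (ha : ∀ k, a k ^ (q + 1) = 1)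
    (hap : ∀ k ∈ P.pair, a k = 1) (hd : l * (l ^ q)⁻¹ * ∏ k, a k = 1) :
    ∃ g : SU n F q, P.IsTor g l a := by
  set c : F := (l ^ q)⁻¹ with hc
  set U : Matrix (Fin n) (Fin 2) F := Matrix.of fun k => ![(l - 1) * P.u k, (c - 1) * P.f k] with hU
  set V : Matrix (Fin 2) (Fin n) F := Matrix.of ![fun k => P.f k ^ q, fun k => P.u k ^ q] with hV
  set M : Matrix (Fin n) (Fin n) F := 1 + U * V with hM
  have hMx : ∀ x : Fin n → F, M *ᵥ x =
      x + (((l - 1) * herm q x P.f) • P.u + ((c - 1) * herm q x P.u) • P.f) := by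
    intro x
    rw [hM, Matrix.add_mulVec, Matrix.one_mulVec, ← Matrix.mulVec_mulVec]
    congr 1
    funext k
    have e : ∀ y : Fin n → F, (fun m => y m ^ q) ⬝ᵥ x = herm q x y := fun y => by
      rw [dotProduct_comm]; rfl
    simp [hU, hV, Matrix.mulVec, e, dotProduct, Fin.sum_univ_two]
    simp only [herm, hermForm]
    rw [show ∑ m, P.f m ^ q * x m = ∑ m, x m * P.f m ^ q from
        Finset.sum_congr rfl fun _ _ => mul_comm _ _,
      show ∑ m, P.u m ^ q * x m = ∑ m, x m * P.u m ^ q from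
        Finset.sum_congr rfl fun _ _ => mul_comm _ _]
    ring
  have hdet : (M * Matrix.diagonal a).det = 1 := by
    rw [Matrix.det_mul, Matrix.det_diagonal, hM, Matrix.det_one_add_mul_comm, Matrix.det_fin_two]
    have e : ∀ z y : Fin n → F, ∀ s : F, ∑ k, y k ^ q * (s * z k) = s * herm q z y := fun z y s => by
      rw [herm, hermForm, Finset.mul_sum]
      exact Finset.sum_congr rfl fun k _ => by ring
    simp only [Matrix.add_apply, Matrix.one_apply, Matrix.mul_apply, hU, hV, Matrix.of_apply,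
      Matrix.cons_val_zero, Matrix.cons_val_one, if_true, zero_ne_one, one_ne_zero, if_false, e,
      P.huf, P.hff, P.huu, P.hfu hF]
    linear_combination hd
  have hform : ∀ x y : Fin n → F,
      herm q ((M * Matrix.diagonal a) *ᵥ x) ((M * Matrix.diagonal a) *ᵥ y) = herm q x y := by
    have h1 : ∀ x y : Fin n → F, herm q (M *ᵥ x) (M *ᵥ y) = herm q x y := by
      intro x y
      have hcq : c ^ q = l⁻¹ := by rw [hc, inv_pow, pow_q_pow_q hF]
      have e1 : c * l ^ q = 1 := inv_mul_cancel₀ (pow_ne_zero _ hl)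
      have e2 : l * l⁻¹ = 1 := mul_inv_cancel₀ hl
      simp only [hMx, herm_add_left, herm_add_right hF, herm_smul_left, herm_smul_right hF, P.huu,
        P.hff, P.huf, P.hfu hF, mul_pow, sub_pow_q hF, one_pow, hcq]
      rw [← herm_swap hF y P.f, ← herm_swap hF y P.u]
      linear_combination (herm q x P.f * herm q P.u y) * e2 + (herm q x P.u * herm q P.f y) * e1
    intro x y
    rw [← Matrix.mulVec_mulVec, ← Matrix.mulVec_mulVec, h1, herm, herm, hermForm, hermForm]
    refine Finset.sum_congr rfl fun k _ => ?_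
    rw [Matrix.mulVec_diagonal, Matrix.mulVec_diagonal, mul_pow, mul_mul_mul_comm, ← pow_succ', ha,
      one_mul]
  let g : SU n F q := ⟨⟨M * Matrix.diagonal a, hdet⟩, hform⟩
  have hg : ∀ x : Fin n → F, g • x = M *ᵥ (fun k => a k * x k) := fun x => by
    show (M * Matrix.diagonal a) *ᵥ x = _
    rw [← Matrix.mulVec_mulVec]
    congr 1
    funext k
    exact Matrix.mulVec_diagonal a x k
  have hfix : ∀ z ∈ supp (P.pairᶜ : Finset (Fin n)), (fun k => a k * z k) = (z : Fin n → F) :=
    fun z hz => funext fun k => by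
      by_cases hk : k ∈ P.pair
      · rw [hap k hk, one_mul]
      · rw [mem_supp.1 hz k (Finset.mem_compl.2 hk), mul_zero]
  refine ⟨g, ?_, ?_, fun k hk => ?_⟩
  · rw [hg, hfix _ P.hu, hMx, P.huf, P.huu]
    module
  · rw [hg, hfix _ P.hf, hMx, P.hfu hF, P.hff]
    module
  · have he : (fun m => a m * (eI k : Fin n → F) m) = a k • eI k := funext fun m => by
      by_cases hm : m = k
      · subst hm; simp
      · simp [eI, hm]
    obtain ⟨h1, -⟩ := P.perp_u hF (w := eI k) (eI_mem_supp hk)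
    obtain ⟨h2, -⟩ := P.perp_f hF (w := eI k) (eI_mem_supp hk)
    rw [hg, he, hMx, herm_smul_left, herm_smul_left, h1, h2]
    module

/-- The torus element `(l; ρ, a_r)` of two coordinates `k, r`. -/
theorem Frame.exists_tor₂ {k r : Fin n} (hk : k ∉ P.pair) (hr : r ∉ P.pair) (hkr : k ≠ r) {l ρ : F}
    (hl : l ≠ 0) (hρ : ρ ^ (q + 1) = 1) :
    ∃ (g : SU n F q) (a : Fin n → F), P.IsTor g l a ∧ a k = ρ ∧ a r = l ^ q / (l * ρ) ∧
      ∀ m, m ≠ k → m ≠ r → a m = 1 := by
  have hρ0 : ρ ≠ 0 := fun h => by simp [h] at hρ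
  set σ' : F := l ^ q / (l * ρ) with hσ
  have hσn : σ' ^ (q + 1) = 1 := by
    have e : (l ^ q) ^ (q + 1) = l ^ (q + 1) := by rw [← pow_mul, mul_comm, pow_mul, norm_fixed hF]
    rw [hσ, div_pow, mul_pow, hρ, mul_one, e, div_self (pow_ne_zero _ hl)]
  set a : Fin n → F := fun m => (if m = k then ρ else 1) * (if m = r then σ' else 1) with hadef
  obtain ⟨g, hg⟩ := P.exists_tor hF (l := l) (a := a) hl
    (fun m => by
      simp only [hadef, mul_pow]
      split_ifs <;> simp [hρ, hσn])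
    (fun m hm => by
      have h1 : m ≠ k := fun h => hk (h ▸ hm)
      have h2 : m ≠ r := fun h => hr (h ▸ hm)
      simp [hadef, h1, h2])
    (by
      simp only [hadef]
      rw [Finset.prod_mul_distrib, Finset.prod_ite_eq', Finset.prod_ite_eq']
      simp only [Finset.mem_univ, if_true, hσ]
      field_simp)
  refine ⟨g, a, hg, ?_, ?_, fun m h1 h2 => ?_⟩
  · simp [hadef, hkr]
  · simp [hadef, hkr.symm]
  · simp [hadef, h1, h2]

/-- The frame torus with scalars in the fixed field. -/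
theorem Frame.exists_tor₀ {l : F} (hl : l ≠ 0) (hlq : l ^ q = l) :
    ∃ g : SU n F q, P.IsTor g l 1 :=
  P.exists_tor hF hl (fun k => by simp) (fun k _ => rfl) (by simp [hlq, hl])

end Cfsg.Agent.SuMult50
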