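import Cfsg.Agent.SuMult50.Embed
import Cfsg.Agent.Lib.Unitary.Simple

/-!
Orders of small `SU_n(q)`, the stabiliser of a non-isotropic coordinate line, and the diagonal and
monomial subgroups (helper50).
-/

set_option autoImplicit false

namespace Cfsg.Agent.SuMult50

open Matrix Subgroup Cfsg.Agent.Unitary Cfsg.Agent.CharB.PSLMult
open scoped commutatorElement

universe v

variable {F : Type v} [Field F] {n q : ℕ}

/-- The stabiliser of a coordinate line. -/
def lineStab (i : Fin n) : Subgroup (SU n F q) where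
  carrier := {g | ∃ c : Fˣ, g • (eI i : Fin n → F) = (c : F) • eI i}
  one_mem' := ⟨1, by simp⟩
  mul_mem' := by
    rintro g h ⟨c, hc⟩ ⟨d, hd⟩
    exact ⟨c * d, by rw [mul_smul, hd, smul_comm, hc, smul_smul, Units.val_mul, mul_comm]⟩
  inv_mem' := by
    rintro g ⟨c, hc⟩
    refine ⟨c⁻¹, ?_⟩
    rw [inv_smul_eq_iff, smul_comm, hc, smul_smul, ← Units.val_mul, inv_mul_cancel, Units.val_one,
      one_smul]

/-- The eigenvalue on the line. -/
noncomputable def lineChar (i : Fin n) : lineStab (F := F) (q := q) i →* Fˣ where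
  toFun g := g.2.choose
  map_one' := by
    have h := (1 : lineStab (F := F) (q := q) i).2.choose_spec
    refine Units.ext ?_
    have := congrFun h i
    simpa [eI] using this.symm
  map_mul' g h := by
    refine Units.ext ?_
    have e : ((g : SU n F q) * (h : SU n F q)) • (eI i : Fin n → F) =
        ((g * h).2.choose : F) • eI i := (g * h).2.choose_spec
    rw [mul_smul, h.2.choose_spec, smul_comm, g.2.choose_spec, smul_smul] at e
    have := congrFun e i
    simpa [eI, mul_comm] using this.symm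

theorem lineChar_spec (i : Fin n) (g : lineStab (F := F) (q := q) i) :
    (g : SU n F q) • (eI i : Fin n → F) = (lineChar i g : F) • eI i :=
  g.2.choose_spec

/-- The diagonal subgroup. -/
def diagT : Subgroup (SU n F q) := ⨅ i, lineStab i

theorem mem_diagT {g : SU n F q} : g ∈ diagT ↔ ∀ i, g ∈ lineStab i := Subgroup.mem_iInf

/-- The `i`-th diagonal entry. -/
def ent (g : SU n F q) (i : Fin n) : F := (g • (eI i : Fin n → F)) i

theorem diagT_smul {g : SU n F q} (hg : g ∈ diagT) (i : Fin n) :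
    g • (eI i : Fin n → F) = ent g i • eI i := by
  obtain ⟨c, hc⟩ := mem_diagT.1 hg i
  rw [ent, hc]
  simp [eI]

theorem ext_eI {g h : SU n F q} (e : ∀ i, g • (eI i : Fin n → F) = h • eI i) : g = h :=
  Subtype.ext (Subtype.ext (by
    ext i j
    have key : ∀ k : SU n F q, (k • (eI j : Fin n → F)) i = k.1.1 i j := fun k => by
      show (k.1.1 *ᵥ eI j) i = _
      simp [eI]
    rw [← key, ← key, e]))

theorem diagT_ext {g h : SU n F q} (hg : g ∈ diagT) (hh : h ∈ diagT) (e : ∀ i, ent g i = ent h i) :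
    g = h :=
  ext_eI fun i => by rw [diagT_smul hg, diagT_smul hh, e]

theorem diagT_comm {g h : SU n F q} (hg : g ∈ diagT) (hh : h ∈ diagT) : Commute g h :=
  ext_eI fun i => by
    rw [mul_smul, mul_smul, diagT_smul hh, diagT_smul hg, smul_comm, smul_comm h, diagT_smul hg,
      diagT_smul hh, smul_comm]

/-- Elements permuting the coordinates, up to one common factor. -/
def permSU (π : Equiv.Perm (Fin n)) (ε : F) (hε : ε ^ (q + 1) = 1)
    (hd : ((Equiv.Perm.sign π : ℤ) : F) * ε ^ n = 1) : SU n F q :=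
  monSU π (fun _ => ε) (fun _ => hε) (by
    rw [Finset.prod_const, Finset.card_univ, Fintype.card_fin]; exact hd)

theorem permSU_smul (π : Equiv.Perm (Fin n)) (ε : F) (hε : ε ^ (q + 1) = 1)
    (hd : ((Equiv.Perm.sign π : ℤ) : F) * ε ^ n = 1) (i : Fin n) :
    permSU π ε hε hd • (eI i : Fin n → F) = ε • eI (π i) := monSU_smul_eI _ _ _ _ i

theorem permSU_mem_normalizer (π : Equiv.Perm (Fin n)) (ε : F) (hε : ε ^ (q + 1) = 1)
    (hd : ((Equiv.Perm.sign π : ℤ) : F) * ε ^ n = 1) {x : SU n F q} (hx : x ∈ diagT) (i : Fin n) :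
    (permSU π ε hε hd * x * (permSU π ε hε hd)⁻¹) • (eI (π i) : Fin n → F) = ent x i • eI (π i) := by
  have e : (permSU π ε hε hd)⁻¹ • (eI (π i) : Fin n → F) = ε⁻¹ • eI i := by
    rw [inv_smul_eq_iff, smul_comm, permSU_smul, smul_smul,
      inv_mul_cancel₀ (fun h => by simp [h] at hε), one_smul]
  rw [mul_smul, mul_smul, e, smul_comm x, diagT_smul hx, smul_smul, smul_comm, permSU_smul,
    smul_smul, mul_assoc, mul_comm (ent x i) ε, ← mul_assoc,
    inv_mul_cancel₀ (fun h => by simp [h] at hε), one_mul]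

theorem permSU_conj_mem (π : Equiv.Perm (Fin n)) (ε : F) (hε : ε ^ (q + 1) = 1)
    (hd : ((Equiv.Perm.sign π : ℤ) : F) * ε ^ n = 1) {x : SU n F q} (hx : x ∈ diagT) :
    permSU π ε hε hd * x * (permSU π ε hε hd)⁻¹ ∈ diagT := by
  refine mem_diagT.2 fun j => ?_
  obtain ⟨i, rfl⟩ := π.surjective j
  obtain ⟨c, hc⟩ := mem_diagT.1 hx i
  refine ⟨c, ?_⟩
  rw [permSU_mem_normalizer π ε hε hd hx, ent, hc]
  simp [eI]

theorem permSU_conj_ent (π : Equiv.Perm (Fin n)) (ε : F) (hε : ε ^ (q + 1) = 1)
    (hd : ((Equiv.Perm.sign π : ℤ) : F) * ε ^ n = 1) {x : SU n F q} (hx : x ∈ diagT) (i : Fin n) :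
    ent (permSU π ε hε hd * x * (permSU π ε hε hd)⁻¹) (π i) = ent x i := by
  rw [ent, permSU_mem_normalizer π ε hε hd hx]
  simp [eI]

theorem permSU_inv_conj_mem (π : Equiv.Perm (Fin n)) (ε : F) (hε : ε ^ (q + 1) = 1)
    (hd : ((Equiv.Perm.sign π : ℤ) : F) * ε ^ n = 1) {x : SU n F q} (hx : x ∈ diagT) :
    (permSU π ε hε hd)⁻¹ * x * permSU π ε hε hd ∈ diagT := by
  refine mem_diagT.2 fun j => ?_
  obtain ⟨c, hc⟩ := mem_diagT.1 hx (π j)
  refine ⟨c, ?_⟩
  rw [mul_smul, mul_smul, permSU_smul, smul_comm x, hc, inv_smul_eq_iff,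
    smul_comm (permSU π ε hε hd) (c : F), permSU_smul, smul_comm]

theorem monSU_mem_diagT (a : Fin n → F) (ha : ∀ i, a i ^ (q + 1) = 1)
    (hd : (((Equiv.Perm.sign (1 : Equiv.Perm (Fin n))) : ℤ) : F) * ∏ j, a j = 1) :
    monSU 1 a ha hd ∈ diagT :=
  mem_diagT.2 fun i => ⟨Units.mk0 (a i) (fun h => by simpa [h] using ha i), monSU_smul_eI _ _ _ _ i⟩

theorem ent_monSU (a : Fin n → F) (ha : ∀ i, a i ^ (q + 1) = 1)
    (hd : (((Equiv.Perm.sign (1 : Equiv.Perm (Fin n))) : ℤ) : F) * ∏ j, a j = 1) (i : Fin n) :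
    ent (monSU 1 a ha hd) i = a i := by
  rw [ent, monSU_smul_eI]; simp [eI]

/-- Commutators with an element have trivial bracket with what centralises both factors. -/
theorem cm_subgroup_sq {Γ G : Type v} [Group Γ] [Group G] {σ : Γ →* G} (E : CEx σ) {S : Set G}
    (hc : ∀ x ∈ closure S, ∀ y ∈ closure S, Commute x y)
    (h : ∀ x ∈ S, ∀ y ∈ S, E.cm x y ^ 2 = 1) :
    ∀ x ∈ closure S, ∀ y ∈ closure S, E.cm x y ^ 2 = 1 := by
  have key : ∀ y ∈ closure S, (∀ x ∈ S, E.cm x y ^ 2 = 1) → ∀ x ∈ closure S, E.cm x y ^ 2 = 1 := by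
    intro y hy hy' x hx
    induction hx using closure_induction with
    | mem s hs => exact hy' s hs
    | one => rw [E.cm_one_left, one_pow]
    | mul a b _ hb iha ihb =>
      rw [E.cm_mul_left' (hc b hb y hy),
        Commute.mul_pow (Subgroup.mem_center_iff.1 (E.cm_mem_center (hc b hb y hy)) _).symm, iha,
        ihb, one_mul]
    | inv a ha iha => rw [E.cm_inv_left (hc a ha y hy), inv_pow, iha, inv_one]
  intro x hx y hy
  refine key y hy (fun s hs => ?_) x hx
  rw [← E.cm_inv, inv_pow, key s (Subgroup.subset_closure hs) (fun t ht => h t ht s hs) y hy,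
    inv_one]

variable [Fintype F] (hF : Fintype.card F = q ^ 2)
include hF

theorem card_SU_two : Nat.card (SU 2 F q) = q * (q ^ 2 - 1) := by
  have h := card_SU_mul hF (n := 2) (by norm_num)
  rw [card_GU hF] at h
  norm_num [Finset.prod_range_succ] at h
  exact Nat.eq_of_mul_eq_mul_left (by omega : 0 < q + 1) (h.trans (by ring))

theorem card_SU_three : Nat.card (SU 3 F q) = q ^ 3 * (q ^ 2 - 1) * (q ^ 3 + 1) := by
  have h := card_SU_mul hF (n := 3) (by norm_num)
  rw [card_GU hF] at h
  norm_num [Finset.prod_range_succ] at h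
  exact Nat.eq_of_mul_eq_mul_left (by omega : 0 < q + 1) (h.trans (by ring))

theorem card_SU_four :
    Nat.card (SU 4 F q) = q ^ 6 * (q ^ 2 - 1) * (q ^ 3 + 1) * (q ^ 4 - 1) := by
  have h := card_SU_mul hF (n := 4) (by norm_num)
  rw [card_GU hF] at h
  norm_num [Finset.prod_range_succ] at h
  exact Nat.eq_of_mul_eq_mul_left (by omega : 0 < q + 1) (h.trans (by ring))

theorem lineChar_norm (i : Fin n) (g : lineStab (F := F) (q := q) i) :
    (lineChar i g : F) ^ (q + 1) = 1 := by
  have h := herm_smul_SU (g : SU n F q) (eI i) (eI i)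
  rw [lineChar_spec, herm_smul_left, herm_smul_right hF, herm_eI_eI hF, if_pos rfl, mul_one,
    ← pow_succ'] at h
  exact h

theorem ent_norm {g : SU n F q} (hg : g ∈ diagT) (i : Fin n) : ent g i ^ (q + 1) = 1 := by
  have h := herm_smul_SU g (eI i) (eI i)
  rw [diagT_smul hg, herm_smul_left, herm_smul_right hF, herm_eI_eI hF, if_pos rfl, mul_one,
    ← pow_succ'] at h
  exact h

theorem ent_prod {g : SU n F q} (hg : g ∈ diagT) : ∏ i, ent g i = 1 := by
  have e : g.1.1 = Matrix.diagonal (ent g) := by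
    ext i j
    have h : (g • (eI j : Fin n → F)) i = g.1.1 i j := by
      show (g.1.1 *ᵥ eI j) i = _
      simp [eI]
    rw [← h, diagT_smul hg]
    by_cases hij : i = j
    · subst hij; simp [eI]
    · simp [eI, hij]
  rw [← Matrix.det_diagonal, ← e]
  exact g.1.2

/-- Every norm-one scalar occurs as an eigenvalue, compensated on a second coordinate. -/
theorem exists_diag_pair {i j : Fin n} (hij : i ≠ j) {c : F} (hc : c ^ (q + 1) = 1) :
    ∃ g ∈ (diagT : Subgroup (SU n F q)), ent g i = c ∧ ent g j = c⁻¹ ∧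
      ∀ k, k ≠ i → k ≠ j → ent g k = 1 := by
  have hc0 : c ≠ 0 := fun h => by simp [h] at hc
  set a : Fin n → F := fun k => if k = i then c else if k = j then c⁻¹ else 1 with hadef
  have ha : ∀ k, a k ^ (q + 1) = 1 := fun k => by
    simp only [hadef]
    split_ifs <;> simp [hc]
  have hp : ∏ k, a k = 1 := by
    have : a = fun k => (if k = i then c else 1) * (if k = j then c⁻¹ else 1) := by
      funext k
      simp only [hadef]
      by_cases h1 : k = i
      · subst h1; simp [hij]
      · simp [h1]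
    rw [this, Finset.prod_mul_distrib, Finset.prod_ite_eq', Finset.prod_ite_eq']
    simp [hc0]
  have hd : (((Equiv.Perm.sign (1 : Equiv.Perm (Fin n))) : ℤ) : F) * ∏ k, a k = 1 := by simp [hp]
  refine ⟨monSU 1 a ha hd, monSU_mem_diagT a ha hd, ?_, ?_, fun k hki hkj => ?_⟩
  · rw [ent_monSU]; simp [hadef]
  · rw [ent_monSU]; simp [hadef, hij.symm]
  · rw [ent_monSU]; simp [hadef, hki, hkj]

/-- The eigenvalues are all the norm-one scalars. -/
theorem range_lineChar {i j : Fin n} (hij : i ≠ j) :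
    (lineChar (F := F) (q := q) i).range = (powMonoidHom (q + 1) : Fˣ →* Fˣ).ker := by
  ext c
  constructor
  · rintro ⟨g, rfl⟩
    exact Units.ext (lineChar_norm hF i g)
  · intro hc
    obtain ⟨g, hg, hgi, -, -⟩ := exists_diag_pair hF hij (c := (c : F)) (congrArg Units.val hc)
    refine ⟨⟨g, mem_diagT.1 hg i⟩, Units.ext ?_⟩
    have h1 := lineChar_spec i ⟨g, mem_diagT.1 hg i⟩
    rw [diagT_smul hg, hgi] at h1
    have := congrFun h1 i
    simpa [eI] using this.symm

theorem card_lineStab {i j : Fin n} (hij : i ≠ j) :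
    Nat.card (lineStab i : Subgroup (SU n F q)) =
      (q + 1) * Nat.card (fixS {i} : Subgroup (SU n F q)) := by
  rw [← (lineChar (F := F) (q := q) i).ker.index_mul_card, Subgroup.index_ker, range_lineChar hF hij,
    card_norm_one_units hF]
  refine congrArg _ (Nat.card_congr ?_)
  refine
    { toFun := fun g => ⟨g.1.1, mem_fixS.2 fun k hk => by
        rw [Finset.mem_singleton.1 hk, lineChar_spec, MonoidHom.mem_ker.1 g.2, Units.val_one,
          one_smul]⟩
      invFun := fun g => ⟨⟨g.1, 1, by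
          rw [mem_fixS.1 g.2 i (Finset.mem_singleton_self i), Units.val_one, one_smul]⟩, ?_⟩
      left_inv := fun g => rfl
      right_inv := fun g => rfl }
  refine MonoidHom.mem_ker.2 (Units.ext ?_)
  have h := lineChar_spec i (⟨g.1, 1, by
    rw [mem_fixS.1 g.2 i (Finset.mem_singleton_self i), Units.val_one, one_smul]⟩ :
      lineStab (F := F) (q := q) i)
  have := congrFun (h.symm.trans (mem_fixS.1 g.2 i (Finset.mem_singleton_self i))) i
  simpa [eI] using this

theorem card_fixS_singleton {k : ℕ} (i : Fin (k + 1)) :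
    Nat.card (fixS {i} : Subgroup (SU (k + 1) F q)) = Nat.card (SU k F q) := by
  obtain ⟨e⟩ := fixS_equiv hF ({i} : Finset (Fin (k + 1))) (k := k) (by simp [Finset.card_compl])
  exact (Nat.card_congr e.toEquiv).symm

/-- The kernel avoids the commutators over the stabiliser of a coordinate line. -/
theorem ker_comm_lineStab {p k : ℕ} [CharP F p] (h : PTriv.{v, v} p (SU k F q))
    (h32 : ¬ (k = 3 ∧ q = 2)) {Γ : Type v} [Group Γ] [Finite Γ] {σ : Γ →* SU (k + 1) F q}
    (E : PExt p σ) (i : Fin (k + 1)) :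
    ∀ z ∈ σ.ker, z ∈ ⁅(lineStab i).comap σ, (lineStab i).comap σ⁆ → z = 1 := by
  have hk : ({i} : Finset (Fin (k + 1)))ᶜ.card = k := by simp [Finset.card_compl]
  obtain ⟨hK1, hK2⟩ := hat_props E (fixS ({i} : Finset (Fin (k + 1)))) (ptriv_fixS hF hk h)
    (fixS_gen hF (p := p) (by rwa [hk]))
  refine ker_comm_of_cyclic ⟨E.surj, E.central⟩ (lineChar i) hK1 (fun x hx => ?_) fun a ha x hx => ?_
  · rw [hK2]
    exact mem_fixS.2 fun j hj => by
      rw [Finset.mem_singleton.1 hj, lineChar_spec, hx, Units.val_one, one_smul]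
  · refine hat_conj (fun y hy => mem_fixS.2 fun j hj => ?_) hx
    obtain ⟨c, hc⟩ := (show σ a ∈ lineStab i from ha)
    rw [Finset.mem_singleton.1 hj]
    have e : (σ a)⁻¹ • (eI i : Fin (k + 1) → F) = (c⁻¹ : Fˣ).val • eI i := by
      rw [inv_smul_eq_iff, smul_comm, hc, smul_smul, ← Units.val_mul, inv_mul_cancel, Units.val_one,
        one_smul]
    rw [mul_smul, mul_smul, e, smul_comm y, mem_fixS.1 hy i (Finset.mem_singleton_self i),
      smul_comm, hc, smul_smul, ← Units.val_mul, inv_mul_cancel, Units.val_one, one_smul]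

/-- The diagonal group has order `(q+1)^k` in `SU_{k+1}`. -/
theorem card_diagT (k : ℕ) :
    Nat.card (diagT : Subgroup (SU (k + 1) F q)) = (q + 1) ^ k := by
  have hμ : Nat.card {x : F // x ^ (q + 1) = 1} = q + 1 := card_norm_eq_one hF
  let f : ↥(diagT : Subgroup (SU (k + 1) F q)) → (Fin k → {x : F // x ^ (q + 1) = 1}) :=
    fun g i => ⟨ent g.1 i.castSucc, ent_norm hF g.2 _⟩
  have hf : Function.Bijective f := by
    refine ⟨fun g h e => ?_, fun a => ?_⟩
    · have e' : ∀ i : Fin k, ent g.1 i.castSucc = ent h.1 i.castSucc := fun i =>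
        congrArg Subtype.val (congrFun e i)
      refine Subtype.ext (diagT_ext g.2 h.2 fun i => ?_)
      induction i using Fin.lastCases with
      | cast i => exact e' i
      | last =>
        have h1 := ent_prod hF g.2
        have h2 := ent_prod hF h.2
        rw [Fin.prod_univ_castSucc] at h1 h2
        simp only [e'] at h1
        have hne : ∏ i : Fin k, ent h.1 i.castSucc ≠ 0 := fun h0 => by simp [h0] at h2
        exact mul_left_cancel₀ hne (h1.trans h2.symm)
    · let b : Fin (k + 1) → F := Fin.lastCases (∏ i, (a i).1)⁻¹ fun i => (a i).1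
      have hb : ∀ i, b i ^ (q + 1) = 1 := fun i => by
        induction i using Fin.lastCases with
        | cast i => simp only [b, Fin.lastCases_castSucc]; exact (a i).2
        | last =>
          simp only [b, Fin.lastCases_last, inv_pow, ← Finset.prod_pow]
          simp [fun i => (a i).2]
      have hne : ∏ i, (a i).1 ≠ 0 := Finset.prod_ne_zero_iff.2 fun i _ h => by
        simpa [h] using (a i).2
      have hd : (((Equiv.Perm.sign (1 : Equiv.Perm (Fin (k + 1)))) : ℤ) : F) * ∏ j, b j = 1 := by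
        rw [Fin.prod_univ_castSucc]
        simp [b, hne]
      refine ⟨⟨monSU 1 b hb hd, monSU_mem_diagT b hb hd⟩, funext fun i => Subtype.ext ?_⟩
      show ent (monSU 1 b hb hd) i.castSucc = (a i).1
      rw [ent_monSU]
      simp [b]
  rw [Nat.card_eq_of_bijective f hf, Nat.card_pi, Finset.prod_const, hμ, Finset.card_univ,
    Fintype.card_fin]

end Cfsg.Agent.SuMult50
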