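import Cfsg.Agent.Lib.Unitary.Generation
import Mathlib.LinearAlgebra.Dual.Lemmas
import Mathlib.LinearAlgebra.Matrix.ToLinearEquiv

/-!
Norm-one vectors orthogonal to given ones in a hermitian space (helper50).
-/

set_option autoImplicit false

namespace Cfsg.Agent.SuMult50

open Matrix Cfsg.Agent.Unitary

universe v

variable {F : Type v} [Field F] {n q : ℕ}

/-- Pairing with a vector on the right. -/
def hermR (a : Fin n → F) : (Fin n → F) →ₗ[F] F where
  toFun x := herm q x a
  map_add' x y := herm_add_left x y a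
  map_smul' c x := herm_smul_left c x a

/-- The vectors orthogonal to the given ones. -/
def perp {r : ℕ} (a : Fin r → Fin n → F) : Submodule F (Fin n → F) :=
  LinearMap.ker (LinearMap.pi fun i => hermR (q := q) (a i))

theorem mem_perp {r : ℕ} {a : Fin r → Fin n → F} {x : Fin n → F} :
    x ∈ perp (q := q) a ↔ ∀ i, herm q x (a i) = 0 := by
  simp [perp, hermR, funext_iff]

theorem le_finrank_perp {r : ℕ} (a : Fin r → Fin n → F) :
    n ≤ Module.finrank F (perp (q := q) a) + r := by
  set f : (Fin n → F) →ₗ[F] (Fin r → F) := LinearMap.pi fun i => hermR (q := q) (a i)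
  have h := f.finrank_range_add_finrank_ker
  have h2 : Module.finrank F (LinearMap.range f) ≤ r := by
    simpa [Module.finrank_fin_fun] using Submodule.finrank_le (LinearMap.range f)
  rw [Module.finrank_fin_fun] at h
  rw [show perp (q := q) a = LinearMap.ker f from rfl]
  omega

variable [Fintype F] (hF : Fintype.card F = q ^ 2)
include hF

/-- Orthogonal subspaces have total dimension at most `n`. -/
theorem finrank_add_le {Y T : Submodule F (Fin n → F)}
    (h : ∀ y ∈ Y, ∀ t ∈ T, herm q y t = 0) :
    Module.finrank F Y + Module.finrank F T ≤ n := by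
  classical
  let T' : Submodule F (Fin n → F) :=
    { carrier := {x | (fun i => x i ^ q) ∈ T}
      zero_mem' := by
        show (fun i => (0 : Fin n → F) i ^ q) ∈ T
        convert T.zero_mem using 1
        funext i; simp [zero_pow_q hF]
      add_mem' := fun {x y} hx hy => by
        show (fun i => (x + y) i ^ q) ∈ T
        convert T.add_mem hx hy using 1
        funext i; simp [add_pow_q hF]
      smul_mem' := fun c x hx => by
        show (fun i => (c • x) i ^ q) ∈ T
        convert T.smul_mem (c ^ q) hx using 1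
        funext i; simp [mul_pow] }
  let e : T' ≃ T :=
    { toFun := fun x => ⟨fun i => x.1 i ^ q, x.2⟩
      invFun := fun x => ⟨fun i => x.1 i ^ q, by
        show (fun i => (x.1 i ^ q) ^ q) ∈ T
        simp [pow_q_pow_q hF]⟩
      left_inv := fun x => Subtype.ext (funext fun i => pow_q_pow_q hF _)
      right_inv := fun x => Subtype.ext (funext fun i => pow_q_pow_q hF _) }
  have hT : Module.finrank F T' = Module.finrank F T := by
    have hc := Fintype.card_congr e
    rw [Module.card_eq_pow_finrank (K := F), Module.card_eq_pow_finrank (K := F) (V := T)] at hc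
    exact Nat.pow_right_injective (Fintype.one_lt_card (α := F)) hc
  have hle : Y.map (dotProductEquiv F (Fin n) : (Fin n → F) →ₗ[F] Module.Dual F (Fin n → F)) ≤
      T'.dualAnnihilator := by
    rintro _ ⟨y, hy, rfl⟩
    rw [Submodule.mem_dualAnnihilator]
    intro x hx
    have := h y hy _ hx
    rw [herm, hermForm] at this
    simp only [pow_q_pow_q hF] at this
    exact this
  have h1 := Submodule.finrank_mono hle
  rw [LinearEquiv.finrank_map_eq] at h1
  have h2 := Subspace.finrank_add_finrank_dualAnnihilator_eq T'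
  rw [Module.finrank_fin_fun] at h2
  omega

/-- A subspace without norm-one vectors is totally isotropic. -/
theorem norm_one_or_isotropic (T : Submodule F (Fin n → F)) :
    (∃ x ∈ T, herm q x x = 1) ∨ ∀ x ∈ T, ∀ y ∈ T, herm q x y = 0 := by
  by_cases h : ∀ x ∈ T, herm q x x = 0
  · right
    intro x hx y hy
    by_contra hne
    obtain ⟨δ, hδ⟩ := exists_trace_eq hF (t := (1 : F)) (one_pow q)
    set c : F := δ / herm q x y with hc
    have := h (c • x + y) (T.add_mem (T.smul_mem _ hx) hy)
    simp only [herm_add_left, herm_add_right hF, herm_smul_left, herm_smul_right hF, h x hx,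
      h y hy] at this
    rw [herm_swap hF x y] at this
    simp only [mul_zero, zero_add, add_zero] at this
    rw [← mul_pow, hc, div_mul_cancel₀ _ hne] at this
    exact one_ne_zero (α := F) (by linear_combination this - hδ)
  · left
    simp only [not_forall] at h
    obtain ⟨x, hx, hxx⟩ := h
    obtain ⟨c, hc⟩ := exists_norm_eq hF (t := (herm q x x)⁻¹)
      (by rw [inv_pow, herm_self_fixed hF])
    refine ⟨c • x, T.smul_mem c hx, ?_⟩
    rw [herm_smul_left, herm_smul_right hF, ← mul_assoc, ← pow_succ', hc, inv_mul_cancel₀ hxx]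

/-- Orthonormal pairs together with a totally isotropic orthogonal subspace. -/
theorem finrank_bound_pair {T : Submodule F (Fin n → F)} {a b : Fin n → F}
    (hT : ∀ x ∈ T, ∀ y ∈ T, herm q x y = 0) (ha : ∀ x ∈ T, herm q x a = 0)
    (hb : ∀ x ∈ T, herm q x b = 0) (hab : LinearIndependent F ![a, b])
    (hd : Disjoint T (Submodule.span F (Set.range ![a, b]))) :
    2 * Module.finrank F T + 2 ≤ n := by
  have h := finrank_add_le hF (Y := T ⊔ Submodule.span F (Set.range ![a, b])) (T := T)
    (fun y hy t ht => by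
      obtain ⟨t', ht', s, hs, rfl⟩ := Submodule.mem_sup.1 hy
      rw [herm_add_left, hT t' ht' t ht, zero_add]
      clear hy
      induction hs using Submodule.span_induction with
      | mem x hx =>
        obtain ⟨i, rfl⟩ := hx
        rw [herm_eq_zero_comm hF]
        fin_cases i
        · exact ha t ht
        · exact hb t ht
      | zero => exact (herm_eq_zero_comm hF).2 (herm_zero_right hF t)
      | add x y _ _ hx hy => rw [herm_add_left, hx, hy, add_zero]
      | smul c x _ hx => rw [herm_smul_left, hx, mul_zero])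
  have h1 := Submodule.finrank_sup_add_finrank_inf_eq T (Submodule.span F (Set.range ![a, b]))
  rw [hd.eq_bot, finrank_bot, finrank_span_eq_card hab, Fintype.card_fin] at h1
  omega

/-- Two orthogonal norm-one vectors and a totally isotropic subspace orthogonal to both. -/
theorem finrank_bound_orthonormal {T : Submodule F (Fin n → F)} {a b : Fin n → F}
    (hT : ∀ x ∈ T, ∀ y ∈ T, herm q x y = 0) (ha : ∀ x ∈ T, herm q x a = 0)
    (hb : ∀ x ∈ T, herm q x b = 0) (haa : herm q a a = 1) (hbb : herm q b b = 1)
    (hab : herm q a b = 0) : 2 * Module.finrank F T + 2 ≤ n := by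
  have hba : herm q b a = 0 := (herm_eq_zero_comm hF).1 hab
  have coeff : ∀ c d : F, herm q (c • a + d • b) a = c ∧ herm q (c • a + d • b) b = d := fun c d => by
    constructor <;> simp [herm_add_left, herm_smul_left, haa, hbb, hab, hba]
  have h0 : ∀ z : Fin n → F, herm q (0 : Fin n → F) z = 0 := fun z =>
    (herm_eq_zero_comm hF).2 (herm_zero_right hF z)
  refine finrank_bound_pair hF hT ha hb (LinearIndependent.pair_iff.2 fun c d h => ?_) ?_
  · obtain ⟨h1, h2⟩ := coeff c d
    rw [h, h0] at h1 h2
    exact ⟨h1.symm, h2.symm⟩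
  · rw [Submodule.disjoint_def]
    intro x hx hxs
    rw [Matrix.range_cons, Matrix.range_cons, Matrix.range_empty, Set.union_empty,
      Set.singleton_union] at hxs
    obtain ⟨c, d, rfl⟩ := Submodule.mem_span_pair.1 hxs
    obtain ⟨h1, h2⟩ := coeff c d
    rw [ha _ hx] at h1
    rw [hb _ hx] at h2
    simp [← h1, ← h2]

/-- A norm-one vector orthogonal to two others. -/
theorem exists_norm_one_perp₂ (hn : 4 ≤ n) {a : Fin n → F} (b : Fin n → F)
    (haa : herm q a a = 1) :
    ∃ w : Fin n → F, herm q w w = 1 ∧ herm q w a = 0 ∧ herm q w b = 0 := by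
  rcases norm_one_or_isotropic hF (perp (q := q) ![a, b]) with ⟨w, hw, hww⟩ | hT
  · exact ⟨w, hww, mem_perp.1 hw 0, mem_perp.1 hw 1⟩
  exfalso
  set T := perp (q := q) ![a, b]
  have h := finrank_add_le hF (Y := T ⊔ Submodule.span F {a}) (T := T) (fun y hy t ht => by
    obtain ⟨t', ht', s, hs, rfl⟩ := Submodule.mem_sup.1 hy
    obtain ⟨c, rfl⟩ := Submodule.mem_span_singleton.1 hs
    rw [herm_add_left, hT t' ht' t ht, herm_smul_left,
      (herm_eq_zero_comm hF).1 (show herm q t a = 0 from mem_perp.1 ht 0), mul_zero, add_zero])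
  have h1 := Submodule.finrank_sup_add_finrank_inf_eq T (Submodule.span F {a})
  have hd : T ⊓ Submodule.span F {a} = ⊥ := by
    rw [← disjoint_iff, Submodule.disjoint_def]
    intro x hx hxs
    obtain ⟨c, rfl⟩ := Submodule.mem_span_singleton.1 hxs
    have h' : herm q (c • a) a = 0 := mem_perp.1 hx 0
    rw [herm_smul_left, haa, mul_one] at h'
    rw [h', zero_smul]
  have ha0 : a ≠ 0 := fun e => by
    rw [e, herm_zero_right hF] at haa
    exact zero_ne_one haa
  rw [hd, finrank_bot, finrank_span_singleton ha0] at h1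
  have h2 : n ≤ Module.finrank F T + 2 := le_finrank_perp _
  omega

/-- A norm-one vector orthogonal to two others and to an isotropic one. -/
theorem exists_norm_one_perp₃ (hn : 5 ≤ n) {a : Fin n → F} (b : Fin n → F) {u : Fin n → F}
    (haa : herm q a a = 1) (hu : herm q u u = 0) (hua : herm q u a ≠ 0) :
    ∃ w : Fin n → F, herm q w w = 1 ∧ herm q w a = 0 ∧ herm q w b = 0 ∧ herm q w u = 0 := by
  rcases norm_one_or_isotropic hF (perp (q := q) ![a, b, u]) with ⟨w, hw, hww⟩ | hT
  · exact ⟨w, hww, mem_perp.1 hw 0, mem_perp.1 hw 1, mem_perp.1 hw 2⟩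
  exfalso
  have h2 := le_finrank_perp (q := q) ![a, b, u]
  have hau : herm q a u ≠ 0 := fun h => hua ((herm_eq_zero_comm hF).1 h)
  have h1 := finrank_bound_pair hF (a := a) (b := u) hT (fun x hx => mem_perp.1 hx 0)
    (fun x hx => mem_perp.1 hx 2) (LinearIndependent.pair_iff.2 fun c d h => by
      have e1 := congrArg (fun z => herm q z u) h
      simp only [herm_add_left, herm_smul_left, hu, mul_zero, add_zero,
        (herm_eq_zero_comm hF).2 (herm_zero_right hF u)] at e1
      have hc : c = 0 := (mul_eq_zero.1 e1).resolve_right hau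
      have hu0 : u ≠ 0 := fun e => hau (by rw [e, herm_zero_right hF])
      rw [hc, zero_smul, zero_add, smul_eq_zero] at h
      exact ⟨hc, h.resolve_right hu0⟩) (by
      rw [Submodule.disjoint_def]
      intro x hx hxs
      rw [Matrix.range_cons, Matrix.range_cons, Matrix.range_empty, Set.union_empty,
        Set.singleton_union] at hxs
      obtain ⟨c, d, rfl⟩ := Submodule.mem_span_pair.1 hxs
      have e1 : herm q (c • a + d • u) u = 0 := mem_perp.1 hx 2
      have e2 : herm q (c • a + d • u) a = 0 := mem_perp.1 hx 0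
      simp only [herm_add_left, herm_smul_left, hu, mul_zero, add_zero] at e1
      have hc : c = 0 := (mul_eq_zero.1 e1).resolve_right hau
      simp only [herm_add_left, herm_smul_left, hc, zero_mul, zero_add] at e2
      rw [hc, (mul_eq_zero.1 e2).resolve_right hua]
      simp)
  omega

/-- Joining two norm-one vectors by a third one, both pairs being non-degenerate. -/
theorem exists_between (hn : 5 ≤ n) (hq : 7 ≤ n ∨ 3 ≤ q) {a b w w' : Fin n → F}
    (haa : herm q a a = 1) (hww : herm q w w = 1) (hww' : herm q w' w' = 1)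
    (hwa : herm q w a = 0) (hwb : herm q w b = 0) (hwa' : herm q w' a = 0) (hwb' : herm q w' b = 0)
    (hdeg : herm q w' w ^ (q + 1) = 1) :
    ∃ x : Fin n → F, herm q x x = 1 ∧ herm q x a = 0 ∧ herm q x b = 0 ∧
      herm q x w = 0 ∧ herm q x w' ^ (q + 1) ≠ 1 := by
  set c := herm q w' w with hc
  set r := w' - c • w with hr
  have hra : herm q r a = 0 := by rw [hr, herm_sub_left, herm_smul_left, hwa, hwa']; ring
  have hrb : herm q r b = 0 := by rw [hr, herm_sub_left, herm_smul_left, hwb, hwb']; ring
  have hrw : herm q r w = 0 := by rw [hr, herm_sub_left, herm_smul_left, hww, hc]; ring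
  have hrr : herm q r r = 0 := by
    have hwr : herm q w r = 0 := (herm_eq_zero_comm hF).1 hrw
    conv_lhs => arg 2; rw [hr]
    rw [herm_sub_left, herm_smul_left, hwr, mul_zero, sub_zero, hr, herm_sub_right hF,
      herm_smul_right hF, hww', ← hc, ← pow_succ, hdeg, sub_self]
  have hw'eq : w' = c • w + r := by rw [hr]; module
  have hxw' : ∀ x, herm q x w = 0 → herm q x w' = herm q x r := fun x hx => by
    conv_lhs => rw [hw'eq]
    rw [herm_add_right hF, herm_smul_right hF, hx, mul_zero, zero_add]
  rcases norm_one_or_isotropic hF (perp (q := q) ![a, b, w, r]) with ⟨x, hx, hxx⟩ | hT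
  · refine ⟨x, hxx, mem_perp.1 hx 0, mem_perp.1 hx 1, mem_perp.1 hx 2, ?_⟩
    rw [hxw' x (mem_perp.1 hx 2), show herm q x r = 0 from mem_perp.1 hx 3,
      zero_pow q.succ_ne_zero]
    exact zero_ne_one
  have hwa2 : herm q a w = 0 := (herm_eq_zero_comm hF).1 hwa
  by_cases h7 : 7 ≤ n
  · exfalso
    have h2 := le_finrank_perp (q := q) ![a, b, w, r]
    have h1 := finrank_bound_orthonormal hF (a := a) (b := w) hT (fun x hx => mem_perp.1 hx 0)
      (fun x hx => mem_perp.1 hx 2) haa hww hwa2
    omega
  have h3 : 3 ≤ q := hq.resolve_left h7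
  obtain ⟨s, hs, hrs⟩ : ∃ s ∈ perp (q := q) ![a, b, w], herm q s r ≠ 0 := by
    by_contra hcon
    simp only [not_exists, not_and, not_not] at hcon
    have h2 := le_finrank_perp (q := q) ![a, b, w]
    have hle : perp (q := q) ![a, b, w] ≤ perp (q := q) ![a, b, w, r] := fun x hx => by
      rw [mem_perp]
      intro i
      fin_cases i
      · exact mem_perp.1 hx 0
      · exact mem_perp.1 hx 1
      · exact mem_perp.1 hx 2
      · exact hcon x hx
    have h1 := finrank_bound_orthonormal hF (a := a) (b := w)
      (fun x hx y hy => hT x (hle hx) y (hle hy)) (fun x hx => mem_perp.1 hx 0)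
      (fun x hx => mem_perp.1 hx 2) haa hww hwa2
    omega
  set s₁ := (herm q s r)⁻¹ • s with hs1
  have hs1r : herm q s₁ r = 1 := by rw [hs1, herm_smul_left, inv_mul_cancel₀ hrs]
  have hrs1 : herm q r s₁ = 1 := herm_one_swap hF hs1r
  have hs1p : s₁ ∈ perp (q := q) ![a, b, w] := Submodule.smul_mem _ _ hs
  -- a scalar of norm `≠ 0, 1`
  obtain ⟨δ, hδ0, hδ1⟩ : ∃ δ : F, δ ≠ 0 ∧ δ ^ (q + 1) ≠ 1 := by
    classical
    by_contra hcon
    simp only [not_exists, not_and, not_not] at hcon
    have hsub : (Finset.univ : Finset Fˣ) ⊆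
        (Finset.univ.filter fun u : Fˣ => u ^ (q + 1) = 1) := fun u _ => by
      rw [Finset.mem_filter]
      exact ⟨Finset.mem_univ u, Units.ext (by simpa using hcon u u.ne_zero)⟩
    have h1 := Finset.card_le_card hsub
    rw [Finset.card_univ, Fintype.card_units, hF] at h1
    have h2 := IsCyclic.card_pow_eq_one_le (α := Fˣ) (n := q + 1) q.succ_pos
    have : q + 2 < q ^ 2 - 1 + 1 := by
      have : 3 * q ≤ q ^ 2 := by nlinarith
      omega
    omega
  obtain ⟨γ, hγ⟩ := exists_trace_eq hF (t := 1 - δ ^ (q + 1) * herm q s₁ s₁) (by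
    rw [sub_pow_q hF, one_pow, mul_pow, norm_fixed hF, herm_self_fixed hF])
  refine ⟨δ • s₁ + (γ / δ ^ q) • r, ?_, ?_, ?_, ?_, ?_⟩
  · simp only [herm_add_left, herm_add_right hF, herm_smul_left, herm_smul_right hF, hrr, hs1r,
      hrs1, mul_zero, mul_one, add_zero]
    have hδq : δ ^ q ≠ 0 := pow_ne_zero _ hδ0
    have e1 : γ / δ ^ q * δ ^ q = γ := div_mul_cancel₀ _ hδq
    have e2 : δ * (γ / δ ^ q) ^ q = γ ^ q := by
      rw [div_pow, pow_q_pow_q hF, mul_div_cancel₀ _ hδ0]
    rw [pow_succ'] at hγ
    linear_combination e1 + e2 + hγ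
  · rw [herm_add_left, herm_smul_left δ, herm_smul_left (γ / δ ^ q), hra,
      show herm q s₁ a = 0 from mem_perp.1 hs1p 0]
    ring
  · rw [herm_add_left, herm_smul_left δ, herm_smul_left (γ / δ ^ q), hrb,
      show herm q s₁ b = 0 from mem_perp.1 hs1p 1]
    ring
  · rw [herm_add_left, herm_smul_left δ, herm_smul_left (γ / δ ^ q), hrw,
      show herm q s₁ w = 0 from mem_perp.1 hs1p 2]
    ring
  · rw [hxw' _ (by
      rw [herm_add_left, herm_smul_left δ, herm_smul_left (γ / δ ^ q), hrw,
        show herm q s₁ w = 0 from mem_perp.1 hs1p 2]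
      ring), herm_add_left, herm_smul_left δ, herm_smul_left (γ / δ ^ q), hrr, hs1r, mul_zero, add_zero, mul_one]
    exact hδ1

end Cfsg.Agent.SuMult50
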