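import Cfsg.Agent.SuMult50.Frame
import Cfsg.Agent.CharB.PSLMult.Unitri

/-!
The reduction of the `p`-part of the multiplier to normalised complements over the radicals of the
coordinate frames (helper50).
-/

set_option autoImplicit false

namespace Cfsg.Agent.SuMult50

open Matrix Cfsg.Agent.Unitary Cfsg.Agent.CharB.PSLMult
open scoped commutatorElement

universe v

variable {F : Type v} [Field F] {n q : ℕ}

/-- The root elements on pairs and triples of coordinates outside `S`. -/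
def rootSet (S : Finset (Fin n)) : Set (SU n F q) :=
  {g | ∃ (R : Frame n F q) (w : Fin n → F) (b : F), R.IsQ g w b ∧ R.i ∉ S ∧ R.j ∉ S ∧
    (w = 0 ∨ ∃ (r : Fin n) (x : F), r ∉ R.pair ∧ r ∉ S ∧ w = x • eI r)}

/-- The group they generate. -/
def rootGrp (S : Finset (Fin n)) : Subgroup (SU n F q) := Subgroup.closure (rootSet S)

theorem rootGrp_anti {S T : Finset (Fin n)} (h : S ⊆ T) :
    (rootGrp T : Subgroup (SU n F q)) ≤ rootGrp S :=
  Subgroup.closure_mono fun _ ⟨R, w, b, hQ, hi, hj, hw⟩ =>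
    ⟨R, w, b, hQ, fun h' => hi (h h'), fun h' => hj (h h'),
      hw.imp id fun ⟨r, x, hr, hr', e⟩ => ⟨r, x, hr, fun h' => hr' (h h'), e⟩⟩

variable [Fintype F] (hF : Fintype.card F = q ^ 2)
include hF

theorem rootGrp_le_fixS (S : Finset (Fin n)) : (rootGrp S : Subgroup (SU n F q)) ≤ fixS S := by
  rw [rootGrp, Subgroup.closure_le]
  rintro g ⟨R, w, b, hQ, hi, hj, hw⟩
  refine mem_fixS.2 fun k hk => ?_
  have hkp : k ∈ ({R.i, R.j}ᶜ : Finset (Fin n)) := by
    simp only [Finset.mem_compl, Finset.mem_insert, Finset.mem_singleton]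
    rintro (rfl | rfl) <;> contradiction
  have hwk : w k = 0 := by
    rcases hw with rfl | ⟨r, x, -, hr, rfl⟩
    · rfl
    · have : k ≠ r := fun e => hr (e ▸ hk)
      simp [eI, this]
  rw [hQ, herm_eI_left, herm_eI_left, mem_supp.1 R.hu k hkp, hwk, zero_pow_q hF]
  simp

/-- The radical of the frame, outside `S`. -/
def Frame.qg (P : Frame n F q) (S : Finset (Fin n)) : Subgroup (SU n F q) where
  carrier := {g | ∃ (w : Fin n → F) (b : F), w ∈ supp (P.pair ∪ S) ∧ P.IsQ g w b}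
  one_mem' := ⟨0, 0, zero_mem _, P.isQ_one hF⟩
  mul_mem' := by
    rintro g g' ⟨w, b, hw, h⟩ ⟨w', b', hw', h'⟩
    exact ⟨w + w', _, add_mem hw hw',
      P.isQ_mul hF (supp_anti Finset.subset_union_left hw) (supp_anti Finset.subset_union_left hw')
        h h'⟩
  inv_mem' := by
    rintro g ⟨w, b, hw, h⟩
    exact ⟨-w, _, neg_mem hw, P.isQ_inv hF (supp_anti Finset.subset_union_left hw) h⟩

variable (P : Frame n F q)

theorem Frame.mem_qg {S : Finset (Fin n)} {g : SU n F q} :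
    g ∈ P.qg hF S ↔ ∃ (w : Fin n → F) (b : F), w ∈ supp (P.pair ∪ S) ∧ P.IsQ g w b :=
  Iff.rfl

theorem Frame.qg_le_empty (S : Finset (Fin n)) : P.qg hF S ≤ P.qg hF ∅ := by
  rintro g ⟨w, b, hw, h⟩
  exact ⟨w, b, supp_anti (by simp) hw, h⟩

theorem Frame.qg_le_of_gens {S : Finset (Fin n)} {H : Subgroup (SU n F q)}
    (hH : ∀ (w : Fin n → F) (b : F) (g : SU n F q), P.IsQ g w b →
      (w = 0 ∨ ∃ (r : Fin n) (x : F), r ∉ P.pair ∧ r ∉ S ∧ w = x • eI r) → g ∈ H) :
    P.qg hF S ≤ H := by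
  classical
  rintro g ⟨w, b, hw, hg⟩
  suffices h : ∀ (T : Finset (Fin n)) (w : Fin n → F) (b : F) (g : SU n F q),
      w ∈ supp (P.pair ∪ S) → (∀ k, k ∉ T → w k = 0) → P.IsQ g w b → g ∈ H from
    h Finset.univ w b g hw (fun k hk => absurd (Finset.mem_univ k) hk) hg
  intro T
  induction T using Finset.induction with
  | empty =>
    intro w b g _ h0 hg
    have : w = 0 := funext fun k => h0 k (Finset.notMem_empty k)
    exact hH w b g hg (Or.inl this)
  | insert r T _ ih =>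
    intro w b g hw h0 hg
    by_cases hr : w r = 0
    · exact ih w b g hw (fun k hk => if e : k = r then e ▸ hr else h0 k (by simp [e, hk])) hg
    have hrm : r ∉ P.pair ∪ S := fun h => hr (mem_supp.1 hw r h)
    rw [Finset.mem_union, not_or] at hrm
    set y : Fin n → F := w r • eI r with hy
    have hyS : y ∈ supp (P.pair ∪ S) :=
      Submodule.smul_mem _ _ (eI_mem_supp (by simpa using hrm))
    have hyP : y ∈ supp P.pair := supp_anti Finset.subset_union_left hyS
    obtain ⟨c, hc⟩ := exists_trace_eq hF (t := -herm q y y)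
      (by rw [neg_pow_q hF, herm_self_fixed hF])
    obtain ⟨g1, hg1⟩ := P.exists_isQ hF hyP hc
    have hg1m : g1 ∈ H := hH y c g1 hg1 (Or.inr ⟨r, w r, hrm.1, hrm.2, rfl⟩)
    have h2 := P.isQ_mul hF (neg_mem hyP) (supp_anti Finset.subset_union_left hw)
      (P.isQ_inv hF hyP hg1) hg
    have h2m : g1⁻¹ * g ∈ H := ih _ _ _ (add_mem (neg_mem hyS) hw) (fun k hk => by
      by_cases e : k = r
      · simp [e, hy, eI]
      · simp [hy, eI, e, h0 k (by simp [e, hk])]) h2
    rw [show g = g1 * (g1⁻¹ * g) by group]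
    exact mul_mem hg1m h2m

theorem Frame.qg_le_rootGrp {S : Finset (Fin n)} (hi : P.i ∉ S) (hj : P.j ∉ S) :
    P.qg hF S ≤ rootGrp S :=
  P.qg_le_of_gens hF fun w b _ hg hw => Subgroup.subset_closure ⟨P, w, b, hg, hi, hj, hw⟩

theorem Frame.qg_conj {S : Finset (Fin n)} {k g : SU n F q} (hk : k ∈ fixS (P.pair ∪ S))
    (hg : g ∈ P.qg hF S) : k * g * k⁻¹ ∈ P.qg hF S := by
  obtain ⟨w, b, hw, h⟩ := hg
  have hku : k • P.u = (1 : F) • P.u := by
    rw [one_smul, (P.fix_frame hF (g := k) (mem_fixS.2 fun i hi =>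
      mem_fixS.1 hk i (Finset.mem_union_left _ hi))).1]
  have := P.isQ_conj hF hku h
  rw [one_pow, one_smul, one_pow, one_mul] at this
  exact ⟨k • w, b, smul_mem_supp_SU hF hk hw, this⟩

theorem Frame.qg_inf {S : Finset (Fin n)} {g : SU n F q} (hg : g ∈ P.qg hF S)
    (hg' : g ∈ fixS (P.pair ∪ S)) : g = 1 := by
  obtain ⟨w, b, hw, h⟩ := hg
  have hwP : w ∈ supp P.pair := supp_anti Finset.subset_union_left hw
  have hf := (P.fix_frame hF (g := g) (mem_fixS.2 fun i hi =>
    mem_fixS.1 hg' i (Finset.mem_union_left _ hi))).2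
  rw [P.isQ_f hF hwP h, add_eq_left] at hf
  have hb : b = 0 := by
    have := congrArg (fun z => herm q z P.f) hf
    simpa [herm_add_left, herm_smul_left, (P.perp_f hF hwP).1, P.huf,
      (herm_eq_zero_comm hF).2 (herm_zero_right hF P.f)] using this
  rw [hb, zero_smul, add_zero] at hf
  rw [hf, hb] at h
  exact P.isQ_unique h (P.isQ_one hF)

theorem Frame.card_qg (S : Finset (Fin n)) :
    Nat.card (P.qg hF S) = q ^ (2 * (P.pair ∪ S)ᶜ.card + 1) := by
  classical
  set A := P.pair ∪ S with hA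
  have hex : ∀ w : ↥(supp A : Submodule F (Fin n → F)), ∃ b : F,
      b + b ^ q = -herm q (w : Fin n → F) w := fun w =>
    exists_trace_eq hF (by rw [neg_pow_q hF, herm_self_fixed hF])
  choose b0 hb0 using hex
  let K := {c : F // c + c ^ q = 0}
  have hwP : ∀ w : ↥(supp A : Submodule F (Fin n → F)), (w : Fin n → F) ∈ supp P.pair := fun w =>
    supp_anti Finset.subset_union_left w.2
  have hel : ∀ p : ↥(supp A : Submodule F (Fin n → F)) × K,
      ∃ g : SU n F q, P.IsQ g p.1.1 (b0 p.1 + p.2.1) := fun p =>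
    P.exists_isQ hF (hwP p.1) (by
      rw [add_pow_q hF]
      linear_combination hb0 p.1 + p.2.2)
  choose el hel using hel
  let φ : ↥(supp A : Submodule F (Fin n → F)) × K → P.qg hF S := fun p =>
    ⟨el p, p.1.1, _, p.1.2, hel p⟩
  have hφ : Function.Bijective φ := by
    refine ⟨fun p p' h => ?_, fun g => ?_⟩
    · have he : el p = el p' := congrArg Subtype.val h
      obtain ⟨h1, h2⟩ := P.isQ_inj hF (hwP p.1) (hwP p'.1) (hel p) (he ▸ hel p')
      have hp1 : p.1 = p'.1 := Subtype.ext h1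
      refine Prod.ext hp1 (Subtype.ext ?_)
      rw [hp1] at h2
      exact add_left_cancel h2
    · obtain ⟨g, w, b, hw, h⟩ := g
      have hb := P.isQ_trace hF (supp_anti Finset.subset_union_left hw) h
      refine ⟨(⟨w, hw⟩, ⟨b - b0 ⟨w, hw⟩, ?_⟩), Subtype.ext (P.isQ_unique (hel _) ?_)⟩
      · rw [sub_pow_q hF]
        linear_combination hb - hb0 ⟨w, hw⟩
      · show P.IsQ g w (b0 ⟨w, hw⟩ + (b - b0 ⟨w, hw⟩))
        rwa [add_sub_cancel]
  rw [← Nat.card_congr (Equiv.ofBijective φ hφ), Nat.card_prod, card_trace_ker hF, pow_succ]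
  congr 1
  have e : ↥(supp A : Submodule F (Fin n → F)) ≃ ({i // i ∉ A} → F) :=
    { toFun := fun w i => w.1 i.1
      invFun := fun w => ⟨fun i => if h : i ∈ A then 0 else w ⟨i, h⟩, fun i hi => by simp [hi]⟩
      left_inv := fun w => Subtype.ext (funext fun i => by
        by_cases h : i ∈ A
        · simp [h, mem_supp.1 w.2 i h]
        · simp [h])
      right_inv := fun w => funext fun i => by simp [i.2] }
  rw [Nat.card_congr e, Nat.card_fun, Nat.card_eq_fintype_card (α := F), hF, ← pow_mul]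
  congr 2
  rw [Nat.card_eq_fintype_card, Fintype.card_subtype]
  congr 1
  ext
  simp

/-- A complement over the radical, normalised by the preimage of the root elements. -/
def HasQComplement {Γ : Type v} [Group Γ] (σ : Γ →* SU n F q) : Prop :=
  ∃ X : Subgroup Γ, (∀ x ∈ X, σ x = 1 → x = 1) ∧ X.map σ = P.qg hF ∅ ∧
    ∀ k, σ k ∈ rootGrp P.pair → ∀ x ∈ X, k * x * k⁻¹ ∈ X

variable {Γ : Type v} [Group Γ] {σ : Γ →* SU n F q}

theorem exists_unipotent (hQ : ∀ P : Frame n F q, HasQComplement hF P σ) :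
    ∀ (k : ℕ) (S : Finset (Fin n)), Sᶜ.card = k → ∃ H : Subgroup Γ,
      H ≤ (rootGrp S).comap σ ∧ (∀ h ∈ H, σ h = 1 → h = 1) ∧
        Nat.card H = q ^ (k * (k - 1) / 2) := by
  classical
  intro k
  induction k using Nat.strong_induction_on with
  | _ k ih =>
    intro S hS
    by_cases hk : k < 2
    · refine ⟨⊥, bot_le, fun h hh _ => Subgroup.mem_bot.1 hh, ?_⟩
      obtain rfl | rfl : k = 0 ∨ k = 1 := by omega
      all_goals simp
    obtain ⟨k, rfl⟩ : ∃ m, k = m + 2 := ⟨k - 2, by omega⟩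
    obtain ⟨i, j, hij, hsub⟩ : ∃ i j, i ≠ j ∧ ({i, j} : Finset (Fin n)) ⊆ Sᶜ := by
      obtain ⟨T, hT, hTc⟩ := Finset.exists_subset_card_eq (show 2 ≤ Sᶜ.card by omega)
      obtain ⟨i, j, hij, rfl⟩ := Finset.card_eq_two.1 hTc
      exact ⟨i, j, hij, hT⟩
    obtain ⟨u, f, hu, hf, huu, hff, huf⟩ := exists_std_pair hF hij
    let P : Frame n F q := ⟨i, j, u, f, hij, hu, hf, huu, hff, huf⟩
    have hiS : i ∉ S := Finset.mem_compl.1 (hsub (by simp))
    have hjS : j ∉ S := Finset.mem_compl.1 (hsub (by simp))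
    have hins : (P.pair ∪ S)ᶜ.card = k := by
      have hd : Disjoint ({i, j} : Finset (Fin n)) S := by
        rw [Finset.disjoint_left]
        intro a ha
        exact Finset.mem_compl.1 (hsub ha)
      have h1 : ({i, j} ∪ S : Finset (Fin n)).card = 2 + S.card := by
        rw [Finset.card_union_of_disjoint hd, Finset.card_pair hij]
      rw [Finset.card_compl] at hS ⊢
      show Fintype.card (Fin n) - ({i, j} ∪ S).card = k
      omega
    obtain ⟨H, hH, hH1, hHc⟩ := ih k (by omega) _ hins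
    obtain ⟨X, hX1, hX2, hX3⟩ := hQ P
    set Y : Subgroup Γ := X ⊓ (P.qg hF S).comap σ with hY
    have hnorm : ∀ h ∈ H, ∀ x ∈ Y, h * x * h⁻¹ ∈ Y := by
      rintro h hh x ⟨hxX, hxQ⟩
      refine ⟨hX3 h (rootGrp_anti Finset.subset_union_left (hH hh)) x hxX, ?_⟩
      show σ (h * x * h⁻¹) ∈ P.qg hF S
      rw [map_mul, map_mul, map_inv]
      exact P.qg_conj hF (rootGrp_le_fixS hF _ (hH hh)) hxQ
    have hdis : ∀ x ∈ Y, ∀ h ∈ H, σ x * σ h = 1 → σ x = 1 := by
      rintro x ⟨-, hxQ⟩ h hh e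
      refine P.qg_inf hF hxQ ?_
      rw [eq_inv_of_mul_eq_one_left e]
      exact inv_mem (rootGrp_le_fixS hF _ (hH hh))
    have hY1 : ∀ x ∈ Y, σ x = 1 → x = 1 := fun x hx => hX1 x hx.1
    obtain ⟨g1, -, g3⟩ := glue σ hnorm hY1 hH1 hdis
    refine ⟨Y ⊔ H, sup_le ?_ ?_, g1, ?_⟩
    · exact inf_le_right.trans (Subgroup.comap_mono (P.qg_le_rootGrp hF hiS hjS))
    · exact hH.trans (Subgroup.comap_mono (rootGrp_anti Finset.subset_union_right))
    · have hYc : Nat.card Y = Nat.card (P.qg hF S) := by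
        refine Nat.card_congr (Equiv.ofBijective
          (fun y : Y => (⟨σ y, y.2.2⟩ : P.qg hF S)) ⟨?_, ?_⟩)
        · rintro ⟨a, ha⟩ ⟨b, hb⟩ e
          have e' : σ a = σ b := congrArg Subtype.val e
          exact Subtype.ext (mul_inv_eq_one.1 (hY1 _ (mul_mem ha (inv_mem hb)) (by simp [e'])))
        · rintro ⟨g, hg⟩
          obtain ⟨x, hx, rfl⟩ : g ∈ X.map σ := hX2 ▸ P.qg_le_empty hF S hg
          exact ⟨⟨x, hx, hg⟩, rfl⟩
      rw [g3, hYc, hHc, P.card_qg hF, hins, ← pow_add]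
      congr 1
      have e1 : (k + 2) * (k + 2 - 1) / 2 = (k + 1) + (k + k * (k - 1) / 2) := by
        rw [← Finset.sum_range_id, ← Finset.sum_range_id, Finset.sum_range_succ,
          Finset.sum_range_succ]
        omega
      omega

/-- The characteristic does not divide the multiplier, given complements over every radical. -/
theorem not_dvd_card_ker [Finite Γ] {p : ℕ} [CharP F p] (hn : 1 ≤ n) (hp : p.Prime)
    (hσ : Cfsg.IsStemExtension σ) (hQ : ∀ P : Frame n F q, HasQComplement hF P σ) :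
    ¬ p ∣ Nat.card σ.ker := by
  classical
  obtain ⟨H, -, hinj, hcard⟩ := exists_unipotent hF hQ n ∅ (by simp)
  have hUc : Nat.card (H.map σ) = q ^ (n * (n - 1) / 2) := by
    rw [← hcard]
    refine (Nat.card_congr (Equiv.ofBijective
      (fun h : H => (⟨σ h, h, h.2, rfl⟩ : ↥(H.map σ))) ⟨?_, ?_⟩)).symm
    · rintro ⟨a, ha⟩ ⟨b, hb⟩ e
      have e' : σ a = σ b := congrArg Subtype.val e
      exact Subtype.ext (mul_inv_eq_one.1 (hinj _ (mul_mem ha (inv_mem hb)) (by simp [e'])))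
    · rintro ⟨_, a, ha, rfl⟩
      exact ⟨⟨a, ha⟩, rfl⟩
  refine not_dvd_of_subgroup hσ hp (H.map σ) ?_ fun z hz hzH _ =>
    ker_comm_of_split ⟨hσ.1, hσ.2.1⟩ hinj le_rfl z hz hzH
  have hidx := (H.map σ).card_mul_index
  have hq0 := q_pos hF
  rw [hUc] at hidx
  have h2 : q ^ (n * (n - 1) / 2) * ((q + 1) * (H.map σ).index) =
      q ^ (n * (n - 1) / 2) * ∏ i ∈ Finset.range n,
        (if Even i then q ^ (i + 1) + 1 else q ^ (i + 1) - 1) := by
    rw [← card_GU hF n, ← card_SU_mul hF hn, ← hidx]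
    ring
  have h3 := Nat.eq_of_mul_eq_mul_left (pow_pos hq0 _) h2
  intro hd
  obtain ⟨i, -, hi⟩ := (Prime.dvd_finsetProd_iff hp.prime _).1 (h3 ▸ hd.mul_left (q + 1))
  obtain ⟨p', k, hp', hk, hchar, hqk⟩ := exists_prime_pow hF
  obtain rfl : p = p' := CharP.eq F (by assumption : CharP F p) hchar
  have hpi : p ∣ q ^ (i + 1) := dvd_pow (hqk ▸ dvd_pow_self p hk.ne') i.succ_ne_zero
  have h1 : 1 ≤ q ^ (i + 1) := Nat.one_le_pow _ _ hq0
  split_ifs at hi
  · exact hp.not_dvd_one ((Nat.dvd_add_right hpi).1 hi)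
  · have h4 := Nat.dvd_sub hpi hi
    rw [Nat.sub_sub_self h1] at h4
    exact hp.not_dvd_one h4

end Cfsg.Agent.SuMult50
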