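import Cfsg.Agent.CharB.PSLMult.Lifts
import Cfsg.Agent.CharB.PSLMult.PPrimeStep
import Cfsg.Agent.Lib.Schur.Transfer
import Mathlib.GroupTheory.Perm.Cycle.Type
import Mathlib.GroupTheory.Commutator.Basic
import Mathlib.GroupTheory.Abelianization.Defs
import Mathlib.RingTheory.IntegralDomain

/-!
Killing the part prime to `p` of a multiplier prime by prime: subgroups of index prime to `l` over
which the kernel avoids the commutators (helper50).
-/

set_option autoImplicit false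

namespace Cfsg.Agent.SuMult50

open Subgroup Cfsg.Agent.CharB.PSLMult
open scoped commutatorElement

universe u v

variable {Γ : Type u} [Group Γ] {G : Type v} [Group G] {σ : Γ →* G} {p : ℕ}

/-- The transfer criterion, one extension at a time. -/
theorem not_dvd_of_subgroup [Finite Γ] (hσ : Cfsg.IsStemExtension σ) {l : ℕ} (hl : l.Prime)
    (H : Subgroup G) (hidx : ¬ l ∣ H.index)
    (h : ∀ z ∈ σ.ker, z ∈ ⁅H.comap σ, H.comap σ⁆ → z ^ l = 1 → z = 1) :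
    ¬ l ∣ Nat.card σ.ker := by
  intro hd
  have := Fact.mk hl
  obtain ⟨⟨w, hw⟩, hord⟩ := exists_prime_orderOf_dvd_card' l hd
  rw [Subgroup.orderOf_mk] at hord
  have hmem := Cfsg.Agent.Schur.pow_index_mem_commutator (H.comap σ) (hσ.2.1 hw) (hσ.2.2 hw)
  rw [Subgroup.map_subtype_commutator, Subgroup.index_comap_of_surjective H hσ.1] at hmem
  have h1 := h _ (pow_mem hw _) hmem (by
    rw [← pow_mul, mul_comm, pow_mul, ← hord, pow_orderOf_eq_one, one_pow])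
  exact hidx (hord ▸ orderOf_dvd_of_pow_eq_one h1)

/-- An extension generated by `p`-elements with kernel prime to `p` is a stem extension. -/
theorem stem_of_gen (E : PExt p σ) (hgen : Subgroup.closure {g : Γ | Pel p g} = ⊤) :
    Cfsg.IsStemExtension σ := by
  refine ⟨E.surj, E.central, fun z hz => ?_⟩
  rw [← Abelianization.ker_of Γ, MonoidHom.mem_ker]
  have hall : ∀ g : Γ, Pel p (Abelianization.of g) := by
    intro g
    have hg : g ∈ Subgroup.closure {g : Γ | Pel p g} := hgen ▸ Subgroup.mem_top g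
    induction hg using Subgroup.closure_induction with
    | mem x hx => exact hx.map _
    | one => rw [map_one]; exact pel_one
    | mul a b _ _ ha hb => rw [map_mul]; exact ha.mul hb (Commute.all _ _)
    | inv a _ ha => rw [map_inv]; exact ha.inv
  obtain ⟨k, hk⟩ := hall z
  have h1 : z ^ Nat.card σ.ker = 1 :=
    congrArg Subtype.val (pow_card_eq_one' (x := (⟨z, hz⟩ : σ.ker)))
  have h2 : Abelianization.of z ^ Nat.card σ.ker = 1 := by rw [← map_pow, h1, map_one]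
  have hco : Nat.Coprime (p ^ k) (Nat.card σ.ker) :=
    ((E.prime.coprime_iff_not_dvd).2 E.coprime).pow_left k
  have h3 := pow_gcd_eq_one.2 ⟨hk, h2⟩
  rwa [hco.gcd_eq_one, pow_one] at h3

/-- The kernel is trivial once no prime other than `p` divides its order. -/
theorem ker_eq_bot_of_primes [Finite Γ] (E : PExt p σ)
    (h : ∀ l : ℕ, l.Prime → l ≠ p → ¬ l ∣ Nat.card σ.ker) : σ.ker = ⊥ := by
  rw [← Subgroup.card_eq_one]
  by_contra hne
  obtain ⟨l, hl, hd⟩ := Nat.exists_prime_and_dvd hne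
  by_cases hlp : l = p
  · exact E.coprime (hlp ▸ hd)
  · exact h l hl hlp hd

/-- The lifts of a subgroup with trivial multiplier part prime to `p`. -/
theorem hat_props [Finite Γ] (E : PExt p σ) (X : Subgroup G) (hX : PTriv.{u, v} p X)
    (hgen : Subgroup.closure {x : X | Pel p x} = ⊤) :
    (∀ g ∈ hat p σ X, σ g = 1 → g = 1) ∧ (hat p σ X).map σ = X := by
  set H := hat p σ X with hH
  have hsurj : H.map σ = X := by
    refine E.map_hat (S := Subtype.val '' {x : X | Pel p x}) ?_ ?_ ?_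
    · have e : Subgroup.closure (X.subtype '' {x : X | Pel p x}) = X := by
        rw [← MonoidHom.map_closure X.subtype, hgen, ← MonoidHom.range_eq_map, Subgroup.range_subtype]
      exact e.ge
    · rintro _ ⟨x, -, rfl⟩; exact x.2
    · rintro _ ⟨x, hx, rfl⟩; exact hx.map X.subtype
  refine ⟨?_, hsurj⟩
  let τ : H →* X := (σ.comp H.subtype).codRestrict _ fun x => hat_le_comap (σ := σ) _ x.2
  have hker : ∀ x : H, x ∈ τ.ker ↔ (x : Γ) ∈ σ.ker := fun x => by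
    rw [MonoidHom.mem_ker, MonoidHom.mem_ker]
    exact ⟨fun h => congrArg Subtype.val h, fun h => Subtype.ext h⟩
  have Eτ : PExt p τ := by
    refine ⟨E.prime, fun y => ?_, fun x hx => ?_, fun hd => E.coprime ?_⟩
    · obtain ⟨x, hx, he⟩ : (y : G) ∈ H.map σ := hsurj.symm ▸ y.2
      exact ⟨⟨x, hx⟩, Subtype.ext he⟩
    · rw [Subgroup.mem_center_iff]
      intro y
      exact Subtype.ext (Subgroup.mem_center_iff.1 (E.central ((hker x).1 hx)) y)
    · refine hd.trans (Subgroup.card_dvd_of_injective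
        ((H.subtype.comp τ.ker.subtype).codRestrict σ.ker fun x => (hker x).1 x.2) ?_)
      intro a b hab
      exact Subtype.ext (Subtype.ext (congrArg Subtype.val hab :))
  have hgenH : Subgroup.closure {x : H | Pel p x} = ⊤ := by
    rw [eq_top_iff]
    refine le_trans (le_of_eq Subgroup.closure_closure_coe_preimage.symm) (Subgroup.closure_mono ?_)
    rintro ⟨x, hx⟩ ⟨⟨k, hk⟩, _⟩
    exact ⟨k, Subtype.ext hk⟩
  have hbot : τ.ker = ⊥ := hX H τ Eτ hgenH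
  intro g hg h1
  have hm : (⟨g, hg⟩ : H) ∈ τ.ker := (hker _).2 h1
  rw [hbot, Subgroup.mem_bot] at hm
  exact congrArg Subtype.val hm

theorem hat_conj {X : Subgroup G} {g : Γ} (hg : ∀ x ∈ X, σ g * x * (σ g)⁻¹ ∈ X) {k : Γ}
    (hk : k ∈ hat p σ X) : g * k * g⁻¹ ∈ hat p σ X := by
  induction hk using Subgroup.closure_induction with
  | mem x hx =>
    refine mem_hat (hx.1.conj g) ?_
    rw [map_mul, map_mul, map_inv]
    exact hg _ hx.2
  | one => simp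
  | mul a b _ _ ha hb =>
    rw [show g * (a * b) * g⁻¹ = g * a * g⁻¹ * (g * b * g⁻¹) by group]
    exact mul_mem ha hb
  | inv a _ ha =>
    rw [show g * a⁻¹ * g⁻¹ = (g * a * g⁻¹)⁻¹ by group]
    exact inv_mem ha

/-- Commutators inside a group generated by elements commuting modulo a normalised subgroup. -/
theorem commutator_closure_le (S : Set Γ) (M : Subgroup Γ)
    (hn : ∀ s ∈ S, ∀ x ∈ M, s * x * s⁻¹ ∈ M) (hn' : ∀ s ∈ S, ∀ x ∈ M, s⁻¹ * x * s ∈ M)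
    (hc : ∀ s ∈ S, ∀ t ∈ S, ⁅s, t⁆ ∈ M) : ⁅closure S, closure S⁆ ≤ M := by
  have hN : closure S ≤ normalizer (M : Set Γ) := by
    rw [closure_le]
    intro s hs
    rw [SetLike.mem_coe, mem_normalizer_iff]
    refine fun x => ⟨hn s hs x, fun h => ?_⟩
    have := hn' s hs _ h
    rwa [show s⁻¹ * (s * x * s⁻¹) * s = x by group] at this
  have conjM : ∀ a ∈ closure S, ∀ x ∈ M, a * x * a⁻¹ ∈ M := fun a ha x hx =>
    (mem_normalizer_iff.1 (hN ha) x).1 hx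
  have main : ∀ (t : Γ), t ∈ closure S → (∀ s ∈ S, ⁅s, t⁆ ∈ M) →
      ∀ a ∈ closure S, ⁅a, t⁆ ∈ M := by
    intro t _ h a ha
    induction ha using closure_induction with
    | mem s hs => exact h s hs
    | one => rw [commutatorElement_one_left]; exact one_mem M
    | mul a b ha _ hat hbt =>
      rw [show ⁅a * b, t⁆ = a * ⁅b, t⁆ * a⁻¹ * ⁅a, t⁆ by simp only [commutatorElement_def]; group]
      exact mul_mem (conjM a ha _ hbt) hat
    | inv a ha hat =>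
      rw [show ⁅a⁻¹, t⁆ = a⁻¹ * ⁅a, t⁆⁻¹ * (a⁻¹)⁻¹ by simp only [commutatorElement_def]; group]
      exact conjM _ (inv_mem ha) _ (inv_mem hat)
  rw [commutator_le]
  intro a ha b hb
  refine main b hb (fun s hs => ?_) a ha
  have h1 : ⁅b, s⁆ ∈ M := main s (Subgroup.subset_closure hs) (fun r hr => hc r hr s hs) b hb
  rw [← commutatorElement_inv]
  exact inv_mem h1

/-- A complement over `H` avoids the kernel on commutators. -/
theorem ker_comm_of_split (E : CEx σ) {H : Subgroup G} {K : Subgroup Γ}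
    (hK1 : ∀ g ∈ K, σ g = 1 → g = 1) (hKH : H ≤ K.map σ) :
    ∀ z ∈ σ.ker, z ∈ ⁅H.comap σ, H.comap σ⁆ → z = 1 := by
  intro z hz hzH
  have hle : ⁅H.comap σ, H.comap σ⁆ ≤ K := by
    rw [Subgroup.commutator_le]
    intro a ha b hb
    obtain ⟨a', ha', ea⟩ := hKH ha
    obtain ⟨b', hb', eb⟩ := hKH hb
    rw [E.cm_eq, ← ea, ← eb, ← E.cm_eq, commutatorElement_def]
    exact mul_mem (mul_mem (mul_mem ha' hb') (inv_mem ha')) (inv_mem hb')
  exact hK1 z (hle hzH) hz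

/-- A complement over the kernel of a character with cyclic values. -/
theorem ker_comm_of_cyclic (E : CEx σ) {H : Subgroup G} {A : Type v} [Group A] (χ : H →* A)
    [IsCyclic χ.range] {K : Subgroup Γ} (hK1 : ∀ g ∈ K, σ g = 1 → g = 1)
    (hKker : ∀ x : H, χ x = 1 → (x : G) ∈ K.map σ)
    (hKn : ∀ a ∈ H.comap σ, ∀ k ∈ K, a * k * a⁻¹ ∈ K) :
    ∀ z ∈ σ.ker, z ∈ ⁅H.comap σ, H.comap σ⁆ → z = 1 := by
  intro z hz hzH
  obtain ⟨⟨g₀, x₀, hx₀⟩, hgen⟩ := IsCyclic.exists_generator (α := χ.range)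
  set h := E.s (x₀ : G) with hh
  have hhH : h ∈ H.comap σ := by
    show σ h ∈ H
    rw [hh, E.map_s]
    exact x₀.2
  have hclo : H.comap σ ≤ closure ((K : Set Γ) ∪ {h} ∪ (center Γ : Set Γ)) := by
    intro a ha
    obtain ⟨i, hi⟩ := Subgroup.mem_zpowers_iff.1 (hgen ⟨χ ⟨σ a, ha⟩, _, rfl⟩)
    have hi' : χ x₀ ^ i = χ ⟨σ a, ha⟩ := by
      rw [hx₀]
      exact congrArg Subtype.val hi
    obtain ⟨k, hk, hk'⟩ := hKker (⟨σ a, ha⟩ * (x₀ ^ i)⁻¹) (by
      rw [map_mul, map_inv, map_zpow, hi', mul_inv_cancel])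
    have hz' : (k * h ^ i)⁻¹ * a ∈ center Γ := E.central (by
      rw [MonoidHom.mem_ker, map_mul, map_inv, map_mul, map_zpow, hk', hh, E.map_s]
      simp [mul_assoc])
    have m1 : k ∈ closure ((K : Set Γ) ∪ {h} ∪ (center Γ : Set Γ)) :=
      Subgroup.subset_closure (Or.inl (Or.inl hk))
    have m2 : h ∈ closure ((K : Set Γ) ∪ {h} ∪ (center Γ : Set Γ)) :=
      Subgroup.subset_closure (Or.inl (Or.inr rfl))
    have m3 : (k * h ^ i)⁻¹ * a ∈ closure ((K : Set Γ) ∪ {h} ∪ (center Γ : Set Γ)) :=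
      Subgroup.subset_closure (Or.inr hz')
    rw [show a = k * h ^ i * ((k * h ^ i)⁻¹ * a) by group]
    exact mul_mem (mul_mem m1 (zpow_mem m2 i)) m3
  have hle : ⁅H.comap σ, H.comap σ⁆ ≤ K := by
    refine (Subgroup.commutator_mono hclo hclo).trans (commutator_closure_le _ K ?_ ?_ ?_)
    · rintro s ((hs | rfl) | hs) x hx
      · exact mul_mem (mul_mem hs hx) (inv_mem hs)
      · exact hKn _ hhH x hx
      · rw [← Subgroup.mem_center_iff.1 hs x, mul_inv_cancel_right]; exact hx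
    · rintro s ((hs | rfl) | hs) x hx
      · exact mul_mem (mul_mem (inv_mem hs) hx) hs
      · simpa using hKn _ (inv_mem hhH) x hx
      · rw [mul_assoc, Subgroup.mem_center_iff.1 hs x, inv_mul_cancel_left]; exact hx
    · have hcr : ∀ s t : Γ, t ∈ center Γ → ⁅s, t⁆ ∈ K := fun s t ht => by
        rw [commutatorElement_eq_one_iff_mul_comm.2 (Subgroup.mem_center_iff.1 ht s)]
        exact one_mem K
      have hcl : ∀ s t : Γ, s ∈ center Γ → ⁅s, t⁆ ∈ K := fun s t hs => by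
        rw [← commutatorElement_inv]; exact inv_mem (hcr t s hs)
      have hkh : ∀ k ∈ K, ⁅h, k⁆ ∈ K := fun k hk => by
        rw [commutatorElement_def]
        exact mul_mem (hKn _ hhH k hk) (inv_mem hk)
      rintro s ((hs | rfl) | hs) t ((ht | rfl) | ht)
      · rw [commutatorElement_def]
        exact mul_mem (mul_mem (mul_mem hs ht) (inv_mem hs)) (inv_mem ht)
      · rw [← commutatorElement_inv]; exact inv_mem (hkh s hs)
      · exact hcr _ _ ht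
      · exact hkh t ht
      · rw [commutatorElement_self]; exact one_mem K
      · exact hcr _ _ ht
      all_goals exact hcl _ _ hs
  exact hK1 z (hle hzH) hz

/-- Elements of odd order of the kernel avoid the commutators over `T ⋊ ⟨s₁, s₂⟩`, `T` having
commuting lifts up to involutions. -/
theorem ker_comm_of_blocks (E : CEx σ) {H T : Subgroup G} {s₁ s₂ : G}
    (hH : H ≤ closure ((T : Set G) ∪ {s₁, s₂}))
    (hT : ∀ x ∈ T, ∀ y ∈ T, Commute x y) (hc : ∀ x ∈ T, ∀ y ∈ T, E.cm x y ^ 2 = 1)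
    (h1 : ∀ x ∈ T, s₁ * x * s₁⁻¹ ∈ T) (h1' : ∀ x ∈ T, s₁⁻¹ * x * s₁ ∈ T)
    (h2 : ∀ x ∈ T, s₂ * x * s₂⁻¹ ∈ T) (h2' : ∀ x ∈ T, s₂⁻¹ * x * s₂ ∈ T)
    (hs : Commute s₁ s₂) (h12 : E.cm s₁ s₂ = 1)
    (hsep : ∀ x ∈ T, ∀ y ∈ T, ⁅s₁, x⁆ * ⁅s₂, y⁆ = 1 → ⁅s₁, x⁆ = 1 ∧ ⁅s₂, y⁆ = 1)
    (hf1 : ∀ x ∈ T, ⁅s₁, x⁆ = 1 → E.cm s₁ x ^ 2 = 1)
    (hf2 : ∀ x ∈ T, ⁅s₂, x⁆ = 1 → E.cm s₂ x ^ 2 = 1) :
    ∀ z ∈ σ.ker, z ∈ ⁅H.comap σ, H.comap σ⁆ → Odd (orderOf z) → z = 1 := by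
  intro z hz hzH hodd
  set a := E.s s₁ with ha
  set b := E.s s₂ with hb
  have hσa : σ a = s₁ := E.map_s _
  have hσb : σ b = s₂ := E.map_s _
  have hab : Commute a b := E.commute_of_cm (by rw [hσa, hσb]; exact h12)
  have hcC : ∀ k ∈ σ.ker, ∀ x : Γ, x * k = k * x := fun k hk x =>
    Subgroup.mem_center_iff.1 (E.central hk) x
  let K0 : Subgroup Γ :=
    { carrier := {k | k ∈ σ.ker ∧ k ^ 2 = 1}
      one_mem' := ⟨one_mem _, one_pow 2⟩
      mul_mem' := fun {k l} hk hl => ⟨mul_mem hk.1 hl.1, by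
        rw [(show Commute k l from hcC l hl.1 k).mul_pow, hk.2, hl.2, one_mul]⟩
      inv_mem' := fun {k} hk => ⟨inv_mem hk.1, by rw [inv_pow, hk.2, inv_one]⟩ }
  have hTc : ∀ x y : Γ, σ x ∈ T → σ y ∈ T → ⁅x, y⁆ ∈ K0 := fun x y hx hy => by
    refine ⟨?_, by rw [E.cm_eq]; exact hc _ hx _ hy⟩
    rw [MonoidHom.mem_ker, map_commutatorElement, commutatorElement_eq_one_iff_mul_comm]
    exact (hT _ hx _ hy).eq
  have hσconj : ∀ g x : Γ, σ (g * x * g⁻¹) = σ g * σ x * (σ g)⁻¹ := fun g x => by simp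
  have hTa : ∀ x : Γ, σ x ∈ T → σ (a * x * a⁻¹) ∈ T := fun x hx => by
    rw [hσconj, hσa]; exact h1 _ hx
  have hTb : ∀ x : Γ, σ x ∈ T → σ (b * x * b⁻¹) ∈ T := fun x hx => by
    rw [hσconj, hσb]; exact h2 _ hx
  have hTca : ∀ x : Γ, σ x ∈ T → σ ⁅a, x⁆ ∈ T := fun x hx => by
    rw [commutatorElement_def, map_mul, map_inv]; exact mul_mem (hTa x hx) (inv_mem hx)
  have hTcb : ∀ x : Γ, σ x ∈ T → σ ⁅b, x⁆ ∈ T := fun x hx => by
    rw [commutatorElement_def, map_mul, map_inv]; exact mul_mem (hTb x hx) (inv_mem hx)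
  -- elements of the preimage of `T` commute up to `K0`
  have swap : ∀ x y : Γ, σ x ∈ T → σ y ∈ T → ∃ k ∈ K0, x * y = y * x * k := fun x y hx hy => by
    refine ⟨⁅x⁻¹, y⁻¹⁆, hTc _ _ (by rw [map_inv]; exact inv_mem hx) (by rw [map_inv]; exact inv_mem hy), ?_⟩
    rw [commutatorElement_def]; group
  have mulc : ∀ s x y : Γ, (∀ x, σ x ∈ T → σ ⁅s, x⁆ ∈ T) → σ x ∈ T → σ y ∈ T →
      ∃ k ∈ K0, ⁅s, x⁆ * ⁅s, y⁆ = ⁅s, x * y⁆ * k := by
    intro s x y hs hx hy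
    obtain ⟨k, hk, e⟩ := swap ⁅s, y⁆ x (hs y hy) hx
    refine ⟨k⁻¹, inv_mem hk, ?_⟩
    have e1 : ⁅s, x * y⁆ = ⁅s, x⁆ * x * ⁅s, y⁆ * x⁻¹ := by simp only [commutatorElement_def]; group
    have e2 : x * ⁅s, y⁆ = ⁅s, y⁆ * x * k⁻¹ := by rw [e]; group
    rw [e1, mul_assoc ⁅s, x⁆ x, e2, mul_assoc ⁅s, x⁆,
      show ⁅s, y⁆ * x * k⁻¹ * x⁻¹ = ⁅s, y⁆ * (x * k⁻¹ * x⁻¹) by group,
      hcC _ (inv_mem hk.1) x, mul_inv_cancel_right, ← mul_assoc, mul_assoc (⁅s, x⁆ * ⁅s, y⁆),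
      show k⁻¹ * k⁻¹ = (1 : Γ) by rw [← pow_two, inv_pow, hk.2, inv_one], mul_one]
  let M : Subgroup Γ :=
    { carrier := {g | ∃ x y k : Γ, σ x ∈ T ∧ σ y ∈ T ∧ k ∈ K0 ∧ g = ⁅a, x⁆ * ⁅b, y⁆ * k}
      one_mem' := ⟨1, 1, 1, by rw [map_one]; exact one_mem _, by rw [map_one]; exact one_mem _,
        one_mem _, by simp⟩
      mul_mem' := by
        rintro _ _ ⟨x, y, k, hx, hy, hk, rfl⟩ ⟨x', y', k', hx', hy', hk', rfl⟩
        obtain ⟨c1, hc1, e1⟩ := swap ⁅b, y⁆ ⁅a, x'⁆ (hTcb y hy) (hTca x' hx')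
        obtain ⟨c2, hc2, e2⟩ := mulc a x x' hTca hx hx'
        obtain ⟨c3, hc3, e3⟩ := mulc b y y' hTcb hy hy'
        refine ⟨x * x', y * y', c2 * c3 * (c1 * k * k'), by rw [map_mul]; exact mul_mem hx hx',
          by rw [map_mul]; exact mul_mem hy hy',
          mul_mem (mul_mem hc2 hc3) (mul_mem (mul_mem hc1 hk) hk'), ?_⟩
        have z1 := hcC k hk.1
        have z2 := hcC c1 hc1.1
        have z3 := hcC c2 hc2.1
        calc ⁅a, x⁆ * ⁅b, y⁆ * k * (⁅a, x'⁆ * ⁅b, y'⁆ * k')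
            = ⁅a, x⁆ * (⁅b, y⁆ * ⁅a, x'⁆) * ⁅b, y'⁆ * (k * k') := by
              rw [mul_assoc (⁅a, x⁆ * ⁅b, y⁆) k, ← mul_assoc k, ← z1]; group
          _ = ⁅a, x⁆ * ⁅a, x'⁆ * (⁅b, y⁆ * ⁅b, y'⁆) * (c1 * k * k') := by
              rw [e1, show ⁅a, x⁆ * (⁅a, x'⁆ * ⁅b, y⁆ * c1) * ⁅b, y'⁆ =
                ⁅a, x⁆ * ⁅a, x'⁆ * ⁅b, y⁆ * (c1 * ⁅b, y'⁆) by group, ← z2]
              group
          _ = ⁅a, x * x'⁆ * ⁅b, y * y'⁆ * (c2 * c3 * (c1 * k * k')) := by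
              rw [e2, e3, show ⁅a, x * x'⁆ * c2 * (⁅b, y * y'⁆ * c3) =
                ⁅a, x * x'⁆ * (c2 * ⁅b, y * y'⁆) * c3 by group, ← z3]
              group
      inv_mem' := by
        rintro _ ⟨x, y, k, hx, hy, hk, rfl⟩
        have hx' : σ x⁻¹ ∈ T := by rw [map_inv]; exact inv_mem hx
        have hy' : σ y⁻¹ ∈ T := by rw [map_inv]; exact inv_mem hy
        obtain ⟨c1, hc1, e1⟩ := mulc a x⁻¹ x hTca hx' hx
        obtain ⟨c2, hc2, e2⟩ := mulc b y⁻¹ y hTcb hy' hy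
        rw [inv_mul_cancel, commutatorElement_one_right, one_mul] at e1 e2
        have f1 : ⁅a, x⁆⁻¹ = c1⁻¹ * ⁅a, x⁻¹⁆ := inv_eq_of_mul_eq_one_left (by
          rw [mul_assoc, e1, inv_mul_cancel])
        have f2 : ⁅b, y⁆⁻¹ = c2⁻¹ * ⁅b, y⁻¹⁆ := inv_eq_of_mul_eq_one_left (by
          rw [mul_assoc, e2, inv_mul_cancel])
        obtain ⟨c3, hc3, e3⟩ := swap ⁅b, y⁻¹⁆ ⁅a, x⁻¹⁆ (hTcb _ hy') (hTca _ hx')
        refine ⟨x⁻¹, y⁻¹, c3 * (c1⁻¹ * c2⁻¹ * k⁻¹), hx', hy',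
          mul_mem hc3 (mul_mem (mul_mem (inv_mem hc1) (inv_mem hc2)) (inv_mem hk)), ?_⟩
        have z1 := hcC c1⁻¹ (inv_mem hc1.1)
        have z2 := hcC c2⁻¹ (inv_mem hc2.1)
        have zk := hcC k⁻¹ (inv_mem hk.1)
        calc (⁅a, x⁆ * ⁅b, y⁆ * k)⁻¹ = k⁻¹ * (c2⁻¹ * ⁅b, y⁻¹⁆ * (c1⁻¹ * ⁅a, x⁻¹⁆)) := by
              rw [_root_.mul_inv_rev, _root_.mul_inv_rev, f1, f2]
          _ = ⁅b, y⁻¹⁆ * ⁅a, x⁻¹⁆ * (c1⁻¹ * c2⁻¹ * k⁻¹) := by
              rw [← z1 ⁅a, x⁻¹⁆, ← z2 ⁅b, y⁻¹⁆, ← zk, mul_assoc ⁅b, y⁻¹⁆ c2⁻¹,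
                ← mul_assoc c2⁻¹ ⁅a, x⁻¹⁆, ← z2 ⁅a, x⁻¹⁆, mul_assoc ⁅a, x⁻¹⁆ c2⁻¹, ← z1 c2⁻¹]
              group
          _ = _ := by rw [e3]; group }
  have hMT : ∀ g ∈ M, σ g ∈ T := by
    rintro _ ⟨x, y, k, hx, hy, hk, rfl⟩
    rw [map_mul, map_mul, MonoidHom.mem_ker.1 hk.1, mul_one]
    exact mul_mem (hTca x hx) (hTcb y hy)
  have hK0M : ∀ k ∈ K0, k ∈ M := fun k hk =>
    ⟨1, 1, k, by rw [map_one]; exact one_mem _, by rw [map_one]; exact one_mem _, hk, by simp⟩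
  have hMa : ∀ g, Commute g a → Commute g b → (∀ x : Γ, σ x ∈ T → σ (g * x * g⁻¹) ∈ T) →
      ∀ w ∈ M, g * w * g⁻¹ ∈ M := by
    rintro g ga gb hg _ ⟨x, y, k, hx, hy, hk, rfl⟩
    refine ⟨g * x * g⁻¹, g * y * g⁻¹, k, hg x hx, hg y hy, hk, ?_⟩
    have e : ∀ s x : Γ, Commute g s → g * ⁅s, x⁆ * g⁻¹ = ⁅s, g * x * g⁻¹⁆ := by
      intro s x hs
      have hss : g * s * g⁻¹ = s := by rw [hs.eq, mul_inv_cancel_right]
      calc g * ⁅s, x⁆ * g⁻¹ = ⁅g * s * g⁻¹, g * x * g⁻¹⁆ := by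
            simp only [commutatorElement_def]; group
        _ = _ := by rw [hss]
    rw [← e a x ga, ← e b y gb,
      show g * (⁅a, x⁆ * ⁅b, y⁆ * k) * g⁻¹ = g * ⁅a, x⁆ * g⁻¹ * (g * ⁅b, y⁆ * g⁻¹) * (g * k * g⁻¹) by
        group, hcC k hk.1 g, mul_inv_cancel_right]
  have hTai : ∀ x : Γ, σ x ∈ T → σ (a⁻¹ * x * a⁻¹⁻¹) ∈ T := fun x hx => by
    rw [hσconj, map_inv, hσa, inv_inv]; exact h1' _ hx
  have hTbi : ∀ x : Γ, σ x ∈ T → σ (b⁻¹ * x * b⁻¹⁻¹) ∈ T := fun x hx => by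
    rw [hσconj, map_inv, hσb, inv_inv]; exact h2' _ hx
  set S : Set Γ := {x | σ x ∈ T} ∪ {a, b} with hS
  have hclo : H.comap σ ≤ closure S := by
    intro g hg
    have hg' : σ g ∈ (closure S).map σ := by
      refine ?_
      refine hH.trans ?_ hg
      rw [closure_le]
      rintro x (hx | rfl | rfl)
      · obtain ⟨y, rfl⟩ := E.surj x
        exact ⟨y, Subgroup.subset_closure (Or.inl hx), rfl⟩
      · exact ⟨a, Subgroup.subset_closure (Or.inr (Or.inl rfl)), hσa⟩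
      · exact ⟨b, Subgroup.subset_closure (Or.inr (Or.inr rfl)), hσb⟩
    obtain ⟨y, hy, hyg⟩ := hg'
    have hk : y⁻¹ * g ∈ closure S := Subgroup.subset_closure (Or.inl (by
      show σ (y⁻¹ * g) ∈ T
      rw [map_mul, map_inv, hyg, inv_mul_cancel]; exact one_mem _))
    rw [show g = y * (y⁻¹ * g) by group]
    exact mul_mem hy hk
  have hle : ⁅H.comap σ, H.comap σ⁆ ≤ M := by
    refine (Subgroup.commutator_mono hclo hclo).trans (commutator_closure_le _ M ?_ ?_ ?_)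
    · rintro s (hs | rfl | rfl) w hw
      · obtain ⟨k, hk, e⟩ := swap s w hs (hMT w hw)
        rw [e, mul_assoc w s k, hcC k hk.1 s, ← mul_assoc, mul_inv_cancel_right]
        exact mul_mem hw (hK0M k hk)
      · exact hMa _ (Commute.refl _) hab hTa w hw
      · exact hMa _ hab.symm (Commute.refl _) hTb w hw
    · rintro s (hs | rfl | rfl) w hw
      · obtain ⟨k, hk, e⟩ := swap w s (hMT w hw) hs
        rw [mul_assoc, e, show s⁻¹ * (s * w * k) = w * k by group]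
        exact mul_mem hw (hK0M k hk)
      · simpa using hMa _ (Commute.refl a).inv_left hab.inv_left hTai w hw
      · simpa using hMa _ hab.symm.inv_left (Commute.refl b).inv_left hTbi w hw
    · have hA : ∀ x, σ x ∈ T → ⁅a, x⁆ ∈ M := fun x hx =>
        ⟨x, 1, 1, hx, by rw [map_one]; exact one_mem _, one_mem _, by simp⟩
      have hB : ∀ x, σ x ∈ T → ⁅b, x⁆ ∈ M := fun x hx =>
        ⟨1, x, 1, by rw [map_one]; exact one_mem _, hx, one_mem _, by simp⟩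
      have hAB : ⁅a, b⁆ = 1 := commutatorElement_eq_one_iff_mul_comm.2 hab.eq
      rintro s (hs | rfl | rfl) t (ht | rfl | rfl)
      · exact hK0M _ (hTc _ _ hs ht)
      · rw [← commutatorElement_inv]; exact inv_mem (hA _ hs)
      · rw [← commutatorElement_inv]; exact inv_mem (hB _ hs)
      · exact hA _ ht
      · rw [commutatorElement_self]; exact one_mem M
      · rw [hAB]; exact one_mem M
      · exact hB _ ht
      · rw [← commutatorElement_inv, hAB, inv_one]; exact one_mem M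
      · rw [commutatorElement_self]; exact one_mem M
  obtain ⟨x, y, k, hx, hy, hk, rfl⟩ := hle hzH
  have he : ⁅s₁, σ x⁆ * ⁅s₂, σ y⁆ = 1 := by
    rw [← hσa, ← hσb, ← map_commutatorElement, ← map_commutatorElement, ← map_mul]
    have := MonoidHom.mem_ker.1 hz
    rwa [map_mul, MonoidHom.mem_ker.1 hk.1, mul_one] at this
  obtain ⟨e1, e2⟩ := hsep _ hx _ hy he
  have q1 : ⁅a, x⁆ ∈ K0 := ⟨by rw [MonoidHom.mem_ker, map_commutatorElement, hσa, e1],
    by rw [E.cm_eq, hσa]; exact hf1 _ hx e1⟩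
  have q2 : ⁅b, y⁆ ∈ K0 := ⟨by rw [MonoidHom.mem_ker, map_commutatorElement, hσb, e2],
    by rw [E.cm_eq, hσb]; exact hf2 _ hy e2⟩
  have hz2 := (mul_mem (mul_mem q1 q2) hk : _ ∈ K0).2
  obtain ⟨i, hi⟩ := hodd
  have hp := pow_orderOf_eq_one (⁅a, x⁆ * ⁅b, y⁆ * k)
  rwa [hi, pow_succ, pow_mul, hz2, one_pow, one_mul] at hp

end Cfsg.Agent.SuMult50
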